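import Cfsg.Agent.Lib.Helper23.SylowEmbed

namespace Cfsg.Agent.Lib.Helper23

/-- A simple non-commutative group with a proper subgroup of index `k` has order dividing `k!`. -/
theorem card_dvd_factorial_index {G : Type*} [Group G] [Finite G] [IsSimpleGroup G]
    (hG : ¬ IsMulCommutative G) (H : Subgroup G) (hH : H ≠ ⊤) :
    Nat.card G ∣ (H.index).factorial := by
  obtain ⟨f, hf⟩ := Cfsg.Agent.S0991.result hG H hH
  have h1 : Nat.card G = Nat.card ↥(f.range) := Nat.card_congr (Equiv.ofInjective f hf)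
  have h2 : Nat.card ↥(f.range) ∣ Nat.card ↥(alternatingGroup (Fin H.index)) :=
    Subgroup.card_subgroup_dvd_card _
  have h3 : Nat.card ↥(alternatingGroup (Fin H.index)) ∣ Nat.card (Equiv.Perm (Fin H.index)) :=
    Subgroup.card_subgroup_dvd_card _
  have h4 : Nat.card (Equiv.Perm (Fin H.index)) = (H.index).factorial := by
    rw [Nat.card_eq_fintype_card, Fintype.card_perm, Fintype.card_fin]
  rw [h1, ← h4]
  exact h2.trans h3

/-- A commutative subgroup normalizes each of its subgroups. -/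
theorem le_normalizer_of_comm {G : Type*} [Group G] (R D : Subgroup G) (hDR : D ≤ R)
    (hcomm : ∀ a ∈ R, ∀ b ∈ R, a * b = b * a) : R ≤ Subgroup.normalizer (D : Set G) := by
  intro x hx
  rw [Subgroup.mem_normalizer_iff]
  intro d
  have hc : ∀ x ∈ R, ∀ d ∈ D, x * d * x⁻¹ = d := by
    intro x hx d hd
    rw [hcomm x hx d (hDR hd), mul_inv_cancel_right]
  constructor
  · intro hd
    rw [hc x hx d hd]; exact hd
  · intro hd
    have := hc x⁻¹ (inv_mem hx) _ hd
    have h3 : x⁻¹ * (x * d * x⁻¹) * x⁻¹⁻¹ = d := by group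
    rw [h3] at this
    rw [this]; exact hd

/-- A subgroup `N` containing two distinct Sylow `p`-subgroups `P`, `R` of `G`: the number `d` of
its Sylow `p`-subgroups is `≡ 1 mod p`, greater than `1`, and `|P| * d ∣ |N|`. -/
theorem exists_card_sylow_of_two_le {G : Type*} [Group G] [Finite G] (p : ℕ) [Fact p.Prime]
    (P R : Sylow p G) (hne : P ≠ R) (N : Subgroup G) (hP : (P : Subgroup G) ≤ N)
    (hR : (R : Subgroup G) ≤ N) :
    ∃ d, d ≡ 1 [MOD p] ∧ 1 < d ∧ Nat.card ↥(P : Subgroup G) * d ∣ Nat.card ↥N := by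
  refine ⟨Nat.card (Sylow p ↥N), card_sylow_modEq_one p ↥N, ?_, ?_⟩
  · rw [Finite.one_lt_card_iff_nontrivial]
    refine ⟨⟨P.subtype hP, R.subtype hR, ?_⟩⟩
    intro h
    exact hne (Sylow.subtype_injective h)
  · have h1 := Sylow.card_dvd_index (P.subtype hP)
    have h2 := Subgroup.card_mul_index ((P.subtype hP : Sylow p ↥N) : Subgroup ↥N)
    have h3 : Nat.card ↥((P.subtype hP : Sylow p ↥N) : Subgroup ↥N) = Nat.card ↥(P : Subgroup G) := by
      rw [Sylow.coe_subtype]
      exact Nat.card_congr (Subgroup.subgroupOfEquivOfLe hP).toEquiv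
    rw [h3] at h2
    rw [← h2]
    exact Nat.mul_dvd_mul_left _ h1

/-- `|H| * [G : H] = |G|` with the index on the left. -/
theorem index_mul_card' {G : Type*} [Group G] (H : Subgroup G) :
    H.index * Nat.card ↥H = Nat.card G := by
  rw [mul_comm]; exact Subgroup.card_mul_index H

/-- the order of `P ⊓ R` times the index of `R.subgroupOf P` is the order of `P`. -/
theorem card_inf_mul_index_subgroupOf {G : Type*} [Group G] (P R : Subgroup G) :
    Nat.card ↥(P ⊓ R) * (R.subgroupOf P).index = Nat.card ↥P := by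
  rw [← Subgroup.card_mul_index (R.subgroupOf P)]
  congr 1
  rw [← Subgroup.inf_subgroupOf_right R P, inf_comm P R]
  exact (Nat.card_congr (Subgroup.subgroupOfEquivOfLe (inf_le_right : R ⊓ P ≤ P)).toEquiv).symm

end Cfsg.Agent.Lib.Helper23
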