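import Mathlib

/-!
# Orders of the terms of the lower central series of a finite `p`-group
-/

namespace Cfsg.Agent.Lib.Helper23.PGroupLCS

open Subgroup
open scoped commutatorElement

variable {Q : Type*} [Group Q]

/-- `M i` is the `i`-th term of the lower central series (`M 0 = ⊤`). -/
abbrev M (Q : Type*) [Group Q] (i : ℕ) : Subgroup Q := (⊤ : Subgroup Q).lowerCentralSeries i

theorem M_succ (i : ℕ) : M Q (i + 1) = ⁅M Q i, (⊤ : Subgroup Q)⁆ := rfl

theorem M_succ_le (i : ℕ) : M Q (i + 1) ≤ M Q i :=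
  Subgroup.lowerCentralSeries_antitone _ (Nat.le_succ i)

instance M_normal (i : ℕ) : (M Q i).Normal := by
  have : (M Q i).Characteristic := Subgroup.lowerCentralSeries_characteristic _ i
  exact Subgroup.normal_of_characteristic _

/-- In a nilpotent group the lower central series is strictly decreasing until it reaches `⊥`. -/
theorem M_eq_bot_of_le [hnil : Group.IsNilpotent Q] (i : ℕ) (h : M Q i ≤ M Q (i + 1)) :
    M Q i = ⊥ := by
  obtain ⟨c, hc⟩ := Subgroup.nilpotent_iff_lowerCentralSeries.mp hnil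
  have key : ∀ k, M Q i ≤ M Q (i + k) := by
    intro k
    induction k with
    | zero => exact le_rfl
    | succ k ih =>
      have h1 : M Q (i + 1) ≤ M Q (i + k + 1) := by
        rw [M_succ, M_succ]
        exact Subgroup.commutator_mono ih le_rfl
      exact h.trans h1
  have h2 := key c
  have h3 : M Q (i + c) ≤ M Q c := Subgroup.lowerCentralSeries_antitone _ (Nat.le_add_left c i)
  have h4 : M Q i ≤ ⊥ := by
    have h5 : M Q c = ⊥ := hc
    rw [← h5]
    exact h2.trans h3
  exact le_bot_iff.mp h4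

theorem M_lt [Group.IsNilpotent Q] (i : ℕ) (h : M Q i ≠ ⊥) : M Q (i + 1) < M Q i :=
  lt_of_le_of_ne (M_succ_le i) (fun heq => h (M_eq_bot_of_le i (le_of_eq heq.symm)))

theorem M_eq_bot_of_eq_bot (i : ℕ) (h : M Q i = ⊥) : M Q (i + 1) = ⊥ :=
  le_bot_iff.mp (h ▸ M_succ_le i)

/-- A nilpotent group with cyclic abelianization is abelian. -/
theorem commutator_eq_bot_of_isCyclic [Group.IsNilpotent Q] (hc : IsCyclic (Q ⧸ commutator Q)) :
    commutator Q = ⊥ := by
  have h1 : M Q 1 = commutator Q := rfl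
  have hle : M Q 2 ≤ M Q 1 := M_succ_le 1
  let f : Q ⧸ M Q 2 →* Q ⧸ commutator Q :=
    QuotientGroup.map (M Q 2) (commutator Q) (MonoidHom.id Q) (by
      intro x hx
      exact hle hx)
  have hker : f.ker ≤ Subgroup.center (Q ⧸ M Q 2) := by
    intro q hq
    obtain ⟨x, rfl⟩ := QuotientGroup.mk_surjective q
    rw [MonoidHom.mem_ker] at hq
    have hx : x ∈ commutator Q := by
      have : f (QuotientGroup.mk x) = QuotientGroup.mk x := rfl
      rw [this] at hq
      exact (QuotientGroup.eq_one_iff x).mp hq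
    rw [Subgroup.mem_center_iff]
    intro r
    obtain ⟨y, rfl⟩ := QuotientGroup.mk_surjective r
    have hcomm : ⁅x⁻¹, y⁻¹⁆ ∈ M Q 2 := by
      rw [show M Q 2 = ⁅M Q 1, (⊤ : Subgroup Q)⁆ from rfl, h1]
      exact Subgroup.commutator_mem_commutator (inv_mem hx) (Subgroup.mem_top _)
    rw [← QuotientGroup.mk_mul, ← QuotientGroup.mk_mul, QuotientGroup.eq]
    have : (y * x)⁻¹ * (x * y) = ⁅x⁻¹, y⁻¹⁆ := by
      rw [commutatorElement_def]; group
    rw [this]
    exact hcomm
  have hcomm : IsMulCommutative (Q ⧸ M Q 2) :=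
    MonoidHom.isMulCommutative_of_isCyclic_of_ker_le_center f hker
  have h2 : commutator Q ≤ M Q 2 := by
    rw [← Subgroup.Normal.quotient_commutative_iff_commutator_le]
    exact hcomm
  rw [← h1]
  exact M_eq_bot_of_le 1 (h1 ▸ h2)

section pgroup

variable [Finite Q] {p : ℕ} [hp : Fact p.Prime]

/-- a proper subgroup of a `p`-group: `p * |H| ∣ |K|`. -/
theorem p_mul_card_dvd_of_lt (hQ : IsPGroup p Q) {H K : Subgroup Q} (h : H < K) :
    p * Nat.card H ∣ Nat.card K := by
  obtain ⟨a, ha⟩ := IsPGroup.iff_card.mp (hQ.to_subgroup H)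
  obtain ⟨b, hb⟩ := IsPGroup.iff_card.mp (hQ.to_subgroup K)
  have hdvd : Nat.card H ∣ Nat.card K := Subgroup.card_dvd_of_le h.le
  rw [ha, hb] at hdvd ⊢
  have hab : a ≤ b := (Nat.pow_dvd_pow_iff_le_right hp.out.one_lt).mp hdvd
  have hne : a ≠ b := by
    intro heq
    have : H = K := Subgroup.eq_of_le_of_card_ge h.le (by rw [ha, hb, heq])
    exact h.ne this
  have : p * p ^ a = p ^ (a + 1) := by rw [pow_succ, mul_comm]
  rw [this]
  exact pow_dvd_pow p (by omega)

/-- In a `p`-group of order `p ^ r`, `r ≥ 2`, the commutator subgroup has index divisible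
by `p ^ 2`. -/
theorem card_commutator_mul_dvd (hQ : IsPGroup p Q) (r : ℕ) (hr : 2 ≤ r)
    (hcard : Nat.card Q = p ^ r) : Nat.card (commutator Q) * p ^ 2 ∣ p ^ r := by
  have hnil : Group.IsNilpotent Q := hQ.isNilpotent
  have hp' := hp.out
  have hidx := Subgroup.card_mul_index (commutator Q)
  rw [hcard] at hidx
  have hdvd : (commutator Q).index ∣ p ^ r := Dvd.intro_left _ hidx
  obtain ⟨k, hk, hk'⟩ := (Nat.dvd_prime_pow hp').mp hdvd
  have hnt : Nontrivial Q := by
    rw [← Finite.one_lt_card_iff_nontrivial, hcard]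
    exact Nat.one_lt_pow (by omega) hp'.one_lt
  have h2k : 2 ≤ k := by
    by_contra hcon
    have hk01 : k = 0 ∨ k = 1 := by omega
    rcases hk01 with h0 | h1
    · rw [h0, pow_zero, Subgroup.index_eq_one] at hk'
      have hM : M Q 0 ≤ M Q 1 := by
        show (⊤ : Subgroup Q) ≤ commutator Q
        rw [hk']
      have := M_eq_bot_of_le 0 hM
      have h3 : (⊤ : Subgroup Q) = ⊥ := this
      exact top_ne_bot h3
    · rw [h1, pow_one] at hk'
      have hcardq : Nat.card (Q ⧸ commutator Q) = p := by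
        rw [← Subgroup.index_eq_card]; exact hk'
      have hcyc : IsCyclic (Q ⧸ commutator Q) := isCyclic_of_prime_card hcardq
      have hbot := commutator_eq_bot_of_isCyclic hcyc
      rw [hbot, Subgroup.index_bot, hcard] at hk'
      have : r = 1 := by
        have h4 : p ^ r = p ^ 1 := by rw [hk', pow_one]
        exact Nat.pow_right_injective hp'.two_le h4
      omega
  rw [← hidx, hk']
  exact Nat.mul_dvd_mul_left _ (pow_dvd_pow p h2k)

/-- the basic estimate on the orders of the lower central series. -/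
theorem card_M_mul_dvd (hQ : IsPGroup p Q) (r : ℕ) (hr : 2 ≤ r) (hcard : Nat.card Q = p ^ r) :
    ∀ i, 1 ≤ i → i ≤ r - 1 → Nat.card (M Q i) * p ^ (i + 1) ∣ p ^ r := by
  have hnil : Group.IsNilpotent Q := hQ.isNilpotent
  intro i hi
  induction i, hi using Nat.le_induction with
  | base =>
    intro _
    exact card_commutator_mul_dvd hQ r hr hcard
  | succ i hi ih =>
    intro hle
    have ih' := ih (by omega)
    by_cases hbot : M Q i = ⊥
    · rw [M_eq_bot_of_eq_bot i hbot, Subgroup.card_bot, one_mul]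
      exact pow_dvd_pow p (by omega)
    · have h1 := p_mul_card_dvd_of_lt hQ (M_lt i hbot)
      have h2 : Nat.card (M Q (i + 1)) * p ^ (i + 1 + 1) =
          (p * Nat.card (M Q (i + 1))) * p ^ (i + 1) := by
        rw [pow_succ p (i + 1)]; ring
      rw [h2]
      exact dvd_trans (Nat.mul_dvd_mul_right h1 _) ih'

/-- A group of order `p ^ r`, `r ≥ 2`, has class at most `r - 1`. -/
theorem M_eq_bot_of_card (hQ : IsPGroup p Q) (r : ℕ) (hr : 2 ≤ r) (hcard : Nat.card Q = p ^ r) :
    M Q (r - 1) = ⊥ := by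
  have h := card_M_mul_dvd hQ r hr hcard (r - 1) (by omega) le_rfl
  have e : r - 1 + 1 = r := by omega
  rw [e] at h
  have hpos : 0 < p ^ r := pow_pos hp.out.pos r
  have h1 : Nat.card (M Q (r - 1)) = 1 := by
    have h2 : Nat.card (M Q (r - 1)) * p ^ r ≤ p ^ r := Nat.le_of_dvd hpos h
    have h3 : 0 < Nat.card (M Q (r - 1)) := Nat.card_pos
    nlinarith
  exact Subgroup.card_eq_one.mp h1

/-- In a `p`-group of maximal class (order `p ^ n`, `M (n - 2) ≠ ⊥`), the orders of the
terms of the lower central series are forced. -/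
theorem card_M_of_maximal_class (hQ : IsPGroup p Q) (n : ℕ) (hn : 3 ≤ n)
    (hcard : Nat.card Q = p ^ n) (hmax : M Q (n - 2) ≠ ⊥) :
    ∀ i, 1 ≤ i → i ≤ n - 1 → Nat.card (M Q i) = p ^ (n - 1 - i) := by
  have hnil : Group.IsNilpotent Q := hQ.isNilpotent
  have hp' := hp.out
  have hup := card_M_mul_dvd hQ n (by omega) hcard
  -- propagation of a defect
  have hprop : ∀ i, 1 ≤ i → i ≤ n - 2 → Nat.card (M Q i) * p ^ (i + 2) ∣ p ^ n →
      ∀ j, i ≤ j → j ≤ n - 2 → Nat.card (M Q j) * p ^ (j + 2) ∣ p ^ n := by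
    intro i _ _ hdef j hij
    induction j, hij using Nat.le_induction with
    | base => intro _; exact hdef
    | succ j hj ih =>
      intro hle
      have ih' := ih (by omega)
      by_cases hbot : M Q j = ⊥
      · rw [M_eq_bot_of_eq_bot j hbot, Subgroup.card_bot, one_mul]
        exact pow_dvd_pow p (by omega)
      · have h1 := p_mul_card_dvd_of_lt hQ (M_lt j hbot)
        have h2 : Nat.card (M Q (j + 1)) * p ^ (j + 1 + 2) =
            (p * Nat.card (M Q (j + 1))) * p ^ (j + 2) := by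
          rw [show j + 1 + 2 = (j + 2) + 1 from rfl, pow_succ p (j + 2)]; ring
        rw [h2]
        exact dvd_trans (Nat.mul_dvd_mul_right h1 _) ih'
  intro i hi hle
  obtain ⟨b, hb⟩ := IsPGroup.iff_card.mp (hQ.to_subgroup (M Q i))
  have h1 := hup i hi hle
  rw [hb, ← pow_add] at h1
  have hb1 : b + (i + 1) ≤ n := (Nat.pow_dvd_pow_iff_le_right hp'.one_lt).mp h1
  rw [hb]
  congr 1
  by_contra hne
  have hlt : b + (i + 2) ≤ n := by omega
  -- then `i ≤ n - 2` and the defect propagates
  have hi2 : i ≤ n - 2 := by omega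
  have hdef : Nat.card (M Q i) * p ^ (i + 2) ∣ p ^ n := by
    rw [hb, ← pow_add]
    exact pow_dvd_pow p hlt
  have h2 := hprop i hi hi2 hdef (n - 2) hi2 le_rfl
  have e : n - 2 + 2 = n := by omega
  rw [e] at h2
  have hpos : 0 < p ^ n := pow_pos hp'.pos n
  have h3 : Nat.card (M Q (n - 2)) = 1 := by
    have h4 : Nat.card (M Q (n - 2)) * p ^ n ≤ p ^ n := Nat.le_of_dvd hpos h2
    have h5 : 0 < Nat.card (M Q (n - 2)) := Nat.card_pos
    nlinarith
  exact hmax (Subgroup.card_eq_one.mp h3)

end pgroup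

end Cfsg.Agent.Lib.Helper23.PGroupLCS
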