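import Mathlib
import Cfsg.Prelude.Def_OddOrderLocal
import Cfsg.Prelude.Def_Transfer
import Cfsg.Prelude.Def_CaseTheorems
import Cfsg.Agent.S1453
import Cfsg.Agent.Lib.Helper55.Uniq3
import Cfsg.Agent.Lib.Helper99.Thompson

/-!
# K-S1423-A: centralizers of elements of order `p` of `R'` have `p`-rank at least three
-/

set_option autoImplicit false
set_option linter.style.haveILetI false
universe u

namespace Cfsg.Agent.Lib.Helper23.BG1213
open Cfsg

/-- K-A -/
theorem not_pRankLE_two_centralizer_of_mem_commutator {R : Type u} [Group R] [Finite R] (p : ℕ) [Fact p.Prime]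
    (hp : p ≠ 2) (hR : IsPGroup p R) (hr : ¬ PRankLE p 2 R)
    (E : Subgroup R) (hE : IsElementaryAbelian p E) (hE2 : Nat.card E = p ^ 2)
    (hEmax : ∀ B : Subgroup R, IsElementaryAbelian p B → E ≤ B → B = E)
    (x : R) (hx : x ∈ commutator R) (hxp : x ^ p = 1) :
    ¬ PRankLE p 2 ↥(Subgroup.centralizer ({x} : Set R)) := by
  classical
  have hpp : p.Prime := Fact.out
  obtain ⟨-, -, ⟨hWea, hWcard⟩, hTchar, hTidx⟩ := Cfsg.Agent.S1453.result p hp hR hr E hE hE2 hEmax
  obtain ⟨W, hW⟩ : ∃ W : Subgroup R,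
      W = Subgroup.closure {x : R | x ∈ Subgroup.upperCentralSeries R 2 ∧ x ^ p = 1} := ⟨_, rfl⟩
  rw [← hW] at hWea hWcard hTchar hTidx
  obtain ⟨T, hT⟩ : ∃ T : Subgroup R, T = Subgroup.centralizer (W : Set R) := ⟨_, rfl⟩
  rw [← hT] at hTchar hTidx
  haveI hTn : T.Normal := Subgroup.normal_of_characteristic T
  have hWea' := (Cfsg.Agent.Lib.Helper99.isEA_iff W).mp hWea
  have hTmem : ∀ t : R, t ∈ T ↔ ∀ w ∈ W, w * t = t * w := by
    intro t
    rw [hT, Subgroup.mem_centralizer_iff]
    rfl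
  have hWT : W ≤ T := by
    intro w hw
    rw [hTmem]
    intro w' hw'
    exact hWea'.1 w' hw' w hw
  -- (i) R' ≤ T
  have hcomm : commutator R ≤ T := by
    have hquot : Nat.card (R ⧸ T) = p := by rw [← Subgroup.index_eq_card]; exact hTidx
    haveI : IsCyclic (R ⧸ T) := isCyclic_of_prime_card hquot
    rw [commutator_def, Subgroup.commutator_le]
    intro a _ b _
    rw [← QuotientGroup.eq_one_iff, commutatorElement_def, QuotientGroup.mk_mul, QuotientGroup.mk_mul,
      QuotientGroup.mk_mul, QuotientGroup.mk_inv, QuotientGroup.mk_inv]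
    have hab : (QuotientGroup.mk a : R ⧸ T) * QuotientGroup.mk b = QuotientGroup.mk b * QuotientGroup.mk a :=
      (IsCyclic.commGroup (α := R ⧸ T)).mul_comm _ _
    rw [hab]; group
  have hxT : x ∈ T := hcomm hx
  -- (ii) an elementary abelian subgroup of T of order > p^2
  unfold PRankLE at hr
  push Not at hr
  obtain ⟨B, hBc, hBp, hBcard⟩ := hr
  have hBea : IsElementaryAbelian p B := ⟨hBc, hBp⟩
  have hBea' := (Cfsg.Agent.Lib.Helper99.isEA_iff B).mp hBea
  have hB0ea : IsElementaryAbelian p (B ⊓ T) := Cfsg.Agent.Lib.Helper99.isEA_mono inf_le_left hBea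
  have hB0W : ∀ a ∈ B ⊓ T, ∀ w ∈ W, a * w = w * a := by
    intro a ha w hw
    exact ((hTmem a).mp ha.2 w hw).symm
  have hE1ea : IsElementaryAbelian p ((B ⊓ T) ⊔ W) := Cfsg.Agent.Lib.Helper99.isEA_sup hB0ea hWea hB0W
  have hE1T : (B ⊓ T) ⊔ W ≤ T := sup_le inf_le_right hWT
  have hE1card : p ^ 2 < Nat.card ↥((B ⊓ T) ⊔ W) := by
    by_contra hcon
    push Not at hcon
    have hWE1 : W = (B ⊓ T) ⊔ W := Subgroup.eq_of_le_of_card_ge le_sup_right (by rw [hWcard]; exact hcon)
    have hB0W' : B ⊓ T ≤ W := by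
      rw [hWE1]; exact le_sup_left
    -- cardinalities
    have h1 : Nat.card ↥((B ⊓ T).subgroupOf B) * ((B ⊓ T).subgroupOf B).index = Nat.card B :=
      Subgroup.card_mul_index _
    have h2 : Nat.card ↥((B ⊓ T).subgroupOf B) = Nat.card ↥(B ⊓ T) :=
      Nat.card_congr (Subgroup.subgroupOfEquivOfLe inf_le_left).toEquiv
    have h3 : ((B ⊓ T).subgroupOf B).index = T.relIndex B := by
      rw [← Subgroup.relIndex, Subgroup.inf_relIndex_left]
    have h4 : T.relIndex B ∣ p := by
      have := Subgroup.relIndex_dvd_index_of_normal T B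
      rwa [hTidx] at this
    have h5 : T.relIndex B ≤ p := Nat.le_of_dvd hpp.pos h4
    rw [h2, h3] at h1
    have h6 : p < Nat.card ↥(B ⊓ T) := by
      by_contra h6
      push Not at h6
      have : Nat.card B ≤ p * p := by
        rw [← h1]; exact Nat.mul_le_mul h6 h5
      rw [pow_two] at hBcard
      omega
    have h7 : Nat.card ↥(B ⊓ T) ∣ p ^ 2 := by
      rw [← hWcard]; exact Subgroup.card_dvd_of_le hB0W'
    obtain ⟨j, hj, hj'⟩ := (Nat.dvd_prime_pow hpp).mp h7
    have hj2 : j = 2 := by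
      interval_cases j
      · rw [hj', pow_zero] at h6; have := hpp.pos; omega
      · rw [hj', pow_one] at h6; omega
      · rfl
    rw [hj2] at hj'
    have hB0eqW : B ⊓ T = W :=
      Subgroup.eq_of_le_of_card_ge hB0W' (by rw [hWcard, hj'])
    have hWB : W ≤ B := by rw [← hB0eqW]; exact inf_le_left
    have hBT : B ≤ T := by
      intro b hb
      rw [hTmem]
      intro w hw
      exact hBea'.1 w (hWB hw) b hb
    have : B ⊓ T = B := inf_eq_left.mpr hBT
    rw [this] at hj'
    rw [hj'] at hBcard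
    exact lt_irrefl _ hBcard
  rw [Cfsg.Agent.Lib.Helper55.not_pRankLE_sub_iff]
  by_cases hxW : x ∈ W
  · refine ⟨(B ⊓ T) ⊔ W, ?_, ((Cfsg.Agent.Lib.Helper99.isEA_iff _).mp hE1ea).1,
      ((Cfsg.Agent.Lib.Helper99.isEA_iff _).mp hE1ea).2, hE1card⟩
    intro e he
    rw [Subgroup.mem_centralizer_iff]
    intro h hh
    rw [Set.mem_singleton_iff] at hh
    subst hh
    exact (hTmem e).mp (hE1T he) h hxW
  · have hzea : IsElementaryAbelian p (Subgroup.zpowers x) := by
      rw [Cfsg.Agent.Lib.Helper99.isEA_iff]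
      constructor
      · rintro a ⟨i, rfl⟩ b ⟨j, rfl⟩
        exact ((Commute.refl x).zpow_zpow i j).eq
      · rintro a ⟨i, rfl⟩
        rw [← zpow_natCast, ← zpow_mul, mul_comm, zpow_mul, zpow_natCast, hxp, one_zpow]
    have hWz : ∀ w ∈ W, ∀ b ∈ Subgroup.zpowers x, w * b = b * w := by
      rintro w hw b ⟨i, rfl⟩
      have h1 : Commute w x := (hTmem x).mp hxT w hw
      exact (h1.zpow_right i).eq
    have hE2ea : IsElementaryAbelian p (W ⊔ Subgroup.zpowers x) :=
      Cfsg.Agent.Lib.Helper99.isEA_sup hWea hzea hWz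
    refine ⟨W ⊔ Subgroup.zpowers x, ?_, ((Cfsg.Agent.Lib.Helper99.isEA_iff _).mp hE2ea).1,
      ((Cfsg.Agent.Lib.Helper99.isEA_iff _).mp hE2ea).2, ?_⟩
    · apply sup_le
      · intro w hw
        rw [Subgroup.mem_centralizer_iff]
        intro h hh
        rw [Set.mem_singleton_iff] at hh
        subst hh
        exact ((hTmem h).mp hxT w hw).symm
      · rintro b ⟨i, rfl⟩
        rw [Subgroup.mem_centralizer_iff]
        intro h hh
        rw [Set.mem_singleton_iff] at hh
        subst hh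
        exact ((Commute.refl h).zpow_right i).eq
    · by_contra hcon
      push Not at hcon
      have hWE2 : W = W ⊔ Subgroup.zpowers x :=
        Subgroup.eq_of_le_of_card_ge le_sup_left (by rw [hWcard]; exact hcon)
      apply hxW
      rw [hWE2]
      exact (le_sup_right : Subgroup.zpowers x ≤ W ⊔ Subgroup.zpowers x) (Subgroup.mem_zpowers x)

end Cfsg.Agent.Lib.Helper23.BG1213
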