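import Mathlib

namespace Cfsg.Agent.Lib.Helper23

/-- Burnside's transfer theorem against simplicity: in a non-commutative simple group no Sylow
subgroup for a prime divisor of the order lies in the centre of its normalizer. -/
theorem false_of_normalizer_le_centralizer {G : Type*} [Group G] [Finite G] [IsSimpleGroup G]
    (hG : ¬ IsMulCommutative G) (p : ℕ) [Fact p.Prime] (hp : p ∣ Nat.card G) (P : Sylow p G)
    (hP : Subgroup.normalizer ((P : Subgroup G) : Set G) ≤
      Subgroup.centralizer ((P : Subgroup G) : Set G)) : False := by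
  have hc := MonoidHom.ker_transferSylow_isComplement' P hP
  have hn : (MonoidHom.transferSylow P hP).ker.Normal := MonoidHom.normal_ker _
  rcases hn.eq_bot_or_eq_top with h | h
  · rw [h, Subgroup.isComplement'_bot_left] at hc
    apply hG
    refine ⟨⟨fun a b => ?_⟩⟩
    have ha : a ∈ (P : Subgroup G) := by rw [hc]; trivial
    have hb : b ∈ (P : Subgroup G) := by rw [hc]; trivial
    exact (hP (Subgroup.le_normalizer ha) b hb).symm
  · rw [h, Subgroup.isComplement'_top_left] at hc
    exact P.ne_bot_of_dvd_card hp hc

/-- `[N_G(P) : C_G(P)]` divides `|P|!`. -/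
theorem relIndex_centralizer_normalizer_dvd {G : Type*} [Group G] (P : Subgroup G) [Finite ↥P] :
    (Subgroup.centralizer (P : Set G)).relIndex (Subgroup.normalizer (P : Set G)) ∣
      (Nat.card ↥P).factorial := by
  classical
  have key := Subgroup.card_dvd_of_injective _
    (QuotientGroup.kerLift_injective P.normalizerMonoidHom)
  rw [Subgroup.normalizerMonoidHom_ker, ← Subgroup.index, ← Subgroup.relIndex] at key
  have h2 : Nat.card (MulAut ↥P) ∣ Nat.card (Equiv.Perm ↥P) :=
    Subgroup.card_dvd_of_injective (MulAut.toPerm ↥P) (fun a b hab => by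
      apply MulEquiv.ext
      intro x
      exact congrArg (fun e : Equiv.Perm ↥P => e x) hab)
  have h3 : Nat.card (Equiv.Perm ↥P) = (Nat.card ↥P).factorial := by
    have := Fintype.ofFinite ↥P
    rw [Nat.card_eq_fintype_card, Fintype.card_perm, Nat.card_eq_fintype_card]
  rw [h3] at h2
  exact key.trans h2

/-- `[N_G(P) : C_G(P)]` is prime to `p` for an abelian Sylow `p`-subgroup `P`. -/
theorem not_dvd_relIndex_centralizer_normalizer {G : Type*} [Group G] [Finite G] (p : ℕ)
    [Fact p.Prime] (P : Sylow p G)
    (hP : (P : Subgroup G) ≤ Subgroup.centralizer ((P : Subgroup G) : Set G)) :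
    ¬ p ∣ (Subgroup.centralizer ((P : Subgroup G) : Set G)).relIndex
      (Subgroup.normalizer ((P : Subgroup G) : Set G)) := by
  intro h
  apply P.not_dvd_index
  refine h.trans ?_
  exact (Subgroup.relIndex_dvd_of_le_left _ hP).trans
    (Subgroup.relIndex_dvd_index_of_le Subgroup.le_normalizer)

end Cfsg.Agent.Lib.Helper23
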