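import Mathlib

namespace Cfsg.Agent.Lib.Helper23

/-- An element of a subgroup of prime order `p` other than `1` has order `p`. -/
theorem orderOf_eq_of_mem_of_card_eq_prime {G : Type*} [Group G] (p : ℕ) [Fact p.Prime]
    (H : Subgroup G) (hH : Nat.card ↥H = p) {g : G} (hg : g ∈ H) (hg1 : g ≠ 1) : orderOf g = p := by
  have : Finite ↥H := Nat.finite_of_card_ne_zero (by rw [hH]; exact (Fact.out : p.Prime).ne_zero)
  have h1 : orderOf g ∣ p := by
    rw [← hH]
    exact Subgroup.orderOf_dvd_natCard _ hg
  rcases (Nat.dvd_prime Fact.out).mp h1 with h | h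
  · exact absurd (orderOf_eq_one_iff.mp h) hg1
  · exact h

/-- A subgroup of prime order `p` is generated by any of its elements other than `1`. -/
theorem zpowers_eq_of_mem_of_card_eq_prime {G : Type*} [Group G] (p : ℕ) [Fact p.Prime]
    (H : Subgroup G) (hH : Nat.card ↥H = p) {g : G} (hg : g ∈ H) (hg1 : g ≠ 1) :
    Subgroup.zpowers g = H := by
  have : Finite ↥H := Nat.finite_of_card_ne_zero (by rw [hH]; exact (Fact.out : p.Prime).ne_zero)
  apply Subgroup.eq_of_le_of_card_ge
  · rw [Subgroup.zpowers_le]; exact hg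
  · rw [Nat.card_zpowers, orderOf_eq_of_mem_of_card_eq_prime p H hH hg hg1, hH]

/-- If the Sylow `p`-subgroups have order `p`, then the elements of order `p` number
`n_p * (p - 1)`. -/
theorem card_orderOf_eq_prime {G : Type*} [Group G] [Finite G] (p : ℕ) [Fact p.Prime]
    (hP : ∀ P : Sylow p G, Nat.card ↥(P : Subgroup G) = p) :
    Nat.card {g : G // orderOf g = p} = Nat.card (Sylow p G) * (p - 1) := by
  classical
  have := Fintype.ofFinite G
  have : Fintype (Sylow p G) := Fintype.ofFinite _
  have key : (Finset.univ.filter (fun g : G => orderOf g = p)) =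
      Finset.univ.biUnion (fun P : Sylow p G =>
        (Finset.univ.filter (fun g : G => g ∈ (P : Subgroup G))).erase 1) := by
    ext g
    simp only [Finset.mem_filter, Finset.mem_univ, true_and, Finset.mem_biUnion, Finset.mem_erase]
    constructor
    · intro hg
      have hpg : IsPGroup p (Subgroup.zpowers g) :=
        IsPGroup.of_card (n := 1) (by rw [Nat.card_zpowers, hg, pow_one])
      obtain ⟨P, hP'⟩ := hpg.exists_le_sylow
      refine ⟨P, ?_, hP' (Subgroup.mem_zpowers g)⟩
      rintro rfl
      rw [orderOf_one] at hg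
      exact (Fact.out : p.Prime).one_lt.ne hg
    · rintro ⟨P, hg1, hgP⟩
      exact orderOf_eq_of_mem_of_card_eq_prime p P (hP P) hgP hg1
  rw [Nat.card_eq_fintype_card, Fintype.card_subtype, key, Finset.card_biUnion]
  · rw [Finset.sum_const_nat (m := p - 1)]
    · simp [Nat.card_eq_fintype_card]
    · intro P _
      rw [Finset.card_erase_of_mem (by simp)]
      congr 1
      have h3 := hP P
      rw [Nat.card_eq_fintype_card, Fintype.card_subtype] at h3
      exact h3
  · intro P _ Q _ hPQ
    show Disjoint _ _
    rw [Finset.disjoint_left]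
    intro g hgP hgQ
    simp only [Finset.mem_erase, ne_eq, Finset.mem_filter, Finset.mem_univ, true_and] at hgP hgQ
    apply hPQ
    apply Sylow.ext
    rw [← zpowers_eq_of_mem_of_card_eq_prime p P (hP P) hgP.2 hgP.1,
      ← zpowers_eq_of_mem_of_card_eq_prime p Q (hP Q) hgQ.2 hgQ.1]

/-- All Sylow `p`-subgroups have the same order. -/
theorem sylow_card_eq {G : Type*} [Group G] [Finite G] (p : ℕ) [Fact p.Prime] (P Q : Sylow p G) :
    Nat.card ↥(P : Subgroup G) = Nat.card ↥(Q : Subgroup G) := by
  rw [Sylow.card_eq_multiplicity, Sylow.card_eq_multiplicity]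

/-- `|N_G(P)| * n_p = |G|`. -/
theorem card_normalizer_mul_card_sylow {G : Type*} [Group G] [Finite G] (p : ℕ) [Fact p.Prime]
    (P : Sylow p G) :
    Nat.card ↥(Subgroup.normalizer ((P : Subgroup G) : Set G)) * Nat.card (Sylow p G) =
      Nat.card G := by
  rw [Sylow.card_eq_index_normalizer P]
  exact Subgroup.card_mul_index _

/-- `n_p = [G : N_G(P)]`, with the normalizer written through the coercion to `Subgroup`. -/
theorem card_sylow_eq_index_normalizer' {G : Type*} [Group G] [Finite G] (p : ℕ) [Fact p.Prime]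
    (P : Sylow p G) :
    Nat.card (Sylow p G) = (Subgroup.normalizer ((P : Subgroup G) : Set G)).index :=
  Sylow.card_eq_index_normalizer P

end Cfsg.Agent.Lib.Helper23
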