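import Cfsg.Agent.S0989
import Cfsg.Agent.S0990
import Cfsg.Agent.S0991
import Cfsg.Agent.Lib.Helper23.SylowCount

namespace Cfsg.Agent.Lib.Helper23

/-- If `|G| = p^k * m` with `p ∤ m` then the Sylow `p`-subgroups have order `p^k`. -/
theorem sylow_card_of_card_eq {G : Type*} [Group G] [Finite G] (p k m : ℕ) [Fact p.Prime]
    (h : Nat.card G = p ^ k * m) (hm : ¬ p ∣ m) (P : Sylow p G) :
    Nat.card ↥(P : Subgroup G) = p ^ k := by
  have hp : p.Prime := Fact.out
  have hm0 : m ≠ 0 := by rintro rfl; exact hm (dvd_zero p)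
  rw [Sylow.card_eq_multiplicity, h, Nat.factorization_mul (pow_ne_zero _ hp.ne_zero) hm0]
  simp only [Finsupp.coe_add, Pi.add_apply, Nat.factorization_pow, Finsupp.coe_smul, Pi.smul_apply,
    smul_eq_mul]
  rw [hp.factorization_self, Nat.factorization_eq_zero_of_not_dvd hm]
  simp

/-- If `|G| = p^k * m` with `p ∤ m` then `n_p ∣ m`. -/
theorem card_sylow_dvd_of_card_eq {G : Type*} [Group G] [Finite G] (p k m : ℕ) [Fact p.Prime]
    (h : Nat.card G = p ^ k * m) (hm : ¬ p ∣ m) : Nat.card (Sylow p G) ∣ m := by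
  have hp : p.Prime := Fact.out
  obtain ⟨P⟩ : Nonempty (Sylow p G) := inferInstance
  have h1 := Sylow.card_dvd_index P
  have h2 := Subgroup.card_mul_index (P : Subgroup G)
  rw [sylow_card_of_card_eq p k m h hm P, h] at h2
  have h3 : (P : Subgroup G).index = m :=
    Nat.eq_of_mul_eq_mul_left (pow_pos hp.pos k) h2
  rwa [h3] at h1

/-- `n_p = 1` implies that the Sylow `p`-subgroup is normal. -/
theorem sylow_normal_of_card_eq_one {G : Type*} [Group G] [Finite G] (p : ℕ) [Fact p.Prime]
    (h : Nat.card (Sylow p G) = 1) (P : Sylow p G) : (P : Subgroup G).Normal := by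
  rw [Sylow.card_eq_index_normalizer P, Subgroup.index_eq_one] at h
  exact Subgroup.normalizer_eq_top_iff.mp h

/-- A simple group has no normal Sylow subgroup that is proper and nontrivial. -/
theorem card_sylow_ne_one_of_simple {G : Type*} [Group G] [Finite G] [IsSimpleGroup G] (p : ℕ)
    [Fact p.Prime] (P : Sylow p G) (h1 : Nat.card ↥(P : Subgroup G) ≠ 1)
    (h2 : Nat.card ↥(P : Subgroup G) ≠ Nat.card G) : Nat.card (Sylow p G) ≠ 1 := by
  intro h
  have hn := sylow_normal_of_card_eq_one p h P
  rcases hn.eq_bot_or_eq_top with h' | h'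
  · apply h1; rw [h']; simp
  · apply h2; rw [h']; simp

/-- A simple group whose order is not prime is not commutative. -/
theorem not_isMulCommutative_of_simple {G : Type*} [Group G] [Finite G] [IsSimpleGroup G]
    (h : ¬ (Nat.card G).Prime) : ¬ IsMulCommutative G := by
  intro hc
  apply h
  let _ : CommGroup G := { (inferInstance : Group G) with mul_comm := hc.is_comm.comm }
  exact IsSimpleGroup.prime_card

/-- If `G` embeds in the alternating group of degree `p` or `p + 1` and its Sylow `p`-subgroups
have order `p` (`p` odd), then `2 * |N_G(P)|` divides `p * (p - 1)`. -/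
theorem two_mul_card_normalizer_dvd {G : Type*} [Group G] [Finite G] (p : ℕ) [Fact p.Prime]
    (hp2 : p ≠ 2) (P : Sylow p G) (hP : Nat.card ↥(P : Subgroup G) = p)
    {α : Type*} [Fintype α] [DecidableEq α]
    (hα : Fintype.card α = p ∨ Fintype.card α = p + 1)
    (f : G →* ↥(alternatingGroup α)) (hf : Function.Injective f) :
    2 * Nat.card ↥(Subgroup.normalizer ((P : Subgroup G) : Set G)) ∣ p * (p - 1) := by
  have hp : p.Prime := Fact.out
  set P' : Subgroup ↥(alternatingGroup α) := (P : Subgroup G).map f with hP'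
  have hcP' : Nat.card ↥P' = p := by rw [hP', Subgroup.card_map_of_injective hf, hP]
  set P'' : Subgroup (Equiv.Perm α) := P'.map (alternatingGroup α).subtype with hP''
  have hcP'' : Nat.card ↥P'' = p := by
    rw [hP'', Subgroup.card_map_of_injective (alternatingGroup α).subtype_injective, hcP']
  have hpg : IsPGroup p ↥P'' := IsPGroup.of_card (n := 1) (by rw [hcP'', pow_one])
  obtain ⟨Q, hQ⟩ := hpg.exists_le_sylow
  have hcardG : Nat.card (Equiv.Perm α) = (Fintype.card α).factorial := by
    rw [Nat.card_eq_fintype_card, Fintype.card_perm]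
  have hcQ : Nat.card ↥(Q : Subgroup (Equiv.Perm α)) = p := by
    rw [Sylow.card_eq_multiplicity, hcardG]
    rcases hα with h | h
    · rw [h, Cfsg.Agent.S0989.factorization_factorial_self p hp, pow_one]
    · rw [h, Cfsg.Agent.S0989.factorization_factorial_succ_self p hp, pow_one]
  have hQeq : P'' = (Q : Subgroup (Equiv.Perm α)) :=
    Subgroup.eq_of_le_of_card_ge hQ (by rw [hcQ, hcP''])
  have hα2 : 2 ≤ Fintype.card α := by
    have := hp.two_le
    rcases hα with h | h <;> omega
  obtain ⟨hQA, h2⟩ := Cfsg.Agent.S0990.result hα2 p hp2 Q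
  have h3 := Cfsg.Agent.S0989.result p hα Q
  rw [h3] at h2
  have h4 : (Q : Subgroup (Equiv.Perm α)).subgroupOf (alternatingGroup α) = P' := by
    rw [← hQeq, hP'', Subgroup.subgroupOf]
    exact Subgroup.comap_map_eq_self_of_injective (alternatingGroup α).subtype_injective P'
  rw [h4] at h2
  rw [← h2]
  apply Nat.mul_dvd_mul_left
  have h5 : (Subgroup.normalizer ((P : Subgroup G) : Set G)).map f ≤
      Subgroup.normalizer (P' : Set ↥(alternatingGroup α)) := Subgroup.le_normalizer_map f
  have h6 := Subgroup.card_dvd_of_le h5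
  rwa [Subgroup.card_map_of_injective hf] at h6

end Cfsg.Agent.Lib.Helper23
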