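import Mathlib

open MulAction

namespace Cfsg.Agent.Lib.Helper23

theorem card_eq_sum_card_orbits (H : Type*) [Group H] (X : Type*) [MulAction H X] [Finite X] :
    Nat.card X = ∑ᶠ ω : orbitRel.Quotient H X, Nat.card ω.orbit := by
  classical
  have := Fintype.ofFinite X
  have : Fintype (orbitRel.Quotient H X) := Fintype.ofFinite _
  rw [Nat.card_congr (selfEquivSigmaOrbits' H X), Nat.card_sigma, finsum_eq_sum_of_fintype]

/-- If a group `H` acts on a finite set `X`, fixing `x₀`, and every other orbit has size divisible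
by `m`, then `|X| ≡ 1 mod m`. -/
theorem card_modEq_one_of_dvd_card_orbit (H : Type*) [Group H] (X : Type*) [MulAction H X]
    [Finite X] (m : ℕ) (x₀ : X) (h₀ : ∀ h : H, h • x₀ = x₀)
    (hm : ∀ x : X, x ≠ x₀ → m ∣ Nat.card (orbit H x)) : Nat.card X ≡ 1 [MOD m] := by
  classical
  have := Fintype.ofFinite X
  have : Fintype (orbitRel.Quotient H X) := Fintype.ofFinite _
  rw [Nat.card_congr (selfEquivSigmaOrbits' H X), Nat.card_sigma]
  rw [← Finset.add_sum_erase Finset.univ _ (Finset.mem_univ (Quotient.mk'' x₀ : orbitRel.Quotient H X))]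
  have h1 : Nat.card (orbitRel.Quotient.orbit (Quotient.mk'' x₀ : orbitRel.Quotient H X)) = 1 := by
    rw [orbitRel.Quotient.orbit_mk]
    have : orbit H x₀ = {x₀} := by
      ext y
      simp only [mem_orbit_iff, Set.mem_singleton_iff]
      constructor
      · rintro ⟨h, rfl⟩; exact h₀ h
      · rintro rfl; exact ⟨1, one_smul _ _⟩
    rw [this]
    simp
  rw [h1]
  have h2 : m ∣ ∑ ω ∈ Finset.univ.erase (Quotient.mk'' x₀ : orbitRel.Quotient H X),
      Nat.card (orbitRel.Quotient.orbit ω) := by
    apply Finset.dvd_sum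
    intro ω hω
    induction ω using Quotient.inductionOn' with
    | h x =>
      rw [orbitRel.Quotient.orbit_mk]
      apply hm
      rintro rfl
      simp at hω
  obtain ⟨c, hc⟩ := h2
  rw [hc]
  simp [Nat.ModEq]

end Cfsg.Agent.Lib.Helper23
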