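import Mathlib
import Cfsg.Agent.Lib.Helper23.N21.Parity
import Cfsg.Agent.Lib.Helper23.Orbits

/-!
# The permutation action of a simple group on its Sylow `p`-subgroups

Fixed point counts of elements on `Sylow p G`: congruences modulo `p`, modulo the order of the
element, parity (elements of a simple group act as even permutations), and the bound for
elements inverting a Sylow subgroup of prime order.
-/

namespace Cfsg.Agent.Lib.Helper23.SylowPerm

open MulAction Subgroup Cfsg.Agent.Lib.Helper23.N21

variable {G : Type*} [Group G] [Finite G] (p : ℕ) [Fact p.Prime]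

/-- In a simple group with more than one Sylow `p`-subgroup, only the identity fixes them all. -/
theorem eq_one_of_forall_smul [IsSimpleGroup G] (hne : Nat.card (Sylow p G) ≠ 1) (g : G)
    (hg : ∀ Q : Sylow p G, g • Q = Q) : g = 1 := by
  have hn : (MulAction.toPermHom G (Sylow p G)).ker.Normal := MonoidHom.normal_ker _
  rcases hn.eq_bot_or_eq_top with h | h
  · have : g ∈ (MulAction.toPermHom G (Sylow p G)).ker := by
      rw [MonoidHom.mem_ker]
      ext Q
      simp [hg Q]
    rw [h] at this
    exact Subgroup.mem_bot.mp this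
  · exfalso
    have hall : ∀ (x : G) (Q : Sylow p G), x • Q = Q := by
      intro x Q
      have hx : x ∈ (MulAction.toPermHom G (Sylow p G)).ker := by rw [h]; trivial
      rw [MonoidHom.mem_ker] at hx
      have := congrArg (fun e : Equiv.Perm (Sylow p G) => e Q) hx
      simpa using this
    obtain ⟨P⟩ : Nonempty (Sylow p G) := inferInstance
    have huniq : ∀ Q : Sylow p G, Q = P := by
      intro Q
      obtain ⟨x, rfl⟩ := MulAction.exists_smul_eq G P Q
      exact hall x P
    apply hne
    rw [Nat.card_eq_one_iff_unique]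
    exact ⟨⟨fun a b => (huniq a).trans (huniq b).symm⟩, ⟨P⟩⟩

/-- In a simple group of order greater than `2` every element acts on the Sylow `p`-subgroups
as an even permutation. -/
theorem sign_toPerm_eq_one [IsSimpleGroup G] [Fintype (Sylow p G)] [DecidableEq (Sylow p G)]
    (hcard : 2 < Nat.card G) (g : G) :
    Equiv.Perm.sign (MulAction.toPerm g : Equiv.Perm (Sylow p G)) = 1 := by
  set f : G →* ℤˣ := (Equiv.Perm.sign).comp (MulAction.toPermHom G (Sylow p G)) with hf
  have hn : f.ker.Normal := MonoidHom.normal_ker _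
  rcases hn.eq_bot_or_eq_top with h | h
  · exfalso
    have hinj : Function.Injective f := (MonoidHom.ker_eq_bot_iff f).mp h
    have h1 : Nat.card G ≤ Nat.card ℤˣ := Nat.card_le_card_of_injective f hinj
    have h2 : Nat.card ℤˣ = 2 := by
      rw [Nat.card_eq_fintype_card]; rfl
    omega
  · have hx : g ∈ f.ker := by rw [h]; trivial
    rw [MonoidHom.mem_ker] at hx
    exact hx

/-- An element `u` with `u ^ 2 = 1` of a simple group of order greater than `2` has a number of
fixed points on the Sylow `p`-subgroups that is congruent to their number modulo `4`. -/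
theorem card_fixedBy_involution [IsSimpleGroup G] (hcard : 2 < Nat.card G) (u : G)
    (hu2 : u ^ 2 = 1) :
    ∃ t : ℕ, Nat.card (fixedBy (Sylow p G) u) + 4 * t = Nat.card (Sylow p G) := by
  classical
  have := Fintype.ofFinite (Sylow p G)
  obtain ⟨t, ht⟩ := card_fixedBy_add (X := Sylow p G) u hu2 (sign_toPerm_eq_one p hcard u)
  exact ⟨t, by rw [ht, Nat.card_eq_fintype_card]⟩

/-- The fixed points of an element centralizing a Sylow `p`-subgroup number `1` modulo `p`. -/
theorem card_fixedBy_modEq_one (P : Sylow p G) (u : G)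
    (hu : u ∈ centralizer ((P : Subgroup G) : Set G)) :
    Nat.card (fixedBy (Sylow p G) u) ≡ 1 [MOD p] := by
  let X : SubMulAction ↥(P : Subgroup G) (Sylow p G) :=
    { carrier := fixedBy (Sylow p G) u
      smul_mem' := by
        intro c Q hQ
        rw [MulAction.mem_fixedBy] at hQ ⊢
        rw [Subgroup.smul_def, smul_smul, ← (Subgroup.mem_centralizer_iff.mp hu) c c.2,
          ← smul_smul, hQ] }
  have hmod := P.2.card_modEq_card_fixedPoints (↥X)
  have h1 : Nat.card ↥X = Nat.card (fixedBy (Sylow p G) u) := rfl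
  have hPmem : P ∈ fixedBy (Sylow p G) u := by
    rw [MulAction.mem_fixedBy, Sylow.smul_eq_iff_mem_normalizer]
    exact Subgroup.centralizer_le_normalizer _ hu
  have h2 : Nat.card (fixedPoints ↥(P : Subgroup G) ↥X) = 1 := by
    have key : ∀ z : fixedPoints ↥(P : Subgroup G) ↥X, ((z : ↥X) : Sylow p G) = P := by
      rintro ⟨⟨Q, hQ⟩, hQf⟩
      have : Q ∈ fixedPoints ↥(P : Subgroup G) (Sylow p G) := by
        intro c
        have := hQf c
        exact congrArg (fun z : ↥X => (z : Sylow p G)) this
      rw [P.2.sylow_mem_fixedPoints_iff] at this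
      exact Sylow.ext (P.is_maximal' Q.2 this)
    rw [Nat.card_eq_one_iff_unique]
    refine ⟨⟨fun a b => ?_⟩, ⟨⟨⟨P, hPmem⟩, ?_⟩⟩⟩
    · apply Subtype.ext
      apply Subtype.ext
      rw [key a, key b]
    · intro c
      apply Subtype.ext
      show ((c : G) • P : Sylow p G) = P
      rw [Sylow.smul_eq_iff_mem_normalizer]
      exact Subgroup.le_normalizer c.2
  rw [h1, h2] at hmod
  exact hmod

/-- The fixed points of an element of `r`-power order number `|Syl_p|` modulo `r`. -/
theorem card_fixedBy_modEq_card (r : ℕ) [Fact r.Prime] (u : G) (k : ℕ) (hu : orderOf u = r ^ k) :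
    Nat.card (Sylow p G) ≡ Nat.card (fixedBy (Sylow p G) u) [MOD r] := by
  have hpg : IsPGroup r (zpowers u) := by
    apply IsPGroup.of_card (n := k)
    rw [Nat.card_zpowers, hu]
  have hmod := hpg.card_modEq_card_fixedPoints (Sylow p G)
  have heq : fixedPoints (zpowers u) (Sylow p G) = fixedBy (Sylow p G) u := by
    ext Q
    constructor
    · intro h
      exact h ⟨u, mem_zpowers u⟩
    · intro h c
      have hc : (c : G) ∈ stabilizer G Q := by
        have hu' : u ∈ stabilizer G Q := h
        exact (zpowers_le.mpr hu') c.2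
      exact hc
  rw [heq] at hmod
  exact hmod

/-- A `p`-element normalizing a Sylow `p`-subgroup `Q` lies in `Q`. -/
theorem mem_of_mem_normalizer_of_mem_sylow (P Q : Sylow p G) (y : G) (hy : y ∈ (P : Subgroup G))
    (hyQ : y • Q = Q) : y ∈ (Q : Subgroup G) := by
  rw [Sylow.smul_eq_iff_mem_normalizer] at hyQ
  have h1 : y ∈ (P : Subgroup G) ⊓ normalizer (Q : Set G) := ⟨hy, hyQ⟩
  rw [P.2.inf_normalizer_sylow Q] at h1
  exact h1.2

/-- If `u` inverts a Sylow `p`-subgroup `P` of odd prime order `p`, then `u` fixes at most one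
point in each orbit of `P` on the Sylow `p`-subgroups: `p * (fix u - 1) ≤ n_p - 1`. -/
theorem mul_card_fixedBy_le_of_inverts (P : Sylow p G) (hP : Nat.card ↥(P : Subgroup G) = p)
    (hp2 : p ≠ 2) (u : G) (hinv : ∀ x ∈ (P : Subgroup G), u * x * u⁻¹ = x⁻¹) :
    p * (Nat.card (fixedBy (Sylow p G) u) - 1) ≤ Nat.card (Sylow p G) - 1 := by
  classical
  let A := {Q : Sylow p G // Q ∈ fixedBy (Sylow p G) u ∧ Q ≠ P}
  let B := {Q : Sylow p G // Q ≠ P}
  have hstabP : ∀ x ∈ (P : Subgroup G), x • P = P := by
    intro x hx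
    rw [Sylow.smul_eq_iff_mem_normalizer]
    exact Subgroup.le_normalizer hx
  let φ : ↥(P : Subgroup G) × A → B := fun z =>
    ⟨(z.1 : G) • (z.2 : Sylow p G), by
      intro h
      apply z.2.2.2
      have h1 : (z.1 : G)⁻¹ • ((z.1 : G) • (z.2 : Sylow p G)) = (z.1 : G)⁻¹ • P := congrArg _ h
      rw [smul_smul, inv_mul_cancel, one_smul, hstabP _ (inv_mem z.1.2)] at h1
      exact h1⟩
  have hφ : Function.Injective φ := by
    rintro ⟨x, ⟨Q, hQ, hQP⟩⟩ ⟨x', ⟨Q', hQ', hQP'⟩⟩ h
    have h0 : (x : G) • Q = (x' : G) • Q' := congrArg Subtype.val h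
    set y : G := (x' : G)⁻¹ * (x : G) with hy
    have hyP : y ∈ (P : Subgroup G) := mul_mem (inv_mem x'.2) x.2
    have hQ'eq : Q' = y • Q := by
      rw [hy, mul_smul, h0, smul_smul, inv_mul_cancel, one_smul]
    have hinv' : u⁻¹ * y * u = y⁻¹ := by
      have := hinv y⁻¹ (inv_mem hyP)
      rw [inv_inv] at this
      calc u⁻¹ * y * u = u⁻¹ * (u * y⁻¹ * u⁻¹) * u := by rw [this]
        _ = y⁻¹ := by group
    have hA : u⁻¹ * y⁻¹ * u = y := by
      calc u⁻¹ * y⁻¹ * u = (u⁻¹ * y * u)⁻¹ := by group
        _ = y := by rw [hinv', inv_inv]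
    have hy2 : (y * y) • Q = Q := by
      have h1 : u • (y • Q) = y • Q := by rw [← hQ'eq]; exact hQ'
      have h2 : u • Q = Q := hQ
      have h2' : u⁻¹ • Q = Q := by
        have := congrArg (fun Z => u⁻¹ • Z) h2
        simp only [smul_smul, inv_mul_cancel, one_smul] at this
        exact this.symm
      calc (y * y) • Q = (u⁻¹ * y⁻¹ * u * y) • Q := by rw [hA]
        _ = u⁻¹ • y⁻¹ • u • y • Q := by rw [mul_smul, mul_smul, mul_smul]
        _ = u⁻¹ • y⁻¹ • y • Q := by rw [h1]
        _ = Q := by rw [smul_smul y⁻¹ y, inv_mul_cancel, one_smul, h2']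
    have hyy : y * y ∈ (Q : Subgroup G) :=
      mem_of_mem_normalizer_of_mem_sylow p P Q _ (mul_mem hyP hyP) hy2
    have hy1 : y = 1 := by
      by_contra hne
      have hyy1 : y * y ≠ 1 := by
        intro h1
        have ho : orderOf y ∣ 2 := orderOf_dvd_of_pow_eq_one (by rw [pow_two]; exact h1)
        have ho' : orderOf y ∣ p := by
          rw [← hP]
          have := orderOf_dvd_natCard (⟨y, hyP⟩ : ↥(P : Subgroup G))
          rwa [Subgroup.orderOf_mk] at this
        have hp : p.Prime := Fact.out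
        have hcop : Nat.Coprime 2 p := (Nat.coprime_primes Nat.prime_two hp).mpr (Ne.symm hp2)
        have := Nat.eq_one_of_dvd_coprimes hcop ho ho'
        exact hne (orderOf_eq_one_iff.mp this)
      -- `y * y` generates `P`, so `P ≤ Q`
      apply hQP
      have hle : (P : Subgroup G) ≤ Q := by
        have hz : zpowers (y * y) = (P : Subgroup G) := by
          have hmem : y * y ∈ (P : Subgroup G) := mul_mem hyP hyP
          have hle' : zpowers (y * y) ≤ (P : Subgroup G) := zpowers_le.mpr hmem
          apply Subgroup.eq_of_le_of_card_ge hle'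
          rw [hP, Nat.card_zpowers]
          have hp : p.Prime := Fact.out
          have ho' : orderOf (y * y) ∣ p := by
            rw [← hP]
            have := orderOf_dvd_natCard (⟨y * y, hmem⟩ : ↥(P : Subgroup G))
            rwa [Subgroup.orderOf_mk] at this
          rcases (Nat.dvd_prime hp).mp ho' with h1 | h1
          · exact absurd (orderOf_eq_one_iff.mp h1) hyy1
          · exact h1.ge
        rw [← hz]
        exact zpowers_le.mpr hyy
      exact (Sylow.ext (P.is_maximal' Q.2 hle))
    have hxx : x = x' := by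
      apply Subtype.ext
      have : (x' : G)⁻¹ * (x : G) = 1 := hy1
      exact (inv_mul_eq_one.mp this).symm
    have hQQ : Q' = Q := by rw [hQ'eq, hy1, one_smul]
    subst hxx
    subst hQQ
    rfl
  have hcard := Nat.card_le_card_of_injective φ hφ
  have hB : Nat.card B = Nat.card (Sylow p G) - 1 := by
    have := Fintype.ofFinite (Sylow p G)
    rw [Nat.card_eq_fintype_card, Nat.card_eq_fintype_card, Fintype.card_subtype_compl,
      Fintype.card_subtype_eq]
  have hA : Nat.card A = Nat.card (fixedBy (Sylow p G) u) - 1 := by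
    have hPmem : P ∈ fixedBy (Sylow p G) u := by
      rw [MulAction.mem_fixedBy, Sylow.smul_eq_iff_mem_normalizer]
      show u ∈ normalizer ((P : Subgroup G) : Set G)
      rw [mem_normalizer_iff]
      intro h
      constructor
      · intro hh
        rw [hinv h hh]
        exact inv_mem hh
      · intro hh
        have h1 := hinv _ (inv_mem hh)
        rw [inv_inv] at h1
        have h2 : h = (u * h * u⁻¹)⁻¹ := by
          calc h = u⁻¹ * (u * h * u⁻¹) * u := by group
            _ = u⁻¹ * (u * (u * h * u⁻¹)⁻¹ * u⁻¹) * u := by rw [h1]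
            _ = (u * h * u⁻¹)⁻¹ := by group
        rw [h2]
        exact inv_mem hh
    have := Fintype.ofFinite (Sylow p G)
    let e : A ≃ {Q : {Q : Sylow p G // Q ∈ fixedBy (Sylow p G) u} // Q ≠ ⟨P, hPmem⟩} :=
      { toFun := fun Q => ⟨⟨Q.1, Q.2.1⟩, fun h => Q.2.2 (congrArg Subtype.val h)⟩
        invFun := fun Q => ⟨Q.1.1, Q.1.2, fun h => Q.2 (Subtype.ext h)⟩
        left_inv := fun Q => rfl
        right_inv := fun Q => rfl }
    rw [Nat.card_congr e, Nat.card_eq_fintype_card, Nat.card_eq_fintype_card,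
      Fintype.card_subtype_compl, Fintype.card_subtype_eq]
  rw [Nat.card_prod, hB, hA, hP] at hcard
  exact hcard

/-- Membership in a conjugate Sylow subgroup. -/
theorem mem_smul_iff (x g : G) (R : Sylow p G) :
    g ∈ ((x • R : Sylow p G) : Subgroup G) ↔ x⁻¹ * g * x ∈ (R : Subgroup G) := by
  rw [Sylow.coe_subgroup_smul, Subgroup.mem_pointwise_smul_iff_inv_smul_mem]
  simp [MulAut.smul_def]

/-- The centralizer of a conjugate Sylow subgroup. -/
theorem mem_centralizer_smul_iff (g w : G) (Q : Sylow p G) :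
    w ∈ centralizer (((g • Q : Sylow p G) : Subgroup G) : Set G) ↔
      g⁻¹ * w * g ∈ centralizer ((Q : Subgroup G) : Set G) := by
  rw [mem_centralizer_iff, mem_centralizer_iff]
  constructor
  · intro h x hx
    have hx' : g * x * g⁻¹ ∈ ((g • Q : Sylow p G) : Subgroup G) := by
      rw [mem_smul_iff]
      have : g⁻¹ * (g * x * g⁻¹) * g = x := by group
      rw [this]
      exact hx
    have := h _ hx'
    calc x * (g⁻¹ * w * g) = g⁻¹ * ((g * x * g⁻¹) * w) * g := by group
      _ = g⁻¹ * (w * (g * x * g⁻¹)) * g := by rw [this]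
      _ = g⁻¹ * w * g * x := by group
  · intro h x hx
    have hx' : g⁻¹ * x * g ∈ (Q : Subgroup G) := (mem_smul_iff p g x Q).mp hx
    have := h _ hx'
    calc x * w = g * ((g⁻¹ * x * g) * (g⁻¹ * w * g)) * g⁻¹ := by group
      _ = g * ((g⁻¹ * w * g) * (g⁻¹ * x * g)) * g⁻¹ := by rw [this]
      _ = w * x := by group

/-- The number of involutions in the centralizer of a Sylow `p`-subgroup does not depend on the
Sylow subgroup. -/
theorem card_involutions_centralizer_eq (P Q : Sylow p G) :
    Nat.card {k : G // k ∈ centralizer ((P : Subgroup G) : Set G) ∧ k ^ 2 = 1 ∧ k ≠ 1} =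
      Nat.card {k : G // k ∈ centralizer ((Q : Subgroup G) : Set G) ∧ k ^ 2 = 1 ∧ k ≠ 1} := by
  obtain ⟨g, rfl⟩ := MulAction.exists_smul_eq G P Q
  have hconj : ∀ (a k : G), (a * k * a⁻¹) ^ 2 = 1 ↔ k ^ 2 = 1 := by
    intro a k
    rw [conj_pow]
    constructor
    · intro h
      have : k ^ 2 = a⁻¹ * (a * k ^ 2 * a⁻¹) * a := by group
      rw [this, h]; group
    · intro h
      rw [h]; group
  refine Nat.card_congr
    { toFun := fun k => ⟨g * k.1 * g⁻¹, ?_, ?_, ?_⟩
      invFun := fun k => ⟨g⁻¹ * k.1 * g, ?_, ?_, ?_⟩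
      left_inv := fun k => Subtype.ext (by show g⁻¹ * (g * k.1 * g⁻¹) * g = k.1; group)
      right_inv := fun k => Subtype.ext (by show g * (g⁻¹ * k.1 * g) * g⁻¹ = k.1; group) }
  · rw [mem_centralizer_smul_iff]
    have : g⁻¹ * (g * k.1 * g⁻¹) * g = k.1 := by group
    rw [this]
    exact k.2.1
  · exact (hconj g k.1).mpr k.2.2.1
  · intro h
    apply k.2.2.2
    have : k.1 = g⁻¹ * (g * k.1 * g⁻¹) * g := by group
    rw [this, h]; group
  · exact (mem_centralizer_smul_iff p g k.1 P).mp k.2.1
  · have := (hconj g⁻¹ k.1).mpr k.2.2.1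
    rwa [inv_inv] at this
  · intro h
    apply k.2.2.2
    have : k.1 = g * (g⁻¹ * k.1 * g) * g⁻¹ := by group
    rw [this, h]; group

omit [Finite G] in
/-- A subgroup of even order contains an odd number of involutions. -/
theorem odd_card_involutions (H : Subgroup G) [Finite ↥H] (hH : Even (Nat.card ↥H)) :
    Odd (Nat.card {k : G // k ∈ H ∧ k ^ 2 = 1 ∧ k ≠ 1}) := by
  classical
  have := Fintype.ofFinite ↥H
  have : Fact (Nat.Prime 2) := ⟨Nat.prime_two⟩
  let f : Function.End ↥H := fun x => x⁻¹
  have hf : f ^ 2 ^ 1 = 1 := by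
    rw [pow_one, pow_two]
    funext x
    show (x⁻¹)⁻¹ = x
    exact inv_inv x
  have hmod := Equiv.Perm.card_fixedPoints_modEq (f := f) hf
  rw [← Nat.card_eq_fintype_card, ← Nat.card_eq_fintype_card] at hmod
  -- the fixed points are the identity together with the involutions
  have hfix : Nat.card ↥(Function.fixedPoints f) =
      Nat.card {k : G // k ∈ H ∧ k ^ 2 = 1 ∧ k ≠ 1} + 1 := by
    have h1 : (1 : ↥H) ∈ Function.fixedPoints f := by
      show ((1 : ↥H))⁻¹ = 1
      exact inv_one
    let e : {k : G // k ∈ H ∧ k ^ 2 = 1 ∧ k ≠ 1} ≃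
        {z : ↥(Function.fixedPoints f) // z ≠ ⟨1, h1⟩} :=
      { toFun := fun k => ⟨⟨⟨k.1, k.2.1⟩, by
            show (⟨k.1, k.2.1⟩ : ↥H)⁻¹ = ⟨k.1, k.2.1⟩
            apply Subtype.ext
            show k.1⁻¹ = k.1
            have := k.2.2.1
            rw [pow_two] at this
            exact inv_eq_of_mul_eq_one_left this⟩, by
            intro h
            apply k.2.2.2
            exact congrArg (fun z : ↥(Function.fixedPoints f) => ((z : ↥H) : G)) h⟩
        invFun := fun z => ⟨((z.1 : ↥H) : G), (z.1 : ↥H).2, by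
            have hz : ((z.1 : ↥H))⁻¹ = (z.1 : ↥H) := z.1.2
            have hz' : (((z.1 : ↥H) : G))⁻¹ = ((z.1 : ↥H) : G) := congrArg Subtype.val hz
            rw [pow_two]
            nth_rewrite 1 [← hz']
            exact inv_mul_cancel _, by
            intro h
            apply z.2
            apply Subtype.ext
            apply Subtype.ext
            exact h⟩
        left_inv := fun k => rfl
        right_inv := fun z => rfl }
    have := Fintype.ofFinite ↥(Function.fixedPoints f)
    rw [Nat.card_congr e, Nat.card_eq_fintype_card, Nat.card_eq_fintype_card,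
      Fintype.card_subtype_compl, Fintype.card_subtype_eq]
    have hpos : 0 < Fintype.card ↥(Function.fixedPoints f) := Fintype.card_pos_iff.mpr ⟨⟨1, h1⟩⟩
    omega
  rw [hfix] at hmod
  have h2 : Nat.card ↥H % 2 = 0 := Nat.even_iff.mp hH
  have h3 : (Nat.card {k : G // k ∈ H ∧ k ^ 2 = 1 ∧ k ≠ 1} + 1) % 2 = 0 := by
    rw [← hmod, h2]
  rw [Nat.odd_iff]
  omega

/-- **Double counting involutions against Sylow subgroups.**  If every involution centralizing
some Sylow `p`-subgroup centralizes exactly `f` of them, then `f` divides `n_p` times the number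
of involutions in the centralizer of a Sylow `p`-subgroup. -/
theorem dvd_card_sylow_mul_card_involutions (P : Sylow p G) (f : ℕ)
    (hf : ∀ k : G, k ^ 2 = 1 → k ≠ 1 →
      (∃ R : Sylow p G, k ∈ centralizer ((R : Subgroup G) : Set G)) →
      Nat.card {R : Sylow p G // k ∈ centralizer ((R : Subgroup G) : Set G)} = f) :
    f ∣ Nat.card (Sylow p G) *
      Nat.card {k : G // k ∈ centralizer ((P : Subgroup G) : Set G) ∧ k ^ 2 = 1 ∧ k ≠ 1} := by
  classical
  have := Fintype.ofFinite G
  have := Fintype.ofFinite (Sylow p G)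
  let t : Finset G := Finset.univ.filter (fun k => k ^ 2 = 1 ∧ k ≠ 1 ∧
    ∃ R : Sylow p G, k ∈ centralizer ((R : Subgroup G) : Set G))
  let r : Sylow p G → G → Prop := fun R k => k ∈ centralizer ((R : Subgroup G) : Set G)
  have key := Finset.card_mul_eq_card_mul r (s := (Finset.univ : Finset (Sylow p G))) (t := t)
    (m := Nat.card {k : G // k ∈ centralizer ((P : Subgroup G) : Set G) ∧ k ^ 2 = 1 ∧ k ≠ 1})
    (n := f) ?_ ?_
  · rw [Finset.card_univ, ← Nat.card_eq_fintype_card] at key
    exact ⟨t.card, by rw [key, mul_comm]⟩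
  · intro R _
    rw [card_involutions_centralizer_eq p P R, Nat.card_eq_fintype_card, Fintype.card_subtype]
    congr 1
    ext k
    simp only [Finset.bipartiteAbove, Finset.mem_filter, Finset.mem_univ, true_and, t, r]
    constructor
    · rintro ⟨⟨h1, h2, _⟩, h3⟩
      exact ⟨h3, h1, h2⟩
    · rintro ⟨h3, h1, h2⟩
      exact ⟨⟨h1, h2, R, h3⟩, h3⟩
  · intro k hk
    simp only [Finset.mem_filter, Finset.mem_univ, true_and, t] at hk
    rw [← hf k hk.1 hk.2.1 hk.2.2, Nat.card_eq_fintype_card, Fintype.card_subtype]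
    congr 1

omit [Finite G] in
/-- `[N_G(P) : C_G(P)]` divides `p - 1` for a subgroup `P` of prime order `p`. -/
theorem relIndex_centralizer_normalizer_dvd_pred (P : Subgroup G) (hP : Nat.card ↥P = p) :
    (centralizer (P : Set G)).relIndex (normalizer (P : Set G)) ∣ p - 1 := by
  classical
  have hp : p.Prime := Fact.out
  have : Finite ↥P := Nat.finite_of_card_ne_zero (by rw [hP]; exact hp.ne_zero)
  have : IsCyclic ↥P := isCyclic_of_prime_card hP
  have : Fact (Nat.card ↥P).Prime := ⟨by rw [hP]; exact hp⟩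
  have key := Subgroup.card_dvd_of_injective _
    (QuotientGroup.kerLift_injective P.normalizerMonoidHom)
  rw [Subgroup.normalizerMonoidHom_ker, ← Subgroup.index, ← Subgroup.relIndex] at key
  have h2 : Nat.card (MulAut ↥P) = p - 1 := by
    rw [Nat.card_congr (IsCyclic.mulAutMulEquiv ↥P).toEquiv, Nat.card_eq_fintype_card,
      ZMod.card_units_eq_totient, hP, Nat.totient_prime hp]
  rwa [h2] at key

omit [Finite G] in
/-- An element normalizing a subgroup `P` of prime order whose square centralizes `P` either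
centralizes `P` or inverts it. -/
theorem mem_centralizer_or_inverts (P : Subgroup G) (hP : Nat.card ↥P = p) (u : G)
    (hu : u ∈ normalizer (P : Set G)) (hu2 : u ^ 2 ∈ centralizer (P : Set G)) :
    u ∈ centralizer (P : Set G) ∨ ∀ x ∈ P, u * x * u⁻¹ = x⁻¹ := by
  have hp : p.Prime := Fact.out
  have : Finite ↥P := Nat.finite_of_card_ne_zero (by rw [hP]; exact hp.ne_zero)
  have hpow : ∀ x ∈ P, x ^ p = 1 := by
    intro x hx
    have := pow_card_eq_one' (G := ↥P) (x := ⟨x, hx⟩)
    rw [hP] at this
    exact congrArg Subtype.val this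
  have hzpow : ∀ x ∈ P, ∀ c : ℤ, (p : ℤ) ∣ c → x ^ c = 1 := by
    rintro x hx c ⟨d, rfl⟩
    rw [zpow_mul, zpow_natCast, hpow x hx, one_zpow]
  -- a generator
  obtain ⟨x₀, hx₀P, hx₀1⟩ : ∃ x₀ ∈ P, x₀ ≠ 1 := by
    by_contra hcon
    push Not at hcon
    have : P = ⊥ := (Subgroup.eq_bot_iff_forall P).mpr hcon
    rw [this, Subgroup.card_bot] at hP
    exact hp.one_lt.ne hP
  have hord : orderOf x₀ = p := by
    have h1 : orderOf x₀ ∣ p := orderOf_dvd_of_pow_eq_one (hpow x₀ hx₀P)
    rcases (Nat.dvd_prime hp).mp h1 with h | h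
    · exact absurd (orderOf_eq_one_iff.mp h) hx₀1
    · exact h
  have hgen : ∀ x ∈ P, ∃ m : ℤ, x₀ ^ m = x := by
    have hz : zpowers x₀ = P := by
      apply Subgroup.eq_of_le_of_card_ge (zpowers_le.mpr hx₀P)
      rw [hP, Nat.card_zpowers, hord]
    intro x hx
    rw [← hz] at hx
    exact Subgroup.mem_zpowers_iff.mp hx
  obtain ⟨a, ha⟩ := hgen (u * x₀ * u⁻¹) ((mem_normalizer_iff.mp hu x₀).mp hx₀P)
  have hall : ∀ x ∈ P, u * x * u⁻¹ = x ^ a := by
    intro x hx
    obtain ⟨m, rfl⟩ := hgen x hx
    have h1 : u * x₀ ^ m * u⁻¹ = (u * x₀ * u⁻¹) ^ m := (conj_zpow (a := u) (b := x₀) (i := m)).symm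
    rw [h1, ← ha, ← zpow_mul, ← zpow_mul, mul_comm]
  have hsq : x₀ ^ (a * a) = x₀ := by
    have h1 : u * (u * x₀ * u⁻¹) * u⁻¹ = x₀ ^ (a * a) := by
      rw [hall x₀ hx₀P, hall _ (zpow_mem hx₀P a), ← zpow_mul]
    have h2 : u * u * x₀ = x₀ * (u * u) := by
      have := ((mem_centralizer_iff.mp hu2) x₀ hx₀P).symm
      rwa [pow_two] at this
    rw [← h1]
    calc u * (u * x₀ * u⁻¹) * u⁻¹ = (u * u * x₀) * u⁻¹ * u⁻¹ := by group
      _ = (x₀ * (u * u)) * u⁻¹ * u⁻¹ := by rw [h2]
      _ = x₀ := by group
  have hdvd : (p : ℤ) ∣ (a - 1) * (a + 1) := by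
    have h1 : x₀ ^ (a * a - 1) = 1 := by
      rw [zpow_sub, zpow_one, hsq, mul_inv_cancel]
    have := (orderOf_dvd_iff_zpow_eq_one (x := x₀) (i := a * a - 1)).mpr h1
    rw [hord] at this
    have h2 : (a - 1) * (a + 1) = a * a - 1 := by ring
    rw [h2]
    exact this
  have hpz : Prime (p : ℤ) := Nat.prime_iff_prime_int.mp hp
  rcases hpz.dvd_or_dvd hdvd with h | h
  · left
    rw [mem_centralizer_iff]
    intro x hx
    have h1 := hall x hx
    have h2 : x ^ a = x := by
      have : x ^ a = x ^ (a - 1) * x := by rw [← zpow_add_one, sub_add_cancel]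
      rw [this, hzpow x hx _ h, one_mul]
    rw [h2] at h1
    calc x * u = (u * x * u⁻¹) * u := by rw [h1]
      _ = u * x := by group
  · right
    intro x hx
    rw [hall x hx]
    have : x ^ a = x ^ (a + 1) * x⁻¹ := by rw [zpow_add_one, mul_inv_cancel_right]
    rw [this, hzpow x hx _ h, one_mul]

/-- Let the Sylow `p`-subgroups have odd prime order `p`, and let the element `k`, of square `1`,
have so many fixed points on them that `n_p - 1 < p * (fix k - 1)`.  Then `k` centralizes every
Sylow `p`-subgroup it normalizes. -/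
theorem card_centralized_eq_card_fixedBy (hP : ∀ R : Sylow p G, Nat.card ↥(R : Subgroup G) = p)
    (hp2 : p ≠ 2) (k : G) (hk2 : k ^ 2 = 1)
    (hbig : Nat.card (Sylow p G) - 1 < p * (Nat.card (fixedBy (Sylow p G) k) - 1)) :
    Nat.card {R : Sylow p G // k ∈ centralizer ((R : Subgroup G) : Set G)} =
      Nat.card (fixedBy (Sylow p G) k) := by
  apply Nat.card_congr
  refine Equiv.subtypeEquivRight (fun R => ?_)
  constructor
  · intro h
    rw [MulAction.mem_fixedBy, Sylow.smul_eq_iff_mem_normalizer]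
    exact Subgroup.centralizer_le_normalizer _ h
  · intro h
    rw [MulAction.mem_fixedBy, Sylow.smul_eq_iff_mem_normalizer] at h
    rcases mem_centralizer_or_inverts p (R : Subgroup G) (hP R) k h
      (by rw [hk2]; exact one_mem _) with h1 | h1
    · exact h1
    · exfalso
      have := mul_card_fixedBy_le_of_inverts p R (hP R) hp2 k h1
      omega

/-- In a simple group with more than one Sylow `p`-subgroup, a non-identity element moves some
Sylow `p`-subgroup. -/
theorem card_fixedBy_lt [IsSimpleGroup G] (hne : Nat.card (Sylow p G) ≠ 1) (g : G) (hg : g ≠ 1) :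
    Nat.card (fixedBy (Sylow p G) g) < Nat.card (Sylow p G) := by
  by_contra hcon
  apply hg
  apply eq_one_of_forall_smul p hne
  intro Q
  by_contra hQ
  exact hcon (Finite.card_subtype_lt (p := fun Q => Q ∈ fixedBy (Sylow p G) g) (x := Q) hQ)

/-- `|C_G(P)| * [N_G(P) : C_G(P)] = |N_G(P)|`. -/
theorem card_centralizer_mul_relIndex (P : Subgroup G) :
    Nat.card ↥(centralizer (P : Set G)) *
      (centralizer (P : Set G)).relIndex (normalizer (P : Set G)) =
        Nat.card ↥(normalizer (P : Set G)) := by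
  have := Subgroup.relIndex_mul_relIndex ⊥ (centralizer (P : Set G)) (normalizer (P : Set G))
    bot_le (Subgroup.centralizer_le_normalizer _)
  rwa [Subgroup.relIndex_bot_left, Subgroup.relIndex_bot_left] at this

/-- Let `K` be an `r`-subgroup of `N_G(P)` all of whose elements of order `r` fix no Sylow
`p`-subgroup other than `P`.  Then `n_p ≡ 1` modulo `|K|`. -/
theorem card_sylow_modEq_one_of_semiregular (P : Sylow p G) (r : ℕ) [Fact r.Prime]
    (K : Subgroup G) (hK : IsPGroup r ↥K) (hKN : K ≤ normalizer ((P : Subgroup G) : Set G))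
    (hfix : ∀ s ∈ K, orderOf s = r → Nat.card (fixedBy (Sylow p G) s) = 1) :
    Nat.card (Sylow p G) ≡ 1 [MOD Nat.card ↥K] := by
  apply card_modEq_one_of_dvd_card_orbit ↥K (Sylow p G) (Nat.card ↥K) P
  · intro k
    rw [Subgroup.smul_def, Sylow.smul_eq_iff_mem_normalizer]
    exact hKN k.2
  · intro Q hQ
    have hos : Nat.card ↥(stabilizer ↥K Q) * Nat.card ↥(orbit ↥K Q) = Nat.card ↥K := by
      rw [Nat.card_coe_set_eq, ← MulAction.index_stabilizer]
      exact Subgroup.card_mul_index _
    have hst : Nat.card ↥(stabilizer ↥K Q) = 1 := by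
      by_contra hne
      have hpg : IsPGroup r ↥(stabilizer ↥K Q) := hK.to_subgroup _
      obtain ⟨n, hn⟩ := IsPGroup.iff_card.mp hpg
      have hn0 : n ≠ 0 := by
        rintro rfl
        rw [pow_zero] at hn
        exact hne hn
      have hr : r ∣ Nat.card ↥(stabilizer ↥K Q) := by
        rw [hn]
        exact dvd_pow_self r hn0
      obtain ⟨s, hs⟩ := exists_prime_orderOf_dvd_card' r hr
      have hs' : orderOf (((s : ↥K) : G)) = r := by
        rw [Subgroup.orderOf_coe, Subgroup.orderOf_coe]; exact hs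
      have h1 := hfix _ (s : ↥K).2 hs'
      have hP : P ∈ fixedBy (Sylow p G) ((s : ↥K) : G) := by
        rw [MulAction.mem_fixedBy, Sylow.smul_eq_iff_mem_normalizer]
        exact hKN (s : ↥K).2
      have hQ' : Q ∈ fixedBy (Sylow p G) ((s : ↥K) : G) := s.2
      have hsub : Subsingleton ↥(fixedBy (Sylow p G) ((s : ↥K) : G)) :=
        (Nat.card_eq_one_iff_unique.mp h1).1
      have := Subsingleton.elim (⟨P, hP⟩ : ↥(fixedBy (Sylow p G) ((s : ↥K) : G))) ⟨Q, hQ'⟩
      exact hQ (congrArg Subtype.val this).symm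
    rw [hst, one_mul] at hos
    rw [hos]

end Cfsg.Agent.Lib.Helper23.SylowPerm
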