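import Mathlib
import Cfsg.Agent.Lib.Helper73.RUDefs

set_option autoImplicit false

/-!
# Pack K-RU (S2280), leaf C: `mset_induction` (pure linear algebra)
-/

namespace Cfsg.Agent.Lib.Helper23.RU

open Matrix Cfsg.Agent.Lib.Helper73.RU

theorem mset_induction {m : ℕ} {F : Type*} [Field F] (M : Set (Fin (m + 3) → F))
    (A C : Matrix (Fin (m + 3)) (Fin (m + 3)) F) (μ : Fin (m + 3) → F) (l κ : F)
    (hl : ∀ x : F, x ≠ 0 → ∃ k : ℕ, x = l ^ (k + 1))
    (hκ : κ * μ 0 = l ∨ κ * μ 0 = -l) (hκ0 : κ ≠ 0) (hμ : ∀ j, μ j ≠ 0)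
    (h0 : (0 : Fin (m + 3) → F) ∈ M) (hadd : ∀ v w, v ∈ M → w ∈ M → v + w ∈ M)
    (hneg : ∀ v, v ∈ M → -v ∈ M)
    (hA : ∀ v, v ∈ M → A *ᵥ v ∈ M)
    (hC : ∀ v, v ∈ M → (C *ᵥ v) (Fin.last (m + 2)) = 0 → κ • (C *ᵥ v) ∈ M)
    (hz : l • (Pi.single 0 1 : Fin (m + 3) → F) ∈ M)
    (hA0 : A *ᵥ (Pi.single 0 1 : Fin (m + 3) → F) = Pi.single 0 1)
    (hA1 : A *ᵥ (Pi.single 1 1 : Fin (m + 3) → F) = Pi.single 1 1 + Pi.single 0 1)
    (hCj : ∀ (j : Fin (m + 3)) (hj : j.val + 1 < m + 3),
      C *ᵥ (Pi.single j 1 : Fin (m + 3) → F) = Pi.single j 1 + μ j • Pi.single ⟨j.val + 1, hj⟩ 1) :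
    ∀ v : Fin (m + 3) → F, v (Fin.last (m + 2)) = 0 → v ∈ M := by
  classical
  have hsub : ∀ v w, v ∈ M → w ∈ M → v - w ∈ M := by
    intro v w hv hw
    rw [sub_eq_add_neg]
    exact hadd v (-w) hv (hneg w hw)
  -- the general step: from `t • e_j ∈ M` get `κ • (t • e_j + (t * μ j) • e_(j+1)) ∈ M`
  have hstep : ∀ (j : Fin (m + 3)) (hj : j.val + 1 < m + 2) (t : F),
      t • (Pi.single j 1 : Fin (m + 3) → F) ∈ M →
      κ • (t • (Pi.single j 1 : Fin (m + 3) → F) +
        (t * μ j) • (Pi.single ⟨j.val + 1, by omega⟩ 1 : Fin (m + 3) → F)) ∈ M := by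
    intro j hj t ht
    have hj' : j.val + 1 < m + 3 := by omega
    have e1 : C *ᵥ (t • (Pi.single j 1 : Fin (m + 3) → F)) =
        t • (Pi.single j 1 : Fin (m + 3) → F) +
          (t * μ j) • (Pi.single ⟨j.val + 1, hj'⟩ 1 : Fin (m + 3) → F) := by
      rw [Matrix.mulVec_smul, hCj j hj', smul_add, smul_smul]
    have hlast : (C *ᵥ (t • (Pi.single j 1 : Fin (m + 3) → F))) (Fin.last (m + 2)) = 0 := by
      rw [e1]
      have n1 : (Fin.last (m + 2)) ≠ j := by
        intro h
        have := congrArg Fin.val h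
        simp only [Fin.val_last] at this
        omega
      have n2 : (Fin.last (m + 2)) ≠ (⟨j.val + 1, hj'⟩ : Fin (m + 3)) := by
        intro h
        have := congrArg Fin.val h
        simp only [Fin.val_last] at this
        omega
      simp only [Pi.add_apply, Pi.smul_apply, Pi.single_apply, if_neg n1, if_neg n2, smul_zero,
        add_zero]
    have := hC _ ht hlast
    rw [e1] at this
    exact this
  -- Step 1: `F e_0 ⊆ M`
  have h1lt : (0 : Fin (m + 3)).val + 1 < m + 2 := by simp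
  have hone : (⟨(0 : Fin (m + 3)).val + 1, by simp⟩ : Fin (m + 3)) = 1 := by
    apply Fin.ext
    simp
  have hmul0 : ∀ t : F, t • (Pi.single 0 1 : Fin (m + 3) → F) ∈ M →
      (l * t) • (Pi.single 0 1 : Fin (m + 3) → F) ∈ M := by
    intro t ht
    have hw := hstep 0 h1lt t ht
    rw [hone] at hw
    have hAw := hA _ hw
    have hd := hsub _ _ hAw hw
    have e2 : A *ᵥ (κ • (t • (Pi.single 0 1 : Fin (m + 3) → F) +
        (t * μ 0) • (Pi.single 1 1 : Fin (m + 3) → F))) -
        κ • (t • (Pi.single 0 1 : Fin (m + 3) → F) +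
          (t * μ 0) • (Pi.single 1 1 : Fin (m + 3) → F)) =
        (κ * μ 0 * t) • (Pi.single 0 1 : Fin (m + 3) → F) := by
      rw [Matrix.mulVec_smul, Matrix.mulVec_add, Matrix.mulVec_smul, Matrix.mulVec_smul, hA0, hA1]
      ext i
      simp only [Pi.sub_apply, Pi.smul_apply, Pi.add_apply, smul_eq_mul]
      ring
    rw [e2] at hd
    rcases hκ with h | h
    · rw [h] at hd; exact hd
    · rw [h] at hd
      have := hneg _ hd
      rw [← neg_smul] at this
      have e3 : -(-l * t) = l * t := by ring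
      rw [e3] at this
      exact this
  have hpow : ∀ k : ℕ, (l ^ (k + 1)) • (Pi.single 0 1 : Fin (m + 3) → F) ∈ M := by
    intro k
    induction k with
    | zero => simpa using hz
    | succ k ih =>
      have := hmul0 _ ih
      rw [← pow_succ'] at this
      exact this
  have hQ0 : ∀ t : F, t • (Pi.single 0 1 : Fin (m + 3) → F) ∈ M := by
    intro t
    by_cases ht : t = 0
    · rw [ht, zero_smul]; exact h0
    · obtain ⟨k, hk⟩ := hl t ht
      rw [hk]; exact hpow k
  -- Step 2: induction along the basis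
  have hQ : ∀ (k : ℕ) (hk : k < m + 2) (t : F),
      t • (Pi.single ⟨k, by omega⟩ 1 : Fin (m + 3) → F) ∈ M := by
    intro k
    induction k with
    | zero =>
      intro hk t
      have : (⟨0, by omega⟩ : Fin (m + 3)) = 0 := rfl
      rw [this]; exact hQ0 t
    | succ k ih =>
      intro hk s
      have hk' : k < m + 2 := by omega
      have hne : κ * μ ⟨k, by omega⟩ ≠ 0 := mul_ne_zero hκ0 (hμ _)
      set t : F := s / (κ * μ ⟨k, by omega⟩) with htdef
      have hw := hstep ⟨k, by omega⟩ (by simpa using hk) t (ih hk' t)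
      have hd := hsub _ _ hw (ih hk' (κ * t))
      have e4 : κ • (t • (Pi.single (⟨k, by omega⟩ : Fin (m + 3)) 1 : Fin (m + 3) → F) +
          (t * μ ⟨k, by omega⟩) • (Pi.single ⟨k + 1, by omega⟩ 1 : Fin (m + 3) → F)) -
          (κ * t) • (Pi.single (⟨k, by omega⟩ : Fin (m + 3)) 1 : Fin (m + 3) → F) =
          s • (Pi.single ⟨k + 1, by omega⟩ 1 : Fin (m + 3) → F) := by
        have hs : κ * (t * μ ⟨k, by omega⟩) = s := by
          have hμk : μ ⟨k, by omega⟩ ≠ 0 := hμ _
          rw [htdef]; field_simp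
        ext i
        simp only [Pi.sub_apply, Pi.smul_apply, Pi.add_apply, smul_eq_mul]
        rw [← hs]
        ring
      rw [e4] at hd
      exact hd
  -- Step 3: sums
  intro v hv
  have hsum : v = ∑ i, Pi.single i (v i) := (Finset.univ_sum_single v).symm
  rw [hsum]
  apply Finset.sum_induction _ (fun w => w ∈ M) hadd h0
  intro i _
  by_cases hi : i = Fin.last (m + 2)
  · rw [hi, hv, Pi.single_zero]; exact h0
  · have hlt : i.val < m + 2 := by
      have := i.2
      have h2 : i.val ≠ m + 2 := fun h => hi (Fin.ext (by simpa using h))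
      omega
    have e5 : (Pi.single i (v i) : Fin (m + 3) → F) = v i • (Pi.single i 1 : Fin (m + 3) → F) := by
      ext j
      simp [Pi.single_apply]
    rw [e5]
    exact hQ i.val hlt (v i)

end Cfsg.Agent.Lib.Helper23.RU
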