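import Mathlib
import Cfsg.Agent.Lib.Helper73.RUDefs
import Cfsg.Agent.Lib.Helper73.RUHub
import Cfsg.Agent.Lib.Helper02.RU4Defs

set_option autoImplicit false
set_option linter.unusedVariables false
set_option linter.unusedSectionVars false

namespace Cfsg.Agent.Lib.Helper23.RU4x

open Matrix Cfsg.Agent.Lib.Helper73.RU Cfsg.Agent.Lib.Helper73.RUSpec Cfsg.Agent.Lib.Helper02.RU4

theorem aMat_pow_apply (m : ℕ) (F : Type*) [Field F] (k : ℕ) (i j : Fin (m + 3)) :
    (aMat m F ^ k) i j = if i.val ≤ j.val then ((Nat.choose k (j.val - i.val) : ℕ) : F) else 0 := by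
  induction k generalizing i j with
  | zero =>
    rw [pow_zero, Matrix.one_apply]
    by_cases hij : i = j
    · subst hij
      simp
    · rw [if_neg hij]
      by_cases hle : i.val ≤ j.val
      · rw [if_pos hle]
        have : 0 < j.val - i.val := by
          have : i.val ≠ j.val := fun h => hij (Fin.ext h)
          omega
        rw [Nat.choose_eq_zero_of_lt this, Nat.cast_zero]
      · rw [if_neg hle]
  | succ k ih =>
    have hcol : (aMat m F ^ (k + 1)) i j = (aMat m F *ᵥ (fun t => (aMat m F ^ k) t j)) i := by
      rw [pow_succ', Matrix.mul_apply]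
      rfl
    rw [hcol, aMat_mulVec_apply]
    simp only [ih]
    by_cases h : i.val + 1 < m + 3
    · rw [dif_pos h]
      by_cases hle : i.val ≤ j.val
      · rw [if_pos hle, if_pos hle]
        by_cases hlt : i.val + 1 ≤ j.val
        · rw [if_pos hlt]
          obtain ⟨d, hd⟩ : ∃ d, j.val - i.val = d + 1 := ⟨j.val - i.val - 1, by omega⟩
          have hd' : j.val - (i.val + 1) = d := by omega
          rw [hd, hd', Nat.choose_succ_succ, Nat.cast_add]
          ring
        · rw [if_neg hlt, add_zero]
          have : j.val - i.val = 0 := by omega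
          rw [this, Nat.choose_zero_right, Nat.choose_zero_right]
      · rw [if_neg hle, if_neg hle, if_neg (by omega), add_zero]
    · rw [dif_neg h, add_zero]
      by_cases hle : i.val ≤ j.val
      · rw [if_pos hle, if_pos hle]
        have : j.val - i.val = 0 := by
          have := j.isLt
          omega
        rw [this, Nat.choose_zero_right, Nat.choose_zero_right]
      · rw [if_neg hle, if_neg hle]

end Cfsg.Agent.Lib.Helper23.RU4x
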