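import Mathlib
import Cfsg.Agent.Lib.Helper73.RUDefs
import Cfsg.Agent.Lib.Helper73.RUHub
import Cfsg.Agent.Lib.Helper02.RU4Defs

set_option autoImplicit false
set_option linter.unusedVariables false
set_option linter.unusedSectionVars false

namespace Cfsg.Agent.Lib.Helper23.RU4x

open Matrix Cfsg.Agent.Lib.Helper73.RU Cfsg.Agent.Lib.Helper73.RUSpec Cfsg.Agent.Lib.Helper02.RU4

theorem j_inG_pow {n : ℕ} {F : Type*} [Field F] {G : Subgroup (SpecialLinearGroup (Fin n) F)}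
    {A : Matrix (Fin n) (Fin n) F} (hA : InG G A) (k : ℕ) : InG G (A ^ k) := by
  induction k with
  | zero => rw [pow_zero]; exact inG_one
  | succ k ih => rw [pow_succ]; exact inG_mul ih hA

theorem j_ck_add (m : ℕ) (F : Type*) [Field F] (J k : ℕ) :
    aMat m F ^ J *ᵥ ck m F k = ck m F (J + k) := by
  unfold ck
  rw [mulVec_mulVec, ← pow_add]

theorem j_ck_zero {m : ℕ} {F : Type*} [Field F]
    (hH : ∀ (k : ℕ) (i j : Fin (m + 3)),
      (aMat m F ^ k) i j = if i.val ≤ j.val then ((Nat.choose k (j.val - i.val) : ℕ) : F) else 0)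
    (k : ℕ) : ck m F k 0 = ((Nat.choose k (m + 2) : ℕ) : F) := by
  unfold ck
  rw [mulVec_single_one]
  simp only [Matrix.col_apply]
  rw [hH, if_pos (by simp)]
  simp

theorem rel_R {m : ℕ} {F : Type*} [Field F]
    (hH : ∀ (k : ℕ) (i j : Fin (m + 3)),
      (aMat m F ^ k) i j = if i.val ≤ j.val then ((Nat.choose k (j.val - i.val) : ℕ) : F) else 0)
    {G : Subgroup (SpecialLinearGroup (Fin (m + 3)) F)} (ha : InG G (aMat m F))
    (i i' r : ℕ) (hi : i ≤ m + 1) (hi' : i' ≤ m + 1) (hr : m + 2 + r ≤ i + i') (s s' : F)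
    (hs : InG G (tvm (s • ck m F i) (Pi.single 0 1)))
    (hs' : InG G (tvm (s' • ck m F i') (Pi.single 0 1))) :
    InG G (tvm ((-(((Nat.choose (m + 2 + r) (m + 2) : ℕ) : F) * s * s')) •
      ck m F (i + i' - (m + 2) - r)) (Pi.single 0 1)) := by
  set k := i + i' - (m + 2) - r with hk
  set J := m + 2 + r - i with hJ
  have hJk : J + k = i' := by omega
  have hJi : J + i = m + 2 + r := by omega
  have hkle : k ≤ m + 1 := by omega
  set e0 : Fin (m + 3) → F := Pi.single 0 1 with he0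
  set φ : Fin (m + 3) → F := e0 ᵥ* aMat m F ^ J with hφ
  have haJ : InG G (aMat m F ^ J) := j_inG_pow ha J
  have hzero : ∀ t, t ≤ m + 1 → ck m F t 0 = 0 := by
    intro t ht
    rw [j_ck_zero hH, Nat.choose_eq_zero_of_lt (by omega), Nat.cast_zero]
  -- the conjugated transvection
  have hw : InG G (tvm (s' • ck m F k) φ) := by
    have h1 := mul_tvm (aMat m F ^ J) (s' • ck m F k) e0
    rw [mulVec_smul, j_ck_add, hJk] at h1
    apply inG_of_mul_left haJ
    rw [hφ, h1]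
    exact inG_mul hs' haJ
  -- dot products
  have hd1 : e0 ⬝ᵥ (s • ck m F i) = 0 := by
    rw [he0, single_dotProduct, one_mul, Pi.smul_apply, hzero i hi, smul_zero]
  have hd3 : e0 ⬝ᵥ (s' • ck m F k) = 0 := by
    rw [he0, single_dotProduct, one_mul, Pi.smul_apply, hzero k hkle, smul_zero]
  have hφdot : ∀ t : ℕ, φ ⬝ᵥ ck m F t = ck m F (J + t) 0 := by
    intro t
    rw [hφ, ← dotProduct_mulVec, j_ck_add, he0, single_dotProduct, one_mul]
  have hd2 : φ ⬝ᵥ (s' • ck m F k) = 0 := by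
    rw [dotProduct_smul, hφdot, hJk, hzero i' hi', smul_zero]
  have hφx : φ ⬝ᵥ (s • ck m F i) = s * ((Nat.choose (m + 2 + r) (m + 2) : ℕ) : F) := by
    rw [dotProduct_smul, hφdot, hJi, j_ck_zero hH, smul_eq_mul]
  have hcomm := tvm_comm (s • ck m F i) e0 (s' • ck m F k) φ hd1 hd2 hd3
  have hmem : InG G (tvm (s • ck m F i) e0 * tvm (s' • ck m F k) φ * tvm (-(s • ck m F i)) e0 *
      tvm (-(s' • ck m F k)) φ) :=
    inG_mul (inG_mul (inG_mul hs hw) (inG_tvm_neg hd1 hs)) (inG_tvm_neg hd2 hw)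
  rw [hcomm, hφx] at hmem
  have hvec : (-(s * ((Nat.choose (m + 2 + r) (m + 2) : ℕ) : F))) • (s' • ck m F k) =
      (-(((Nat.choose (m + 2 + r) (m + 2) : ℕ) : F) * s * s')) • ck m F k := by
    rw [smul_smul]
    congr 1
    ring
  rw [hvec] at hmem
  exact hmem

end Cfsg.Agent.Lib.Helper23.RU4x
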