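import Mathlib
import Cfsg.Prelude.Def_Solvable
import Cfsg.Agent.Lib.Helper72.G42Defs
import Cfsg.Agent.Lib.Helper77.PermSmall

set_option autoImplicit false

namespace Cfsg.Agent.Lib.Helper23.G42

open Cfsg.Agent.Lib.Helper72.G42 MulAction
open scoped Pointwise

/-- the derived series of a perfect group is constant -/
theorem l8a_derivedSeries_top {P : Type*} [Group P] (hperf : commutator P = ⊤) (n : ℕ) :
    derivedSeries P n = ⊤ := by
  induction n with
  | zero => rfl
  | succ n ih =>
    rw [derivedSeries_succ, ih]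
    exact hperf

/-- a perfect group has no proper subgroup of index at most `4` -/
theorem l8a_eq_top_of_index_le_four {P : Type*} [Group P] [Finite P] (hperf : commutator P = ⊤)
    (S : Subgroup P) (hS : S.index ≤ 4) : S = ⊤ := by
  have hcard : Nat.card (P ⧸ S) ≤ 4 := hS
  have hsolv : Group.IsSolvable (Equiv.Perm (P ⧸ S)) :=
    Cfsg.Agent.Lib.Helper77.solvable_perm_of_card_le_four hcard
  obtain ⟨n, hn⟩ := hsolv.solvable
  have hmap := map_derivedSeries_le_derivedSeries (MulAction.toPermHom P (P ⧸ S)) n
  rw [l8a_derivedSeries_top hperf n, hn] at hmap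
  rw [eq_top_iff]
  intro g _
  have h1 : MulAction.toPermHom P (P ⧸ S) g = 1 := by
    have : MulAction.toPermHom P (P ⧸ S) g ∈ (⊥ : Subgroup (Equiv.Perm (P ⧸ S))) :=
      hmap (Subgroup.mem_map_of_mem _ (Subgroup.mem_top g))
    exact Subgroup.mem_bot.1 this
  have h2 : g • (QuotientGroup.mk 1 : P ⧸ S) = QuotientGroup.mk 1 := by
    have := congrArg (fun σ : Equiv.Perm (P ⧸ S) => σ (QuotientGroup.mk 1)) h1
    simpa using this
  have h3 : (QuotientGroup.mk (g * 1) : P ⧸ S) = QuotientGroup.mk 1 := h2
  rw [mul_one, QuotientGroup.eq] at h3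
  have : g⁻¹ ∈ S := by simpa using h3
  simpa using S.inv_mem this

theorem prim8 {K N : Subgroup (Equiv.Perm (Fin 8))} {Δ : Finset (Fin 8)} (h : Cfg K N Δ) (h8 : Δ.card = 8) :
    MulAction.IsPreprimitive ↥N (Fin 8) := by
  have hΔ : Δ = Finset.univ := by
    apply Finset.eq_univ_of_card
    rw [h8]; simp
  have hmem : ∀ x : Fin 8, x ∈ Δ := fun x => by rw [hΔ]; exact Finset.mem_univ x
  haveI htr : MulAction.IsPretransitive ↥N (Fin 8) := by
    refine ⟨fun x y => ?_⟩
    obtain ⟨n, hn, hxy⟩ := h.htrans x (hmem x) y (hmem y)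
    exact ⟨⟨n, hn⟩, hxy⟩
  -- N is perfect as a group
  have hperf : commutator ↥N = ⊤ := by
    apply Subgroup.map_injective N.subtype_injective
    rw [commutator_def, Subgroup.map_commutator, ← MonoidHom.range_eq_map, Subgroup.range_subtype]
    exact h.hperf
  refine { toIsPretransitive := htr, isTrivialBlock_of_isBlock := ?_ }
  intro B hB
  by_cases ht : 5 ≤ (orbit ↥N B).ncard
  · left
    apply hB.subsingleton_of_card_lt
    rw [Nat.card_eq_fintype_card, Fintype.card_fin]
    omega
  · have hidx : (stabilizer ↥N B).index ≤ 4 := by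
      rw [MulAction.index_stabilizer]
      omega
    have htop := l8a_eq_top_of_index_le_four hperf (stabilizer ↥N B) hidx
    have hone : (orbit ↥N B).ncard = 1 := by
      rw [← MulAction.index_stabilizer, htop, Subgroup.index_top]
    rcases Set.eq_empty_or_nonempty B with hBe | hBne
    · left
      rw [hBe]
      exact Set.subsingleton_empty
    · right
      have hmul := hB.ncard_block_mul_ncard_orbit_eq hBne
      rw [hone, mul_one, Nat.card_eq_fintype_card, Fintype.card_fin] at hmul
      apply hB.eq_univ_of_card_lt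
      rw [Nat.card_eq_fintype_card, Fintype.card_fin, hmul]
      norm_num

end Cfsg.Agent.Lib.Helper23.G42
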