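import Cfsg.Agent.Lib.Helper98.Oh0
import Cfsg.Agent.Lib.Helper98.Sy6

set_option autoImplicit false
set_option linter.unusedSimpArgs false
set_option linter.unusedSectionVars false
set_option linter.unusedVariables false
set_option maxHeartbeats 1000000

/-!
# K-Oh-D (599206): symmetric model with `T` fixed-point-free blocks and a `k`-dimensional fixed space

Block: the alternating block `y0` of `Helper98.Sy.exists_block` (an isometry of the standard alternating form `A` of
odd prime order `r` without fixed vectors) preserves the form `S u v = A ((y0 - y0⁻¹) u) v`, which is symmetric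
(the adjoint of `y0` is `y0⁻¹`) and nondegenerate (`y0 - y0⁻¹` is injective as `y0 ^ 2` has no fixed vectors).
-/

namespace Cfsg.Agent.Lib.Helper23.Oh

open Module Cfsg.Agent.Lib.Helper98.Elus Cfsg.Agent.Lib.Helper98.Sy Cfsg.Agent.Lib.Helper98.Oh

universe u
variable {F : Type u} [Field F]

section Block

variable {c' : ℕ}

/-- the symmetric form attached to an isometry of the standard alternating form -/
noncomputable def symB (y0 : (Fin c' ⊕ Fin c' → F) →ₗ[F] (Fin c' ⊕ Fin c' → F)) (m : ℕ) :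
    LinearMap.BilinForm F (Fin c' ⊕ Fin c' → F) :=
  (stdForm (F := F) c').compl₁₂ (y0 - y0 ^ m) LinearMap.id

theorem symB_apply (y0 : (Fin c' ⊕ Fin c' → F) →ₗ[F] (Fin c' ⊕ Fin c' → F)) (m : ℕ)
    (u v : Fin c' ⊕ Fin c' → F) :
    symB y0 m u v = stdForm c' (y0 u) v - stdForm c' ((y0 ^ m) u) v := by
  simp [symB, LinearMap.compl₁₂_apply, LinearMap.sub_apply]

variable (y0 : (Fin c' ⊕ Fin c' → F) →ₗ[F] (Fin c' ⊕ Fin c' → F)) (r : ℕ) (hr : 0 < r)
  (hy : y0 ^ r = 1) (hiso : Iso (stdForm (F := F) c') y0)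

include hr hy hiso

theorem adj_one (u v : Fin c' ⊕ Fin c' → F) :
    stdForm c' (y0 u) v = stdForm c' u ((y0 ^ (r - 1)) v) := by
  conv_lhs => rw [← pow_pred_mul r hr y0 hy v]
  exact hiso _ _

theorem adj_pred (u v : Fin c' ⊕ Fin c' → F) :
    stdForm c' ((y0 ^ (r - 1)) u) v = stdForm c' u (y0 v) := by
  conv_rhs => rw [← pow_pred_mul r hr y0 hy u]
  exact (hiso _ _).symm

theorem symB_symm (u v : Fin c' ⊕ Fin c' → F) : symB y0 (r - 1) u v = symB y0 (r - 1) v u := by
  have hA := stdForm_alt (F := F) c'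
  rw [symB_apply, symB_apply, adj_one y0 r hr hy hiso u v, adj_pred y0 r hr hy hiso u v,
    alt_swap hA u, alt_swap hA u]
  ring

theorem symB_iso : Iso (symB y0 (r - 1)) y0 := by
  intro u v
  rw [symB_apply, symB_apply, hiso]
  have : (y0 ^ (r - 1)) (y0 u) = y0 ((y0 ^ (r - 1)) u) := by
    rw [← Module.End.mul_apply, ← Module.End.mul_apply, ← pow_succ, ← pow_succ']
  rw [this, hiso]

theorem symB_nonDeg (hodd : Odd r) (hrF : (r : F) ≠ 0) (hG0 : ∀ w, gsum r y0 w = 0) :
    NonDeg (symB y0 (r - 1)) ⊤ := by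
  intro u _ h
  -- `y0 u = y0⁻¹ u`
  have h1 : y0 u - (y0 ^ (r - 1)) u = 0 := by
    apply stdForm_nonDeg c' _ Submodule.mem_top
    intro w _
    have := h w Submodule.mem_top
    rw [symB_apply] at this
    rw [map_sub, LinearMap.sub_apply]
    exact this
  have h2 : y0 (y0 u) = u := by
    have := congrArg y0 (sub_eq_zero.mp h1)
    rw [pow_pred_mul r hr y0 hy u] at this
    exact this
  -- hence `y0 u = u`
  have h3 : ∀ s : ℕ, (y0 ^ (2 * s)) u = u := by
    intro s
    induction s with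
    | zero => simp
    | succ s ih =>
      rw [show 2 * (s + 1) = 2 * s + 2 by ring, pow_add, Module.End.mul_apply, pow_two,
        Module.End.mul_apply, h2, ih]
  obtain ⟨s, hs⟩ := hodd
  have h4 : y0 u = u := by
    have h5 : (y0 ^ (2 * (s + 1))) u = y0 u := by
      rw [show 2 * (s + 1) = r + 1 by omega, pow_succ', Module.End.mul_apply, hy,
        Module.End.one_apply]
    rw [← h5, h3]
  have h6 := gsum_apply_of_mem_V0 r y0 u ((mem_V0 y0 u).mpr h4)
  rw [hG0] at h6
  rcases smul_eq_zero.mp h6.symm with h | h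
  · exact absurd h hrF
  · exact h

end Block

section Model

variable (c' k T : ℕ)

/-- the model space: `T` blocks and a `k`-dimensional trivial part -/
abbrev VM : Type u := (Fin T → (Fin c' ⊕ Fin c' → F)) × (Fin k → F)

/-- the dot product -/
noncomputable def dotB : LinearMap.BilinForm F (Fin k → F) := Matrix.toBilin' (1 : Matrix (Fin k) (Fin k) F)

theorem dotB_apply (u v : Fin k → F) : dotB k u v = u ⬝ᵥ v := by
  rw [dotB, Matrix.toBilin'_apply', Matrix.one_mulVec]

variable {c'}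

/-- the form on the model space -/
noncomputable def BM (B0 : LinearMap.BilinForm F (Fin c' ⊕ Fin c' → F)) :
    LinearMap.BilinForm F (VM (F := F) c' k T) :=
  ∑ s : Fin T, B0.compl₁₂
      ((LinearMap.proj s).comp (LinearMap.fst F (Fin T → (Fin c' ⊕ Fin c' → F)) _))
      ((LinearMap.proj s).comp (LinearMap.fst F (Fin T → (Fin c' ⊕ Fin c' → F)) _)) +
    (dotB (F := F) k).compl₁₂ (LinearMap.snd F _ _) (LinearMap.snd F _ _)

theorem BM_apply (B0 : LinearMap.BilinForm F (Fin c' ⊕ Fin c' → F)) (u v : VM (F := F) c' k T) :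
    BM k T B0 u v = ∑ s, B0 (u.1 s) (v.1 s) + u.2 ⬝ᵥ v.2 := by
  simp [BM, LinearMap.sum_apply, LinearMap.add_apply, LinearMap.compl₁₂_apply, dotB_apply]

variable {k T}

/-- the model isometry -/
noncomputable def yM (y0 : (Fin c' ⊕ Fin c' → F) →ₗ[F] (Fin c' ⊕ Fin c' → F)) :
    VM (F := F) c' k T →ₗ[F] VM (F := F) c' k T :=
  LinearMap.prodMap (LinearMap.pi (fun s => y0.comp (LinearMap.proj s))) LinearMap.id

theorem yM_apply (y0 : (Fin c' ⊕ Fin c' → F) →ₗ[F] (Fin c' ⊕ Fin c' → F))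
    (v : VM (F := F) c' k T) : yM y0 v = (fun s => y0 (v.1 s), v.2) := rfl

theorem yM_pow (y0 : (Fin c' ⊕ Fin c' → F) →ₗ[F] (Fin c' ⊕ Fin c' → F)) (n : ℕ)
    (v : VM (F := F) c' k T) : (yM y0 ^ n) v = (fun s => (y0 ^ n) (v.1 s), v.2) := by
  induction n generalizing v with
  | zero => simp
  | succ n ih =>
    rw [pow_succ, Module.End.mul_apply, ih, yM_apply]
    ext s
    · simp [pow_succ, Module.End.mul_apply]
    · rfl

theorem BM_symm (B0 : LinearMap.BilinForm F (Fin c' ⊕ Fin c' → F)) (h0 : ∀ a b, B0 a b = B0 b a)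
    (u v : VM (F := F) c' k T) : BM k T B0 u v = BM k T B0 v u := by
  rw [BM_apply, BM_apply, dotProduct_comm]
  congr 1
  exact Finset.sum_congr rfl (fun s _ => h0 _ _)

theorem BM_nonDeg (B0 : LinearMap.BilinForm F (Fin c' ⊕ Fin c' → F)) (h0 : NonDeg B0 ⊤) :
    NonDeg (BM k T B0) ⊤ := by
  classical
  intro u _ h
  have h1 : ∀ s, u.1 s = 0 := by
    intro s
    apply h0 (u.1 s) Submodule.mem_top
    intro w _
    have := h (Pi.single s w, 0) Submodule.mem_top
    rw [BM_apply] at this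
    simp only [dotProduct_zero, add_zero] at this
    rw [Finset.sum_eq_single s] at this
    · simpa using this
    · intro s' _ hs'
      rw [Pi.single_eq_of_ne hs', map_zero]
    · intro hs
      exact absurd (Finset.mem_univ s) hs
  have h2 : u.2 = 0 := by
    funext a
    have := h (0, Pi.single a 1) Submodule.mem_top
    rw [BM_apply] at this
    simpa using this
  ext
  · rw [h1]; rfl
  · rw [h2]; rfl

theorem yM_iso (B0 : LinearMap.BilinForm F (Fin c' ⊕ Fin c' → F))
    (y0 : (Fin c' ⊕ Fin c' → F) →ₗ[F] (Fin c' ⊕ Fin c' → F))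
    (h0 : Iso B0 y0) : Iso (BM k T B0) (yM y0) := by
  intro u v
  rw [BM_apply, BM_apply, yM_apply, yM_apply]
  simp only [h0 _ _]

theorem yM_pow_eq_one (r : ℕ) (y0 : (Fin c' ⊕ Fin c' → F) →ₗ[F] (Fin c' ⊕ Fin c' → F))
    (h0 : y0 ^ r = 1) : (yM (k := k) (T := T) y0) ^ r = 1 := by
  apply LinearMap.ext
  intro v
  rw [yM_pow, h0]
  rfl

theorem finrank_VM : finrank F (VM (F := F) c' k T) = T * (2 * c') + k := by
  rw [Module.finrank_prod, Module.finrank_pi_fintype, Module.finrank_pi, Module.finrank_pi]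
  simp only [Fintype.card_sum, Fintype.card_fin, Finset.sum_const, Finset.card_univ, smul_eq_mul]
  ring

theorem yM_ne_one (hT : 1 ≤ T) (y0 : (Fin c' ⊕ Fin c' → F) →ₗ[F] (Fin c' ⊕ Fin c' → F))
    (hne : y0 ≠ 1) : yM (k := k) (T := T) y0 ≠ 1 := by
  classical
  intro h
  apply hne
  apply LinearMap.ext
  intro w
  have := congrArg (fun g => (g (Pi.single ⟨0, hT⟩ w, 0)).1 ⟨0, hT⟩) h
  simpa [yM_apply] using this

theorem V0_yM (y0 : (Fin c' ⊕ Fin c' → F) →ₗ[F] (Fin c' ⊕ Fin c' → F))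
    (hfix : ∀ w, y0 w = w → w = 0) :
    V0 (yM (k := k) (T := T) y0) =
      LinearMap.range (LinearMap.inr F (Fin T → (Fin c' ⊕ Fin c' → F)) (Fin k → F)) := by
  apply le_antisymm
  · intro v hv
    rw [mem_V0, yM_apply] at hv
    have h1 : ∀ s, v.1 s = 0 := by
      intro s
      apply hfix
      exact congrFun (congrArg Prod.fst hv) s
    refine ⟨v.2, ?_⟩
    ext
    · rw [h1]; rfl
    · rfl
  · rintro _ ⟨w, rfl⟩
    rw [mem_V0, yM_apply]
    ext
    · simp
    · rfl

theorem finrank_V0_yM (y0 : (Fin c' ⊕ Fin c' → F) →ₗ[F] (Fin c' ⊕ Fin c' → F))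
    (hfix : ∀ w, y0 w = w → w = 0) :
    finrank F (V0 (yM (k := k) (T := T) y0)) = k := by
  rw [V0_yM y0 hfix, LinearMap.finrank_range_of_inj LinearMap.inr_injective, Module.finrank_pi,
    Fintype.card_fin]

end Model

/-- **K-Oh-D.** -/
theorem exists_model_symm [Fintype F] (h2 : (2 : F) ≠ 0) (p f : ℕ) [Fact p.Prime]
    (hF : Fintype.card F = p ^ f) (r : ℕ) [Fact r.Prime] (hpr : p ≠ r) (hr2 : r ≠ 2)
    (hrF : (r : F) ≠ 0) (T k : ℕ) (hT : 1 ≤ T) :
    ∃ (V : Type u) (_ : AddCommGroup V) (_ : Module F V) (_ : FiniteDimensional F V)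
      (B : LinearMap.BilinForm F V) (y : V →ₗ[F] V),
      (∀ a b, B a b = B b a) ∧ NonDeg B ⊤ ∧ Iso B y ∧ y ^ r = 1 ∧ y ≠ 1 ∧
      finrank F V = T * cOf (orderOf ((Fintype.card F : ℕ) : ZMod r)) + k ∧
      finrank F (V0 y) = k := by
  classical
  have hr : r.Prime := Fact.out
  have hr0 : 0 < r := hr.pos
  have hodd : Odd r := hr.eq_two_or_odd'.resolve_left hr2
  obtain ⟨c', hc⟩ : ∃ c', cOf (orderOf ((Fintype.card F : ℕ) : ZMod r)) = 2 * c' := by
    obtain ⟨c', hc'⟩ := cOf_even (orderOf ((Fintype.card F : ℕ) : ZMod r))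
    exact ⟨c', by omega⟩
  obtain ⟨y0, hiso, hy, hne, hG0⟩ := exists_block p f hF r hpr hr2 hrF c' hc
  have hfix : ∀ w, y0 w = w → w = 0 := by
    intro w hw
    have h6 := gsum_apply_of_mem_V0 r y0 w ((mem_V0 y0 w).mpr hw)
    rw [hG0] at h6
    rcases smul_eq_zero.mp h6.symm with h | h
    · exact absurd h hrF
    · exact h
  refine ⟨VM (F := F) c' k T, inferInstance, inferInstance, inferInstance,
    BM k T (symB y0 (r - 1)), yM y0, ?_, ?_, ?_, ?_, ?_, ?_, ?_⟩
  · exact BM_symm _ (symB_symm y0 r hr0 hy hiso)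
  · exact BM_nonDeg _ (symB_nonDeg y0 r hr0 hy hiso hodd hrF hG0)
  · exact yM_iso _ y0 (symB_iso y0 r hr0 hy hiso)
  · exact yM_pow_eq_one r y0 hy
  · exact yM_ne_one hT y0 hne
  · rw [finrank_VM, hc]
  · exact finrank_V0_yM y0 hfix

end Cfsg.Agent.Lib.Helper23.Oh
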