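import Cfsg.Agent.Lib.Helper98.Ti9
import Cfsg.Agent.Lib.Helper98.Os1
import Cfsg.Agent.Lib.Helper98.Oh0

set_option autoImplicit false
set_option linter.unusedSimpArgs false
set_option linter.unusedSectionVars false
set_option linter.unusedVariables false

/-!
# K-OsEl-G (keystone 597207, for S5972, architect helper8)

Bounds for invariant totally singular subspaces of a symmetric space with an isometry of prime order:
`ts_bound_V0`, `ts_le_V0_of_free` (ports of helper98's `Ti.ti_bound_V0` and the end of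
`Ti.finrank_le_of_ti_mult_free` to reflexive forms).  The reflexive basics needed are proved here
(`finrank_add_orth_refl`, `finrank_orth_inf_refl`, `two_mul_finrank_le_refl`).
-/

namespace Cfsg.Agent.Lib.Helper23.OsEl

open Module Cfsg.Agent.Lib.Helper98.Elus Cfsg.Agent.Lib.Helper98.Sy

universe u
variable {F : Type u} [Field F] {V : Type u} [AddCommGroup V] [Module F V]

theorem finrank_add_orth_refl [FiniteDimensional F V] {B : LinearMap.BilinForm F V} (hR : B.IsRefl)
    (hV : NonDeg B ⊤) (W : Submodule F V) :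
    finrank F W + finrank F (B.orthogonal W) = finrank F V := by
  have h := LinearMap.BilinForm.finrank_add_finrank_orthogonal hR W
  have h2 : B.orthogonal ⊤ = ⊥ := by
    rw [eq_bot_iff]
    intro v hv
    rw [Submodule.mem_bot]
    apply hV v Submodule.mem_top
    intro n _
    exact hR _ _ (LinearMap.BilinForm.mem_orthogonal_iff.mp hv n Submodule.mem_top)
  rw [h2, inf_bot_eq, finrank_bot, add_zero] at h
  exact h

theorem finrank_orth_inf_refl [FiniteDimensional F V] {B : LinearMap.BilinForm F V} (hR : B.IsRefl)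
    (hV : NonDeg B ⊤) (M U : Submodule F V) (hMU : M ≤ U) (hU : NonDeg B U) :
    finrank F ↥(B.orthogonal M ⊓ U) + finrank F M = finrank F U := by
  have hc := Cfsg.Agent.Lib.Helper98.Os.isCompl_orth hR U hU
  have hle : B.orthogonal U ≤ B.orthogonal M := LinearMap.BilinForm.orthogonal_le hMU
  have h1 : B.orthogonal M = B.orthogonal U ⊔ (U ⊓ B.orthogonal M) := by
    rw [← sup_inf_assoc_of_le U hle, sup_comm, hc.sup_eq_top, top_inf_eq]
  have h2 : B.orthogonal U ⊓ (U ⊓ B.orthogonal M) = ⊥ := by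
    rw [eq_bot_iff, ← hc.inf_eq_bot]
    exact le_inf (le_trans inf_le_right inf_le_left) inf_le_left
  have h3 := Submodule.finrank_sup_add_finrank_inf_eq (B.orthogonal U) (U ⊓ B.orthogonal M)
  rw [← h1, h2, finrank_bot] at h3
  have h4 := finrank_add_orth_refl hR hV M
  have h5 := finrank_add_orth_refl hR hV U
  rw [inf_comm]
  omega

theorem two_mul_finrank_le_refl [FiniteDimensional F V] {B : LinearMap.BilinForm F V}
    (hR : B.IsRefl) (hV : NonDeg B ⊤) (U Z : Submodule F V) (hU : NonDeg B U) (hZU : Z ≤ U)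
    (hZ : Ort B Z Z) : 2 * finrank F Z ≤ finrank F U := by
  have h1 := finrank_orth_inf_refl hR hV Z U hZU hU
  have h2 : Z ≤ B.orthogonal Z ⊓ U := by
    refine le_inf ?_ hZU
    intro z hz
    rw [LinearMap.BilinForm.mem_orthogonal_iff]
    intro n hn
    exact hZ n hn z hz
  have h3 := Submodule.finrank_mono h2
  omega

theorem isRefl_of_symm {B : LinearMap.BilinForm F V} (hS : ∀ x y, B x y = B y x) : B.IsRefl := by
  intro x y h
  rw [hS y x]
  exact h

theorem ts_bound_V0 [Fintype F] [FiniteDimensional F V] {B : LinearMap.BilinForm F V}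
    (hS : ∀ x y, B x y = B y x) (hV : NonDeg B ⊤) (r : ℕ) [Fact r.Prime] (hrF : (r : F) ≠ 0)
    (y : V →ₗ[F] V) (hy : y ^ r = 1) (hiso : Iso B y) (W : Submodule F V) (hW : Inv y W)
    (hWti : Ort B W W) :
    2 * (finrank F W % orderOf ((Fintype.card F : ℕ) : ZMod r)) ≤ finrank F (V0 y) := by
  have hR := isRefl_of_symm hS
  obtain ⟨hnd0, hnd1⟩ := Cfsg.Agent.Lib.Helper98.Oh.nonDeg_inf_parts_refl hR r hrF y hy hiso ⊤ hV
    (fun _ _ => Submodule.mem_top)
  rw [top_inf_eq] at hnd0 hnd1
  have hsum := finrank_inf_V0_add_inf_V1 r hrF y hy W hW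
  obtain ⟨c, hc⟩ := dvd_finrank_of_le_V1 r hrF y hy (W ⊓ V1 r y) (hW.inf (inv_V1 r y)) inf_le_right
  have h1 := two_mul_finrank_le_refl hR hV (V0 y) (W ⊓ V0 y) hnd0 inf_le_right
    (fun a ha b hb => hWti a (Submodule.mem_inf.mp ha).1 b (Submodule.mem_inf.mp hb).1)
  have h2 : finrank F W % orderOf ((Fintype.card F : ℕ) : ZMod r) =
      finrank F ↥(W ⊓ V0 y) % orderOf ((Fintype.card F : ℕ) : ZMod r) := by
    rw [← hsum, hc, Nat.add_mul_mod_self_left]
  have h3 := Nat.mod_le (finrank F ↥(W ⊓ V0 y)) (orderOf ((Fintype.card F : ℕ) : ZMod r))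
  omega

/-- if `V1` contains no invariant totally singular subspace then every invariant totally singular subspace lies in
`V0`, which is nondegenerate -/
theorem ts_le_V0_of_free [FiniteDimensional F V] {B : LinearMap.BilinForm F V}
    (hS : ∀ x y, B x y = B y x) (hV : NonDeg B ⊤) (r : ℕ) (hrF : (r : F) ≠ 0)
    (y : V →ₗ[F] V) (hy : y ^ r = 1) (hiso : Iso B y)
    (hfree : ∀ Z : Submodule F V, Z ≤ V1 r y → Inv y Z → Ort B Z Z → Z = ⊥)
    (W : Submodule F V) (hW : Inv y W) (hWti : Ort B W W) :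
    2 * finrank F W ≤ finrank F (V0 y) := by
  have hR := isRefl_of_symm hS
  obtain ⟨hnd0, hnd1⟩ := Cfsg.Agent.Lib.Helper98.Oh.nonDeg_inf_parts_refl hR r hrF y hy hiso ⊤ hV
    (fun _ _ => Submodule.mem_top)
  rw [top_inf_eq] at hnd0 hnd1
  have hW1 : W ⊓ V1 r y = ⊥ :=
    hfree (W ⊓ V1 r y) inf_le_right (hW.inf (inv_V1 r y))
      (fun a ha b hb => hWti a (Submodule.mem_inf.mp ha).1 b (Submodule.mem_inf.mp hb).1)
  have hsumW := finrank_inf_V0_add_inf_V1 r hrF y hy W hW
  rw [hW1, finrank_bot, add_zero] at hsumW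
  have h1 := two_mul_finrank_le_refl hR hV (V0 y) (W ⊓ V0 y) hnd0 inf_le_right
    (fun a ha b hb => hWti a (Submodule.mem_inf.mp ha).1 b (Submodule.mem_inf.mp hb).1)
  omega

end Cfsg.Agent.Lib.Helper23.OsEl
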