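import Cfsg.Agent.Lib.Helper06.Hall4.Defs

/-!
# K-H4-P3 (422106): an involution of a group with odd 4-point stabilizers fixes at most 3 points
-/

set_option autoImplicit false
open Equiv Cfsg.Agent.Lib.Helper06.Hall4

namespace Cfsg.Agent.Lib.Helper23.Hall4

variable {α : Type*} [Fintype α] [DecidableEq α]

/-- An element of an odd-order subgroup whose square is one is one. -/
theorem eq_one_of_sq_of_mem_odd {Γ : Type*} [Group Γ] (H : Subgroup Γ)
    (hH : Odd (Nat.card H)) {t : Γ} (ht : t ∈ H) (t2 : t * t = 1) : t = 1 := by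
  have h1 : orderOf t ∣ 2 := orderOf_dvd_of_pow_eq_one (by rw [pow_two]; exact t2)
  have h2 : orderOf t ∣ Nat.card H := Subgroup.orderOf_dvd_natCard H ht
  have h3 : orderOf t ∣ Nat.gcd 2 (Nat.card H) := Nat.dvd_gcd h1 h2
  have h4 : Nat.gcd 2 (Nat.card H) = 1 := by
    have := Nat.coprime_two_left.mpr hH
    exact this
  rw [h4, Nat.dvd_one] at h3
  exact orderOf_eq_one_iff.mp h3

/-- A set with more than three elements contains four distinct elements. -/
theorem exists_four_of_three_lt_ncard {β : Type*} {s : Set β} (h : 3 < s.ncard) :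
    ∃ a b c d : β, a ∈ s ∧ b ∈ s ∧ c ∈ s ∧ d ∈ s ∧
      a ≠ b ∧ a ≠ c ∧ a ≠ d ∧ b ≠ c ∧ b ≠ d ∧ c ≠ d := by
  have hfin : s.Finite := Set.finite_of_ncard_pos (by omega)
  obtain ⟨a, b, c, ha, hb, hc, hab, hac, hbc⟩ := (Set.two_lt_ncard_iff hfin).mp (by omega)
  have h3 : ({a, b, c} : Set β).ncard ≤ 3 := by
    refine (Set.ncard_insert_le _ _).trans ?_
    have := Set.ncard_insert_le b ({c} : Set β)
    rw [Set.ncard_singleton] at this
    omega
  have hd : (s \ {a, b, c}).Nonempty := by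
    rw [← Set.ncard_pos (hfin.sdiff)]
    have := Set.le_ncard_sdiff ({a, b, c} : Set β) s
    omega
  obtain ⟨d, hds, hd⟩ := hd
  simp only [Set.mem_insert_iff, Set.mem_singleton_iff, not_or] at hd
  exact ⟨a, b, c, d, ha, hb, hc, hds, hab, hac, fun h => hd.1 h.symm, hbc,
    fun h => hd.2.1 h.symm, fun h => hd.2.2 h.symm⟩

/-- LEAF P3 (422106). -/
theorem nfix_le_three (G : Subgroup (Perm α)) (hodd : Odd4 G) {t : Perm α} (ht : t ∈ G)
    (t2 : t * t = 1) (t1 : t ≠ 1) : nfix t ≤ 3 := by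
  by_contra hcon
  have h3 : 3 < (Function.fixedPoints t).ncard := by
    unfold nfix at hcon
    omega
  obtain ⟨a, b, c, d, ha, hb, hc, hd, hab, hac, had, hbc, hbd, hcd⟩ :=
    exists_four_of_three_lt_ncard h3
  have hmem : t ∈ FS G {a, b, c, d} := by
    refine ⟨ht, fun s hs => ?_⟩
    simp only [Set.mem_insert_iff, Set.mem_singleton_iff] at hs
    rcases hs with rfl | rfl | rfl | rfl
    · exact ha
    · exact hb
    · exact hc
    · exact hd
  exact t1 (eq_one_of_sq_of_mem_odd _ (hodd a b c d hab hac had hbc hbd hcd) hmem t2)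

end Cfsg.Agent.Lib.Helper23.Hall4
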