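import Mathlib

namespace Cfsg.Agent.Lib.Helper23

/-- Divisors of a product of two primes. -/
theorem dvd_prime_mul_prime {p r d : ℕ} (hp : p.Prime) (hr : r.Prime) (h : d ∣ p * r) :
    d = 1 ∨ d = p ∨ d = r ∨ d = p * r := by
  by_cases hpd : p ∣ d
  · obtain ⟨d', rfl⟩ := hpd
    have h2 : d' ∣ r := Nat.dvd_of_mul_dvd_mul_left hp.pos h
    rcases (Nat.dvd_prime hr).mp h2 with h3 | h3
    · right; left; rw [h3, mul_one]
    · right; right; right; rw [h3]
  · have hc : Nat.Coprime d p := (Nat.Coprime.symm ((Nat.Prime.coprime_iff_not_dvd hp).mpr hpd))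
    have h2 : d ∣ r := hc.dvd_of_dvd_mul_left h
    rcases (Nat.dvd_prime hr).mp h2 with h3 | h3
    · left; exact h3
    · right; right; left; exact h3

/-- The elements whose order lies in a finite set of naturals number at most `|G|`. -/
theorem sum_card_orderOf_le {G : Type*} [Group G] [Finite G] (s : Finset ℕ) :
    ∑ d ∈ s, Nat.card {g : G // orderOf g = d} ≤ Nat.card G := by
  classical
  have := Fintype.ofFinite G
  have h1 : ∀ d, Nat.card {g : G // orderOf g = d} =
      (Finset.univ.filter (fun g : G => orderOf g = d)).card := by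
    intro d
    rw [Nat.card_eq_fintype_card, Fintype.card_subtype]
  simp_rw [h1]
  rw [← Finset.card_biUnion]
  · rw [Nat.card_eq_fintype_card]
    exact Finset.card_le_univ _
  · intro a _ b _ hab
    show Disjoint _ _
    rw [Finset.disjoint_left]
    intro g hga hgb
    simp only [Finset.mem_filter, Finset.mem_univ, true_and] at hga hgb
    exact hab (hga.symm.trans hgb)

/-- A normal subgroup `Q` of order less than `r` is centralized by every `r`-subgroup. -/
theorem conj_eq_of_normal_card_lt {G : Type*} [Group G] (r : ℕ) [Fact r.Prime] (Q R : Subgroup G)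
    [Q.Normal] [Finite ↥Q] (hR : IsPGroup r ↥R) (hq : Nat.card ↥Q < r) :
    ∀ x ∈ R, ∀ y ∈ Q, x * y * x⁻¹ = y := by
  let φ : ↥R →* MulAut ↥Q := (MulAut.conjNormal).comp R.subtype
  letI : MulAction ↥R ↥Q := MulAction.compHom ↥Q φ
  have h1 := hR.card_modEq_card_fixedPoints ↥Q
  have h2 : Nat.card ↥(MulAction.fixedPoints ↥R ↥Q) ≤ Nat.card ↥Q :=
    Nat.card_le_card_of_injective _ Subtype.val_injective
  have h3 : Nat.card ↥(MulAction.fixedPoints ↥R ↥Q) = Nat.card ↥Q :=
    Nat.ModEq.eq_of_lt_of_lt h1.symm (lt_of_le_of_lt h2 hq) hq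
  have h4 : MulAction.fixedPoints ↥R ↥Q = Set.univ := by
    apply Set.eq_of_subset_of_ncard_le (Set.subset_univ _)
    rw [Set.ncard_univ, ← Nat.card_coe_set_eq, h3]
  intro x hx y hy
  have h5 : (⟨y, hy⟩ : ↥Q) ∈ MulAction.fixedPoints ↥R ↥Q := by rw [h4]; trivial
  have h6 := h5 ⟨x, hx⟩
  exact congrArg Subtype.val h6

end Cfsg.Agent.Lib.Helper23
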