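import Mathlib

namespace Cfsg.Agent.Lib.Helper23

open MulAction

/-- The map `g N_G(P) ↦ g • P` from the cosets of the normalizer to the Sylow subgroups. -/
noncomputable def cosetToSylow {G : Type*} [Group G] {p : ℕ} (P : Sylow p G) :
    G ⧸ Subgroup.normalizer ((P : Subgroup G) : Set G) → Sylow p G :=
  Quotient.lift (fun g : G => g • P) (by
    intro a b hab
    have h : a⁻¹ * b ∈ Subgroup.normalizer ((P : Subgroup G) : Set G) :=
      QuotientGroup.leftRel_apply.mp hab
    have h2 : (a⁻¹ * b) • P = P := Sylow.smul_eq_iff_mem_normalizer.mpr h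
    show a • P = b • P
    calc a • P = a • ((a⁻¹ * b) • P) := by rw [h2]
      _ = b • P := by rw [← mul_smul, mul_inv_cancel_left])

theorem cosetToSylow_mk {G : Type*} [Group G] {p : ℕ} (P : Sylow p G) (g : G) :
    cosetToSylow P (g : G ⧸ Subgroup.normalizer ((P : Subgroup G) : Set G)) = g • P := rfl

theorem cosetToSylow_smul {G : Type*} [Group G] {p : ℕ} (P : Sylow p G) (h : G)
    (c : G ⧸ Subgroup.normalizer ((P : Subgroup G) : Set G)) :
    cosetToSylow P (h • c) = h • cosetToSylow P c := by
  induction c using QuotientGroup.induction_on with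
  | H g =>
    rw [MulAction.Quotient.smul_mk, cosetToSylow_mk, cosetToSylow_mk, smul_eq_mul, mul_smul]

theorem cosetToSylow_injective {G : Type*} [Group G] {p : ℕ} (P : Sylow p G) :
    Function.Injective (cosetToSylow P) := by
  intro c d hcd
  induction c using QuotientGroup.induction_on with
  | H a =>
    induction d using QuotientGroup.induction_on with
    | H b =>
      rw [cosetToSylow_mk, cosetToSylow_mk] at hcd
      rw [QuotientGroup.eq]
      apply Sylow.smul_eq_iff_mem_normalizer.mp
      rw [mul_smul, ← hcd, ← mul_smul, inv_mul_cancel, one_smul]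

theorem cosetToSylow_surjective {G : Type*} [Group G] {p : ℕ} [Fact p.Prime] [Finite (Sylow p G)]
    (P : Sylow p G) : Function.Surjective (cosetToSylow P) := by
  intro Q
  obtain ⟨g, hg⟩ := MulAction.exists_smul_eq G P Q
  exact ⟨(g : G ⧸ Subgroup.normalizer ((P : Subgroup G) : Set G)), by rw [cosetToSylow_mk, hg]⟩

/-- the fixed points of `h` on the cosets of `N_G(P)` correspond to the Sylow subgroups
normalized by `h`. -/
theorem card_fixedBy_coset_eq {G : Type*} [Group G] {p : ℕ} [Fact p.Prime] [Finite (Sylow p G)]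
    (P : Sylow p G) (h : G) :
    Nat.card ↥(fixedBy (G ⧸ Subgroup.normalizer ((P : Subgroup G) : Set G)) h) =
      Nat.card ↥(fixedBy (Sylow p G) h) := by
  let e : (G ⧸ Subgroup.normalizer ((P : Subgroup G) : Set G)) ≃ Sylow p G :=
    Equiv.ofBijective _ ⟨cosetToSylow_injective P, cosetToSylow_surjective P⟩
  apply Nat.card_congr
  refine e.subtypeEquiv (fun c => ?_)
  show h • c = c ↔ h • cosetToSylow P c = cosetToSylow P c
  rw [← cosetToSylow_smul]
  exact ⟨fun hc => by rw [hc], fun hc => cosetToSylow_injective P hc⟩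

/-- A `p`-element normalizing a Sylow `p`-subgroup lies in it. -/
theorem mem_sylow_of_mem_normalizer {G : Type*} [Group G] {p : ℕ} [Fact p.Prime] (Q : Sylow p G)
    (y : G) (hy : IsPGroup p ↥(Subgroup.zpowers y))
    (hyN : y ∈ Subgroup.normalizer ((Q : Subgroup G) : Set G)) : y ∈ (Q : Subgroup G) := by
  have h1 := hy.inf_normalizer_sylow Q
  have h2 : y ∈ Subgroup.zpowers y ⊓ Subgroup.normalizer ((Q : Subgroup G) : Set G) :=
    ⟨Subgroup.mem_zpowers y, hyN⟩
  exact (h1.le h2).2

end Cfsg.Agent.Lib.Helper23
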