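import Mathlib
import Cfsg.Agent.Lib.Helper06.NFDefs

/-!
# K-S0688-4a: dimension data for `K = F_p[A]` (keystone for S0688 / S3361, architect helper6)
-/

set_option autoImplicit false
set_option linter.style.haveILetI false

namespace Cfsg.Agent.Lib.Helper23.NF
open Cfsg.Agent.Lib.Helper06.NF

variable {p : ℕ} [Fact p.Prime] {V : Type*} [AddCommGroup V] [Module (ZMod p) V]

/-- core facts about a commutative subalgebra `K` of `End V` whose nonzero elements act
injectively. -/
theorem dim_core [Finite V] [Nontrivial V] (K : Subalgebra (ZMod p) (Module.End (ZMod p) V))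
    (hc : ∀ x ∈ K, ∀ y ∈ K, x * y = y * x)
    (hK : ∀ k ∈ K, ∀ v : V, v ≠ 0 → k v = 0 → k = 0) :
    0 < Module.finrank (ZMod p) K ∧ ∃ e : ℕ, 0 < e ∧
      Nat.card V = p ^ (Module.finrank (ZMod p) K * e) ∧
      Nat.card (↥K)ˣ = p ^ Module.finrank (ZMod p) K - 1 ∧
      (e = 1 → ∀ v₀ : V, v₀ ≠ 0 → ∀ v : V, ∃ k ∈ K, k v₀ = v) := by
  classical
  have hp : p.Prime := Fact.out
  haveI : Finite (Module.End (ZMod p) V) :=
    Finite.of_injective (fun f : Module.End (ZMod p) V => (f : V → V)) DFunLike.coe_injective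
  haveI : Finite K := inferInstance
  obtain ⟨v₁, hv₁⟩ := exists_ne (0 : V)
  letI : CommRing K :=
    { (inferInstance : Ring K) with
      mul_comm := fun x y => Subtype.ext (hc x.1 x.2 y.1 y.2) }
  haveI : Nontrivial K := by
    refine ⟨⟨0, 1, fun h => hv₁ ?_⟩⟩
    have h2 : ((0 : K) : Module.End (ZMod p) V) v₁ = ((1 : K) : Module.End (ZMod p) V) v₁ := by
      rw [h]
    simpa using h2.symm
  haveI : NoZeroDivisors K := by
    refine ⟨fun {a b} hab => ?_⟩
    by_cases hb : b = 0
    · exact Or.inr hb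
    · left
      have hb' : (b : Module.End (ZMod p) V) ≠ 0 := fun h => hb (Subtype.ext h)
      obtain ⟨v, hv⟩ : ∃ v, (b : Module.End (ZMod p) V) v ≠ 0 := by
        by_contra hcon
        push Not at hcon
        exact hb' (LinearMap.ext hcon)
      have h1 : (a : Module.End (ZMod p) V) ((b : Module.End (ZMod p) V) v) = 0 := by
        have := congrArg (fun k : K => (k : Module.End (ZMod p) V) v) hab
        simpa using this
      exact Subtype.ext (hK a.1 a.2 _ hv h1)
  haveI : IsDomain K := NoZeroDivisors.to_isDomain K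
  letI : Fintype K := Fintype.ofFinite K
  letI : Field K := Fintype.fieldOfDomain K
  have hcardK : Nat.card K = p ^ Module.finrank (ZMod p) K := by
    have := Module.natCard_eq_pow_finrank (K := ZMod p) (V := K)
    rwa [Nat.card_zmod] at this
  have hcardV : Nat.card V = Nat.card K ^ Module.finrank K V :=
    Module.natCard_eq_pow_finrank (K := K) (V := V)
  have hK1 : 1 < Nat.card K := Finite.one_lt_card
  have hV1 : 1 < Nat.card V := Finite.one_lt_card
  have hd : 0 < Module.finrank (ZMod p) K := by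
    rcases Nat.eq_zero_or_pos (Module.finrank (ZMod p) K) with h | h
    · rw [h, pow_zero] at hcardK
      omega
    · exact h
  refine ⟨hd, Module.finrank K V, ?_, ?_, ?_, ?_⟩
  · rcases Nat.eq_zero_or_pos (Module.finrank K V) with h | h
    · rw [h, pow_zero] at hcardV
      omega
    · exact h
  · rw [hcardV, hcardK, pow_mul]
  · have h := Nat.card_units K
    rw [hcardK] at h
    exact h
  · intro he v₀ hv₀
    have hinj : Function.Injective (fun k : K => (k : Module.End (ZMod p) V) v₀) := by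
      intro k k' hkk
      have h1 : ((k - k' : K) : Module.End (ZMod p) V) v₀ = 0 := by
        have h2 : (k : Module.End (ZMod p) V) v₀ = (k' : Module.End (ZMod p) V) v₀ := hkk
        simp [h2]
      have h3 := hK _ (k - k').2 v₀ hv₀ h1
      have h4 : k - k' = 0 := Subtype.ext h3
      exact sub_eq_zero.mp h4
    have hle : Nat.card V ≤ Nat.card K := by
      rw [hcardV, he, pow_one]
    have hbij := hinj.bijective_of_nat_card_le hle
    intro v
    obtain ⟨k, hk⟩ := hbij.2 v
    exact ⟨k.1, k.2, hk⟩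

/-- the embedding of `A` into `K = adj H A`. -/
def toK (H : Subgroup (V ≃ₗ[ZMod p] V)) (A : Subgroup H) : A →* (adj H A) where
  toFun a := ⟨(((a : H) : V ≃ₗ[ZMod p] V) : V →ₗ[ZMod p] V),
    Algebra.subset_adjoin ⟨(a : H), a.2, rfl⟩⟩
  map_one' := by
    apply Subtype.ext
    ext v
    simp
  map_mul' a b := by
    apply Subtype.ext
    ext v
    simp

theorem toK_injective (H : Subgroup (V ≃ₗ[ZMod p] V)) (A : Subgroup H) :
    Function.Injective (toK H A) := by
  intro a b hab
  have h1 : (((a : H) : V ≃ₗ[ZMod p] V) : V →ₗ[ZMod p] V) =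
      (((b : H) : V ≃ₗ[ZMod p] V) : V →ₗ[ZMod p] V) := congrArg Subtype.val hab
  apply Subtype.ext
  apply Subtype.ext
  apply LinearEquiv.ext
  intro v
  exact LinearMap.congr_fun h1 v

/-- **K-S0688-4a** (dimension data). -/
theorem dim_data [Finite V] [Nontrivial V] (H : Subgroup (V ≃ₗ[ZMod p] V))
    (A : Subgroup H) (hAc : ∀ a ∈ A, ∀ b ∈ A, a * b = b * a)
    (hK : ∀ k ∈ adj H A, ∀ v : V, v ≠ 0 → k v = 0 → k = 0) :
    0 < Module.finrank (ZMod p) (adj H A) ∧
    ∃ e : ℕ, 0 < e ∧ Nat.card V = p ^ (Module.finrank (ZMod p) (adj H A) * e) ∧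
      Nat.card A ∣ p ^ (Module.finrank (ZMod p) (adj H A)) - 1 ∧
      ((∃ W : Submodule (ZMod p) V, W ≠ ⊥ ∧ W ≠ ⊤ ∧
          ∀ a ∈ A, ∀ v ∈ W, ((a : H) : V ≃ₗ[ZMod p] V) v ∈ W) → 2 ≤ e) ∧
      (e = 1 → ∀ x ∈ Subgroup.centralizer (A : Set H), ∀ y ∈ Subgroup.centralizer (A : Set H),
          x * y = y * x) := by
  haveI : Finite H := finite_subgroup_linearEquiv H
  -- generators commute
  have hgen : ∀ f ∈ {f : Module.End (ZMod p) V | ∃ a ∈ A,
      f = (((a : H) : V ≃ₗ[ZMod p] V) : V →ₗ[ZMod p] V)},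
      ∀ g ∈ {f : Module.End (ZMod p) V | ∃ a ∈ A,
      f = (((a : H) : V ≃ₗ[ZMod p] V) : V →ₗ[ZMod p] V)}, f * g = g * f := by
    rintro f ⟨a, ha, rfl⟩ g ⟨b, hb, rfl⟩
    ext v
    have := congrArg (fun h : H => ((h : V ≃ₗ[ZMod p] V) v)) (hAc a ha b hb)
    simpa using this
  have hc : ∀ x ∈ adj H A, ∀ y ∈ adj H A, x * y = y * x := by
    have hI : IsMulCommutative ↥(adj H A) := Algebra.isMulCommutative_adjoin (ZMod p) hgen
    intro x hx y hy
    exact setLike_mul_comm hx hy
  obtain ⟨hd, e, he, hcardV, hunits, hsurj⟩ := dim_core (adj H A) hc hK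
  refine ⟨hd, e, he, hcardV, ?_, ?_, ?_⟩
  · rw [← hunits]
    refine Subgroup.card_dvd_of_injective (toK H A).toHomUnits ?_
    intro a b hab
    apply toK_injective H A
    have := congrArg Units.val hab
    simpa using this
  · rintro ⟨W, hW0, hWtop, hWA⟩
    by_contra hlt
    have he1 : e = 1 := by omega
    -- `W` is `K`-invariant
    have hWK : ∀ k ∈ adj H A, ∀ v ∈ W, k v ∈ W := by
      intro k hk
      induction hk using Algebra.adjoin_induction with
      | mem x hx =>
        obtain ⟨a, ha, rfl⟩ := hx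
        intro v hv
        exact hWA a ha v hv
      | algebraMap r =>
        intro v hv
        rw [Module.algebraMap_end_apply]
        exact W.smul_mem r hv
      | add x y hx hy ihx ihy =>
        intro v hv
        rw [LinearMap.add_apply]
        exact W.add_mem (ihx v hv) (ihy v hv)
      | mul x y hx hy ihx ihy =>
        intro v hv
        rw [Module.End.mul_apply]
        exact ihx _ (ihy v hv)
    obtain ⟨w, hwW, hw0⟩ := (Submodule.ne_bot_iff W).mp hW0
    apply hWtop
    rw [eq_top_iff]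
    intro v _
    obtain ⟨k, hk, hkv⟩ := hsurj he1 w hw0 v
    rw [← hkv]
    exact hWK k hk w hwW
  · intro he1 x hx y hy
    obtain ⟨v₀, hv₀⟩ := exists_ne (0 : V)
    -- elements of the centralizer commute with `K`
    have hcomK : ∀ z ∈ Subgroup.centralizer (A : Set H), ∀ k ∈ adj H A,
        (((z : H) : V ≃ₗ[ZMod p] V) : Module.End (ZMod p) V) * k =
          k * (((z : H) : V ≃ₗ[ZMod p] V) : Module.End (ZMod p) V) := by
      intro z hz k hk
      induction hk using Algebra.adjoin_induction with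
      | mem f hf =>
        obtain ⟨a, ha, rfl⟩ := hf
        have h1 : a * z = z * a := Subgroup.mem_centralizer_iff.mp hz a ha
        ext v
        have := congrArg (fun h : H => ((h : V ≃ₗ[ZMod p] V) v)) h1
        simpa using this.symm
      | algebraMap r => exact (Algebra.commutes r _).symm
      | add f g hf hg ihf ihg => rw [mul_add, add_mul, ihf, ihg]
      | mul f g hf hg ihf ihg => rw [← mul_assoc, ihf, mul_assoc, ihg, ← mul_assoc]
    -- every element of the centralizer acts as an element of `K`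
    have hact : ∀ z ∈ Subgroup.centralizer (A : Set H), ∃ k ∈ adj H A,
        ∀ v : V, ((z : H) : V ≃ₗ[ZMod p] V) v = k v := by
      intro z hz
      obtain ⟨kz, hkz, hkzv⟩ := hsurj he1 v₀ hv₀ (((z : H) : V ≃ₗ[ZMod p] V) v₀)
      refine ⟨kz, hkz, fun v => ?_⟩
      obtain ⟨k, hk, hkv⟩ := hsurj he1 v₀ hv₀ v
      rw [← hkv]
      have h1 := LinearMap.congr_fun (hcomK z hz k hk) v₀
      rw [Module.End.mul_apply, Module.End.mul_apply] at h1
      have h2 : ((z : H) : V ≃ₗ[ZMod p] V) (k v₀) = k (((z : H) : V ≃ₗ[ZMod p] V) v₀) := h1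
      rw [h2, ← hkzv]
      have h3 := LinearMap.congr_fun (hc k hk kz hkz) v₀
      rw [Module.End.mul_apply, Module.End.mul_apply] at h3
      exact h3
    obtain ⟨kx, hkx, hx'⟩ := hact x hx
    obtain ⟨ky, hky, hy'⟩ := hact y hy
    apply Subtype.ext
    apply LinearEquiv.ext
    intro v
    have h3 := LinearMap.congr_fun (hc kx hkx ky hky) v
    rw [Module.End.mul_apply, Module.End.mul_apply] at h3
    show ((x : H) : V ≃ₗ[ZMod p] V) (((y : H) : V ≃ₗ[ZMod p] V) v) =
      ((y : H) : V ≃ₗ[ZMod p] V) (((x : H) : V ≃ₗ[ZMod p] V) v)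
    rw [hy' v, hx' (ky v), hx' v, hy' (kx v)]
    exact h3

end Cfsg.Agent.Lib.Helper23.NF
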