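import Mathlib

/-!
# K-S3361-I: index-two toolkit (keystone for S3361, architect helper6)
-/

set_option autoImplicit false
set_option linter.style.haveILetI false

namespace Cfsg.Agent.Lib.Helper23.NF

variable {G : Type*} [Group G] [Finite G]

/-- I1. -/
theorem index_two_of_quotient (N : Subgroup G) [N.Normal] (K : Subgroup (G ⧸ N))
    (hK : K.index = 2) : ∃ M : Subgroup G, M.Normal ∧ M.index = 2 := by
  have hidx : (K.comap (QuotientGroup.mk' N)).index = 2 := by
    rw [Subgroup.index_comap_of_surjective K (QuotientGroup.mk'_surjective N), hK]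
  exact ⟨K.comap (QuotientGroup.mk' N), Subgroup.normal_of_index_eq_two hidx, hidx⟩

/-- a nontrivial finite `2`-group has a subgroup of index 2. -/
theorem exists_index_two_of_card_two_pow {Q : Type*} [Group Q] [Finite Q] (k : ℕ) (hk : 0 < k)
    (hcard : Nat.card Q = 2 ^ k) : ∃ K : Subgroup Q, K.index = 2 := by
  haveI : Fact (Nat.Prime 2) := ⟨Nat.prime_two⟩
  have hdvd : 2 ^ (k - 1) ∣ Nat.card Q := by
    rw [hcard]; exact pow_dvd_pow 2 (Nat.sub_le k 1)
  obtain ⟨K, hKc⟩ := Sylow.exists_subgroup_card_pow_prime 2 hdvd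
  refine ⟨K, ?_⟩
  have h1 := K.card_mul_index
  rw [hKc, hcard] at h1
  have h2 : (2 : ℕ) ^ k = 2 ^ (k - 1) * 2 := by
    rw [← pow_succ]; congr 1; omega
  rw [h2] at h1
  exact Nat.eq_of_mul_eq_mul_left (by positivity) h1

/-- I4. -/
theorem index_two_of_index_two_pow (N : Subgroup G) (hN : N.Normal) (k : ℕ) (hk : 0 < k)
    (hidx : N.index = 2 ^ k) : ∃ M : Subgroup G, M.Normal ∧ M.index = 2 := by
  haveI := hN
  have hcard : Nat.card (G ⧸ N) = 2 ^ k := by rw [← Subgroup.index_eq_card, hidx]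
  obtain ⟨K, hK⟩ := exists_index_two_of_card_two_pow k hk hcard
  exact index_two_of_quotient N K hK

/-- I2. -/
theorem index_two_of_abelian_even (N : Subgroup G) (hN : N.Normal)
    (hab : ∀ x y : G, x * y * x⁻¹ * y⁻¹ ∈ N) (h2 : 2 ∣ N.index) :
    ∃ M : Subgroup G, M.Normal ∧ M.index = 2 := by
  haveI := hN
  haveI : Fact (Nat.Prime 2) := ⟨Nat.prime_two⟩
  letI : CommGroup (G ⧸ N) :=
    { (inferInstance : Group (G ⧸ N)) with
      mul_comm := by
        intro a b
        induction a using QuotientGroup.induction_on with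
        | H x =>
          induction b using QuotientGroup.induction_on with
          | H y =>
            rw [← QuotientGroup.mk_mul, ← QuotientGroup.mk_mul, QuotientGroup.eq]
            have := hab y⁻¹ x⁻¹
            simpa [mul_assoc] using this }
  have hcardQ : Nat.card (G ⧸ N) = N.index := (Subgroup.index_eq_card N).symm
  have hn0 : N.index ≠ 0 := by
    rw [← hcardQ]; exact Nat.card_pos.ne'
  obtain ⟨k, m, hm, hkm⟩ := Nat.exists_eq_two_pow_mul_odd hn0
  -- the `m`-th power map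
  set ψ : (G ⧸ N) →* (G ⧸ N) := powMonoidHom m with hψ
  -- its range is a nontrivial 2-group
  have hR2 : IsPGroup 2 ψ.range := by
    rintro ⟨y, x, rfl⟩
    refine ⟨k, ?_⟩
    apply Subtype.ext
    rw [Subgroup.coe_pow, Subgroup.coe_one]
    show (x ^ m) ^ 2 ^ k = 1
    rw [← pow_mul, mul_comm, ← hkm, ← hcardQ]
    exact pow_card_eq_one'
  obtain ⟨j, hj⟩ := hR2.exists_card_eq
  have hj0 : 0 < j := by
    rcases Nat.eq_zero_or_pos j with h | h
    · exfalso
      rw [h, pow_zero] at hj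
      have hbot : ψ.range = ⊥ := Subgroup.eq_bot_of_card_eq _ hj
      obtain ⟨x, hx⟩ := exists_prime_orderOf_dvd_card' 2 (by rw [hcardQ]; exact h2)
      have hx2 : x ^ 2 = 1 := by rw [← hx]; exact pow_orderOf_eq_one x
      have hx1 : x ≠ 1 := by
        intro h1
        rw [h1, orderOf_one] at hx
        omega
      obtain ⟨t, ht⟩ := hm
      have hxm : ψ x = x := by
        show x ^ m = x
        rw [ht, pow_succ, pow_mul, hx2, one_pow, one_mul]
      have hmem : x ∈ ψ.range := ⟨x, hxm⟩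
      rw [hbot, Subgroup.mem_bot] at hmem
      exact hx1 hmem
    · exact h
  obtain ⟨P₁, hP₁⟩ := exists_index_two_of_card_two_pow (Q := ψ.range) j hj0 hj
  have hK : (P₁.comap ψ.rangeRestrict).index = 2 := by
    rw [Subgroup.index_comap_of_surjective P₁ ψ.rangeRestrict_surjective, hP₁]
  exact index_two_of_quotient N _ hK

/-- I5. -/
theorem index_two_of_index_six (N : Subgroup G) (hN : N.Normal) (hidx : N.index = 6) :
    ∃ M : Subgroup G, M.Normal ∧ M.index = 2 := by
  haveI := hN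
  haveI : Fact (Nat.Prime 3) := ⟨Nat.prime_three⟩
  have hcard : Nat.card (G ⧸ N) = 6 := by rw [← Subgroup.index_eq_card, hidx]
  obtain ⟨x, hx⟩ := exists_prime_orderOf_dvd_card' (G := G ⧸ N) 3 (by rw [hcard]; norm_num)
  have h1 := (Subgroup.zpowers x).card_mul_index
  rw [Nat.card_zpowers, hx, hcard] at h1
  have hK : (Subgroup.zpowers x).index = 2 := by omega
  exact index_two_of_quotient N _ hK

/-- I3. -/
theorem index_two_of_cyclic_even (N : Subgroup G) (hN : N.Normal) (hcyc : IsCyclic N)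
    (h2 : 2 ∣ Nat.card N) (hodd : ¬ 2 ∣ N.index) :
    ∃ M : Subgroup G, M.Normal ∧ M.index = 2 := by
  haveI := hN
  haveI : Fact (Nat.Prime 2) := ⟨Nat.prime_two⟩
  have hG2 : 2 ∣ Nat.card G := h2.trans N.card_subgroup_dvd_card
  have hmin : (Nat.card G).minFac = 2 := (Nat.minFac_eq_two_iff _).mpr hG2
  obtain ⟨P⟩ : Nonempty (Sylow 2 G) := inferInstance
  -- `P ≤ N`
  have hPN : (P : Subgroup G) ≤ N := by
    rw [← Subgroup.relIndex_eq_one]
    have h1 : N.relIndex (P : Subgroup G) ∣ N.index := Subgroup.relIndex_dvd_index_of_normal N P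
    have h3 : N.relIndex (P : Subgroup G) ∣ Nat.card (P : Subgroup G) :=
      Subgroup.relIndex_dvd_card N P
    rw [P.card_eq_multiplicity] at h3
    have hcop : Nat.Coprime (2 ^ (Nat.card G).factorization 2) N.index := by
      apply Nat.Coprime.pow_left
      exact (Nat.Prime.coprime_iff_not_dvd Nat.prime_two).mpr hodd
    exact Nat.eq_one_of_dvd_coprimes hcop h3 h1
  have hPc : IsCyclic (P : Subgroup G) :=
    isCyclic_of_injective (Subgroup.inclusion hPN) (Subgroup.inclusion_injective hPN)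
  have hcomp := IsCyclic.isComplement' hmin hPc
  set K := (MonoidHom.transferSylow P (hPc.normalizer_le_centralizer hmin)).ker with hKdef
  have hKidx : K.index = Nat.card (P : Subgroup G) := hcomp.symm.index_eq_card
  rw [P.card_eq_multiplicity] at hKidx
  have hk : 0 < (Nat.card G).factorization 2 :=
    Nat.Prime.factorization_pos_of_dvd Nat.prime_two Nat.card_pos.ne' hG2
  exact index_two_of_index_two_pow K inferInstance _ hk hKidx

/-- I6. -/
theorem commutator_mem_centralizer_of_cyclic (A : Subgroup G) (hAn : A.Normal) (hcyc : IsCyclic A)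
    (x y : G) : x * y * x⁻¹ * y⁻¹ ∈ Subgroup.centralizer (A : Set G) := by
  obtain ⟨⟨g, hgA⟩, hg⟩ := hcyc.exists_generator
  -- every element of `A` is a power of `g`
  have hpow : ∀ a ∈ A, ∃ k : ℤ, g ^ k = a := by
    intro a ha
    obtain ⟨k, hk⟩ := Subgroup.mem_zpowers_iff.mp (hg ⟨a, ha⟩)
    refine ⟨k, ?_⟩
    have := congrArg Subtype.val hk
    simpa using this
  obtain ⟨i, hi⟩ := hpow _ (hAn.conj_mem g hgA x)
  obtain ⟨j, hj⟩ := hpow _ (hAn.conj_mem g hgA y)
  -- `x y` and `y x` act in the same way on `g`, hence on `A`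
  have hconj_zpow : ∀ (w h : G) (k : ℤ), w * h ^ k * w⁻¹ = (w * h * w⁻¹) ^ k := by
    intro w h k
    exact (map_zpow (MulAut.conj w) h k)
  have h1 : (x * y) * g * (x * y)⁻¹ = g ^ (i * j) := by
    calc (x * y) * g * (x * y)⁻¹ = x * (y * g * y⁻¹) * x⁻¹ := by group
      _ = x * g ^ j * x⁻¹ := by rw [← hj]
      _ = (x * g * x⁻¹) ^ j := hconj_zpow x g j
      _ = g ^ (i * j) := by rw [← hi, zpow_mul]
  have h2 : (y * x) * g * (y * x)⁻¹ = g ^ (i * j) := by
    calc (y * x) * g * (y * x)⁻¹ = y * (x * g * x⁻¹) * y⁻¹ := by group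
      _ = y * g ^ i * y⁻¹ := by rw [← hi]
      _ = (y * g * y⁻¹) ^ i := hconj_zpow y g i
      _ = g ^ (i * j) := by rw [← hj, ← zpow_mul, mul_comm]
  have hsame : ∀ a ∈ A, (x * y) * a * (x * y)⁻¹ = (y * x) * a * (y * x)⁻¹ := by
    intro a ha
    obtain ⟨k, rfl⟩ := hpow a ha
    rw [hconj_zpow, hconj_zpow, h1, h2]
  rw [Subgroup.mem_centralizer_iff]
  intro a ha
  -- `b := (y x)⁻¹ a (y x) ∈ A`
  have hb : (y * x)⁻¹ * a * (y * x) ∈ A := by
    have := hAn.conj_mem a ha (y * x)⁻¹
    simpa using this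
  have h3 := hsame _ hb
  have h4 : (y * x) * ((y * x)⁻¹ * a * (y * x)) * (y * x)⁻¹ = a := by group
  rw [h4] at h3
  -- h3 : (x y) ((y x)⁻¹ a (y x)) (x y)⁻¹ = a
  have h5 : (x * y * x⁻¹ * y⁻¹) * a * (x * y * x⁻¹ * y⁻¹)⁻¹ =
      (x * y) * ((y * x)⁻¹ * a * (y * x)) * (x * y)⁻¹ := by group
  rw [h3] at h5
  -- h5 : c a c⁻¹ = a
  exact (mul_inv_eq_iff_eq_mul.mp h5).symm

end Cfsg.Agent.Lib.Helper23.NF
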