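import Mathlib

namespace Cfsg.Agent.Lib.Helper23

/-- Class equation for one element: `|g^G| * |C_G(g)| = |G|`. -/
theorem card_isConj_mul_card_centralizer {G : Type*} [Group G] [Finite G] (g : G) :
    Nat.card {h : G // IsConj g h} * Nat.card ↥(Subgroup.centralizer ({g} : Set G)) =
      Nat.card G := by
  rw [Subgroup.nat_card_centralizer_nat_card_stabilizer]
  have h1 := Subgroup.card_mul_index (MulAction.stabilizer (ConjAct G) g)
  rw [MulAction.index_stabilizer] at h1
  have h2 : Nat.card (ConjAct G) = Nat.card G := Nat.card_congr ConjAct.ofConjAct.toEquiv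
  rw [h2] at h1
  rw [← h1, mul_comm]
  congr 1
  rw [← Nat.card_coe_set_eq]
  apply Nat.card_congr
  apply Equiv.subtypeEquivRight
  intro h
  rw [ConjAct.mem_orbit_conjAct, isConj_comm]

/-- centralizer of a generator of a subgroup of prime order. -/
theorem centralizer_eq_of_mem_zpowers {G : Type*} [Group G] (p : ℕ) [Fact p.Prime] (z g : G)
    (hz : orderOf z = p) (hg : g ∈ Subgroup.zpowers z) (hg1 : g ≠ 1) :
    Subgroup.centralizer ({g} : Set G) = Subgroup.centralizer ({z} : Set G) := by
  have hcard : Nat.card ↥(Subgroup.zpowers z) = p := by rw [Nat.card_zpowers, hz]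
  have : Finite ↥(Subgroup.zpowers z) :=
    Nat.finite_of_card_ne_zero (by rw [hcard]; exact (Fact.out : p.Prime).ne_zero)
  have hgen : Subgroup.zpowers g = Subgroup.zpowers z := by
    apply Subgroup.eq_of_le_of_card_ge
    · rw [Subgroup.zpowers_le]; exact hg
    · have h1 : orderOf g ∣ p := by
        rw [← hcard]
        exact Subgroup.orderOf_dvd_natCard _ hg
      rcases (Nat.dvd_prime Fact.out).mp h1 with h | h
      · exact absurd (orderOf_eq_one_iff.mp h) hg1
      · rw [Nat.card_zpowers, Nat.card_zpowers, h, hz]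
  have key : ∀ a b : G, b ∈ Subgroup.zpowers a →
      Subgroup.centralizer ({a} : Set G) ≤ Subgroup.centralizer ({b} : Set G) := by
    intro a b hb x hx
    rw [Subgroup.mem_centralizer_iff] at hx ⊢
    intro y hy
    rw [Set.mem_singleton_iff] at hy
    subst hy
    obtain ⟨k, rfl⟩ := Subgroup.mem_zpowers_iff.mp hb
    have h1 : Commute a x := hx a rfl
    exact (h1.zpow_left k).eq
  apply le_antisymm
  · apply key
    rw [hgen]; exact Subgroup.mem_zpowers z
  · exact key _ _ hg

end Cfsg.Agent.Lib.Helper23
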