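import Mathlib
import Cfsg.Agent.Lib.Helper34.FrobTI
import Cfsg.Agent.Lib.Helper34.GenChar2
import Cfsg.Agent.Lib.Helper04.IndFun
import Cfsg.Agent.Lib.Helper83.Abelian

/-!
# Exceptional characters for a self-centralizing T.I. subgroup of prime order

Let `K` be a subgroup of prime order `p` of `G` with `C_G(K) = K`, `N = N_G(K)`, `e = [N : K]`.
On top of the exceptional characters (statement S0851, given here as the data `ε`, `f`) we decompose
the generalized character `(1_K - φ)^G` and read off the degree equation and the congruences of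
the degrees modulo `p`.
-/

set_option autoImplicit false
set_option linter.unusedSectionVars false
set_option linter.style.haveILetI false

namespace Cfsg.Agent.Lib.Helper23.Exceptional

open Cfsg Cfsg.Agent.Lib.Helper34
open scoped ComplexConjugate

section Main

variable {G : Type*} [Group G] [Fintype G] (N : Subgroup G) [Fintype N] (KN : Subgroup N)
  [hKN : KN.Normal]
  (hC : ∀ k ∈ KN, k ≠ 1 → Subgroup.centralizer ({k} : Set N) ≤ KN)
  (hab : ∀ a ∈ KN, ∀ b ∈ KN, a * b = b * a)

/-- the permutation character of `N` on the cosets of `K` -/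
noncomputable def rho : N → ℂ := indFun KN (fun _ : KN => (1 : ℂ))

include hC hab in
/-- a relevant character has degree `[N : K]` when `K` is abelian -/
theorem rel_degree {χ : N → ℂ} (h : FrobRel KN χ) : χ 1 = (KN.index : ℂ) := by
  obtain ⟨φ, hφ, -, rfl⟩ := h.eq_ind KN hC
  rw [Cfsg.Agent.Lib.Helper83.indFun_one_eq]
  have := Cfsg.Agent.Lib.Helper83.irr_degree_one_of_comm (G := ↥KN)
    (fun a b => Subtype.ext (hab a a.2 b b.2)) ⟨φ, hφ⟩
  simp only at this
  rw [this, mul_one]

theorem rho_isClassFunction : IsClassFunction N (rho N KN) :=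
  Cfsg.Agent.Lib.Helper04.indFun_isClassFunction KN _

theorem rho_apply_mem {k : N} (hk : k ∈ KN) : rho N KN k = (KN.index : ℂ) :=
  indFun_one_apply_mem KN hk

theorem rho_apply_not_mem {x : N} (hx : x ∉ KN) : rho N KN x = 0 :=
  indFun_normal_apply_not_mem KN _ hx

theorem inner_rho_rho : classInner (rho N KN) (rho N KN) = (KN.index : ℂ) := by
  classical
  letI : Fintype KN := Fintype.ofFinite KN
  refine (classInner_indFun_one KN (rho N KN) (rho_isClassFunction N KN)).trans ?_
  have : ∀ k : KN, rho N KN (k : N) = (KN.index : ℂ) :=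
    fun k => indFun_one_apply_mem KN k.2
  simp only [this, Finset.sum_const, Finset.card_univ, nsmul_eq_mul]
  rw [← Nat.card_eq_fintype_card]
  have h0 : (Nat.card KN : ℂ) ≠ 0 := by exact_mod_cast Nat.card_pos.ne'
  field_simp

theorem inner_one_rho : classInner (fun _ : N => (1 : ℂ)) (rho N KN) = 1 := by
  classical
  letI : Fintype KN := Fintype.ofFinite KN
  refine (classInner_indFun_one KN (fun _ : N => (1 : ℂ)) (fun _ _ => rfl)).trans ?_
  simp only [Finset.sum_const, Finset.card_univ, nsmul_eq_mul, mul_one]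
  rw [← Nat.card_eq_fintype_card]
  have h0 : (Nat.card KN : ℂ) ≠ 0 := by exact_mod_cast Nat.card_pos.ne'
  field_simp

include hC in
theorem inner_rel_rho {χ : N → ℂ} (h : FrobRel KN χ) : classInner χ (rho N KN) = 0 :=
  h.inner_indFun_one KN hC

include hC in
theorem inner_rho_rel {χ : N → ℂ} (h : FrobRel KN χ) : classInner (rho N KN) χ = 0 := by
  rw [← Cfsg.Agent.Lib.Helper83.classInner_conj_symm, inner_rel_rho N KN hC h, map_zero]

/-- the relevant characters of `N`: the irreducible characters not having `K` in their kernel -/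
abbrev Rel : Type _ := {χ : IrrCharacter N // ∃ k ∈ KN, (χ : N → ℂ) k ≠ (χ : N → ℂ) 1}

theorem Rel.frobRel (χ : Rel N KN) : FrobRel KN (χ.1 : N → ℂ) := ⟨χ.1.2, χ.2⟩

include hC hab in
/-- the number of relevant characters: `|Rel| * e + 1 = |K|` -/
theorem card_rel : (Nat.card (Rel N KN) : ℂ) * (KN.index : ℂ) + 1 = (Nat.card KN : ℂ) := by
  classical
  haveI : Finite (IrrCharacter N) := Cfsg.Agent.Lib.Helper05.finite_irrCharacter
  letI : Fintype (IrrCharacter N) := Fintype.ofFinite _
  set P : IrrCharacter N → Prop := fun χ => ∀ k ∈ KN, (χ : N → ℂ) k = (χ : N → ℂ) 1 with hP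
  have hrel : ∀ χ : IrrCharacter N, ¬ P χ → FrobRel KN (χ : N → ℂ) := by
    intro χ hp
    refine ⟨χ.2, ?_⟩
    simp only [hP] at hp
    push Not at hp
    exact hp
  have hrho : (KN.index : ℂ) = ∑ χ : IrrCharacter N,
      if P χ then (χ : N → ℂ) 1 * (χ : N → ℂ) 1 else 0 := by
    have hcf := rho_isClassFunction N KN
    have := congrFun (Cfsg.Agent.Lib.Helper83.classFunction_eq_sum_irr hcf) 1
    rw [rho_apply_mem N KN KN.one_mem, Finset.sum_apply] at this
    rw [this]
    apply Finset.sum_congr rfl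
    intro χ _
    have hχc := Cfsg.Agent.Lib.Helper83.IrrCharacter_isCharacter χ
    rw [Pi.smul_apply, smul_eq_mul, ← Cfsg.Agent.Lib.Helper83.classInner_conj_symm]
    by_cases hp : P χ
    · rw [if_pos hp]
      have h1 : classInner (χ : N → ℂ) (rho N KN) = (χ : N → ℂ) 1 :=
        inner_indFun_one_of_ker KN hp (Cfsg.Agent.Lib.Helper83.char_isClassFunction hχc)
      rw [h1, Cfsg.Agent.Lib.Helper83.char_one_conj hχc]
    · rw [if_neg hp, inner_rel_rho N KN hC (hrel χ hp), map_zero, zero_mul]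
  have hreg := Cfsg.Agent.Lib.Helper83.sum_irr_degree_mul (G := N) (1 : N)
  rw [if_pos rfl] at hreg
  have hsplit : ∑ χ : IrrCharacter N, (χ : N → ℂ) 1 * (χ : N → ℂ) 1
      = (∑ χ : IrrCharacter N, if P χ then (χ : N → ℂ) 1 * (χ : N → ℂ) 1 else 0)
        + ∑ χ : IrrCharacter N, if P χ then 0 else (KN.index : ℂ) * (KN.index : ℂ) := by
    rw [← Finset.sum_add_distrib]
    apply Finset.sum_congr rfl
    intro χ _
    by_cases hp : P χ
    · rw [if_pos hp, if_pos hp, add_zero]
    · rw [if_neg hp, if_neg hp, zero_add, rel_degree N KN hC hab (hrel χ hp)]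
  have hcount : ∑ χ : IrrCharacter N, (if P χ then 0 else (KN.index : ℂ) * (KN.index : ℂ))
      = (Nat.card (Rel N KN) : ℂ) * ((KN.index : ℂ) * (KN.index : ℂ)) := by
    rw [Finset.sum_ite, Finset.sum_const_zero, zero_add, Finset.sum_const, nsmul_eq_mul]
    congr 2
    rw [Nat.card_eq_fintype_card, Fintype.card_subtype]
    congr 1
    ext χ
    simp only [Finset.mem_filter, Finset.mem_univ, true_and, hP]
    push Not
    rfl
  rw [hsplit, ← hrho, hcount, ← Subgroup.card_mul_index KN] at hreg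
  push_cast at hreg
  have he : (KN.index : ℂ) ≠ 0 := by
    have : KN.index ≠ 0 := Subgroup.index_ne_zero_of_finite
    exact_mod_cast this
  have : (KN.index : ℂ) * ((Nat.card (Rel N KN) : ℂ) * (KN.index : ℂ) + 1)
      = (KN.index : ℂ) * (Nat.card KN : ℂ) := by
    linear_combination hreg
  exact mul_left_cancel₀ he this

/-- `γ_a = ρ - a` for a relevant character `a` -/
noncomputable def gam (a : Rel N KN) : N → ℂ := rho N KN - (a.1 : N → ℂ)

/-- `α_a = (ρ - a)^G` -/
noncomputable def alph (a : Rel N KN) : G → ℂ := indFun N (gam N KN a)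

theorem rel_isClassFunction (χ : Rel N KN) : IsClassFunction N (χ.1 : N → ℂ) :=
  Cfsg.Agent.Lib.Helper83.char_isClassFunction (Cfsg.Agent.Lib.Helper83.isCharacter_of_irr χ.1.2)

theorem gam_isClassFunction (a : Rel N KN) : IsClassFunction N (gam N KN a) :=
  Cfsg.Agent.Lib.Helper83.isClassFunction_sub (rho_isClassFunction N KN) (rel_isClassFunction N KN a)

include hC in
theorem gam_vanish (a : Rel N KN) {x : N} (hx : x ∉ KN) : gam N KN a x = 0 := by
  unfold gam
  rw [Pi.sub_apply, rho_apply_not_mem N KN hx, (a.frobRel N KN).vanish KN hC hx, sub_zero]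

include hC hab in
theorem gam_one (a : Rel N KN) : gam N KN a 1 = 0 := by
  unfold gam
  rw [Pi.sub_apply, rho_apply_mem N KN KN.one_mem, rel_degree N KN hC hab (a.frobRel N KN),
    sub_self]

theorem rel_orth (χ ξ : Rel N KN) [Decidable (χ = ξ)] :
    classInner (χ.1 : N → ℂ) (ξ.1 : N → ℂ) = if χ = ξ then 1 else 0 := by
  classical
  rw [Cfsg.Agent.Lib.Helper83.irr_orthonormal]
  by_cases h : χ = ξ
  · rw [if_pos h, if_pos (congrArg Subtype.val h)]
  · rw [if_neg h, if_neg (fun h' => h (Subtype.ext h'))]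

include hC in
theorem inner_gam_gam (a : Rel N KN) :
    classInner (gam N KN a) (gam N KN a) = (KN.index : ℂ) + 1 := by
  classical
  unfold gam
  rw [classInner_sub_left, classInner_sub_right, classInner_sub_right, inner_rho_rho,
    inner_rho_rel N KN hC (a.frobRel N KN), inner_rel_rho N KN hC (a.frobRel N KN),
    rel_orth N KN a a, if_pos rfl]
  ring

include hC in
theorem inner_gam_diff (a χ ξ : Rel N KN) [Decidable (a = χ)] [Decidable (a = ξ)] :
    classInner (gam N KN a) ((χ.1 : N → ℂ) - (ξ.1 : N → ℂ))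
      = (if a = ξ then 1 else 0) - (if a = χ then 1 else 0) := by
  classical
  unfold gam
  rw [classInner_sub_left, classInner_sub_right, classInner_sub_right,
    inner_rho_rel N KN hC (χ.frobRel N KN), inner_rho_rel N KN hC (ξ.frobRel N KN),
    rel_orth N KN a χ, rel_orth N KN a ξ]
  ring

theorem gam_isGeneralizedCharacter (a : Rel N KN) : IsGeneralizedCharacter N (gam N KN a) := by
  unfold gam rho
  exact isGeneralizedCharacter_sub
    (IsCharacter.isGeneralizedCharacter (isCharacter_indFun KN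
      (Cfsg.Agent.Lib.Helper83.isCharacter_of_irr Cfsg.Agent.Lib.Helper83.isIrrCharacter_one)))
    (isGeneralizedCharacter_of_irr a.1.2)

theorem alph_isGeneralizedCharacter (a : Rel N KN) : IsGeneralizedCharacter G (alph N KN a) :=
  isGeneralizedCharacter_indFun N (gam_isGeneralizedCharacter N KN a)

include hC hab in
theorem alph_one (a : Rel N KN) : alph N KN a 1 = 0 := by
  unfold alph
  rw [Cfsg.Agent.Lib.Helper83.indFun_one_eq, gam_one N KN hC hab a, mul_zero]

variable (hiso : ∀ α β : N → ℂ, IsClassFunction N α → IsClassFunction N β →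
    (∀ x : N, x ∉ KN → α x = 0) → (∀ x : N, x ∉ KN → β x = 0) → α 1 = 0 →
    classInner (indFun N α) (indFun N β) = classInner α β)

include hC hab hiso in
theorem inner_alph_alph (a : Rel N KN) :
    classInner (alph N KN a) (alph N KN a) = (KN.index : ℂ) + 1 := by
  unfold alph
  rw [hiso _ _ (gam_isClassFunction N KN a) (gam_isClassFunction N KN a)
    (fun x hx => gam_vanish N KN hC a hx) (fun x hx => gam_vanish N KN hC a hx)
    (gam_one N KN hC hab a), inner_gam_gam N KN hC a]

include hC hab hiso in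
theorem inner_alph_ind (a χ ξ : Rel N KN) [Decidable (a = χ)] [Decidable (a = ξ)] :
    classInner (alph N KN a) (indFun N ((χ.1 : N → ℂ) - (ξ.1 : N → ℂ)))
      = (if a = ξ then 1 else 0) - (if a = χ then 1 else 0) := by
  unfold alph
  rw [hiso _ _ (gam_isClassFunction N KN a)
    (Cfsg.Agent.Lib.Helper83.isClassFunction_sub (rel_isClassFunction N KN χ)
      (rel_isClassFunction N KN ξ))
    (fun x hx => gam_vanish N KN hC a hx)
    (fun x hx => by
      rw [Pi.sub_apply, (χ.frobRel N KN).vanish KN hC hx, (ξ.frobRel N KN).vanish KN hC hx,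
        sub_zero])
    (gam_one N KN hC hab a), inner_gam_diff N KN hC a χ ξ]

include hC in
theorem inner_alph_one (a : Rel N KN) :
    classInner (alph N KN a) (fun _ : G => (1 : ℂ)) = 1 := by
  classical
  unfold alph
  rw [classInner_indFun_left N _ _ (fun _ _ => rfl)]
  unfold gam
  rw [classInner_sub_left]
  have h1 : classInner (rho N KN) (fun _ : N => (1 : ℂ)) = 1 := by
    rw [← Cfsg.Agent.Lib.Helper83.classInner_conj_symm, inner_one_rho, map_one]
  have h2 : classInner (a.1 : N → ℂ) (fun _ : N => (1 : ℂ)) = 0 := by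
    have hone : IsIrrCharacter N (fun _ : N => (1 : ℂ)) :=
      Cfsg.Agent.Lib.Helper83.isIrrCharacter_one
    have := Cfsg.Agent.Lib.Helper83.irr_orthonormal a.1 ⟨_, hone⟩
    rw [this, if_neg]
    intro h
    obtain ⟨k, _, hk⟩ := a.2
    apply hk
    rw [h]
  rw [h1, h2, sub_zero]

section Coeff

variable [Fintype (IrrCharacter G)] (a : Rel N KN) (z : IrrCharacter G → ℤ)
  (hz : alph N KN a = ∑ ψ : IrrCharacter G, (z ψ : ℂ) • (ψ : G → ℂ))

include hz in
theorem inner_alph_irr (ψ : IrrCharacter G) : classInner (alph N KN a) (ψ : G → ℂ) = z ψ := by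
  classical
  rw [hz, classInner_sum_left]
  simp only [classInner_smul_left, Cfsg.Agent.Lib.Helper83.irr_orthonormal]
  simp

include hz hC hab hiso in
theorem sum_sq_coeff : ∑ ψ : IrrCharacter G, z ψ * z ψ = (KN.index : ℤ) + 1 := by
  have h1 := inner_alph_alph N KN hC hab hiso a
  rw [hz, classInner_int_combo] at h1
  exact_mod_cast h1

include hz hC in
theorem coeff_triv : z (Cfsg.Agent.Lib.Helper83.trivChar G) = 1 := by
  have h1 := inner_alph_irr N KN a z hz (Cfsg.Agent.Lib.Helper83.trivChar G)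
  have h2 := inner_alph_one N KN hC a
  have h3 : ((Cfsg.Agent.Lib.Helper83.trivChar G : IrrCharacter G) : G → ℂ) = fun _ => 1 := rfl
  rw [h3, h2] at h1
  exact_mod_cast h1.symm

include hz hC hab in
theorem sum_coeff_degree : ∑ ψ : IrrCharacter G, (z ψ : ℂ) * (ψ : G → ℂ) 1 = 0 := by
  have h1 := alph_one N KN hC hab a
  rw [hz, Finset.sum_apply] at h1
  simpa [Pi.smul_apply, smul_eq_mul] using h1

end Coeff

section Exc

variable [Fintype (IrrCharacter G)] (ε : ℂ) (f : Rel N KN → IrrCharacter G)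
  (hε : ε = 1 ∨ ε = -1) (hf : Function.Injective f)
  (hfε : ∀ χ ξ, indFun N ((χ.1 : N → ℂ) - (ξ.1 : N → ℂ)) = ε • ((f χ : G → ℂ) - (f ξ : G → ℂ)))
  (a : Rel N KN) (z : IrrCharacter G → ℤ)
  (hz : alph N KN a = ∑ ψ : IrrCharacter G, (z ψ : ℂ) • (ψ : G → ℂ))

include hC hab hiso hε hfε hz in
theorem coeff_diff (ε' : ℤ) (hε' : (ε' : ℂ) = ε) (χ ξ : Rel N KN)
    [Decidable (a = χ)] [Decidable (a = ξ)] :
    ε' * (z (f χ) - z (f ξ)) = (if a = ξ then 1 else 0) - (if a = χ then 1 else 0) := by
  have h := inner_alph_ind N KN hC hab hiso a χ ξ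
  rw [hfε, classInner_smul_right, classInner_sub_right, inner_alph_irr N KN a z hz,
    inner_alph_irr N KN a z hz] at h
  have hconj : conj ε = ε := by
    rcases hε with h | h <;> rw [h] <;> simp
  rw [hconj, ← hε'] at h
  have h' : ((ε' * (z (f χ) - z (f ξ)) : ℤ) : ℂ)
      = (((if a = ξ then 1 else 0) - (if a = χ then 1 else 0) : ℤ) : ℂ) := by
    push_cast
    rw [h]
  exact_mod_cast h'

include hC hab hε hf hfε in
theorem triv_notMem_range
    (hperf : ∀ ψ : IrrCharacter G, (ψ : G → ℂ) 1 = 1 → ψ = Cfsg.Agent.Lib.Helper83.trivChar G)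
    (h2 : 2 ≤ Nat.card (Rel N KN)) (χ₀ : Rel N KN) :
    f χ₀ ≠ Cfsg.Agent.Lib.Helper83.trivChar G := by
  intro h
  have hε0 : ε ≠ 0 := by
    rcases hε with h | h <;> rw [h] <;> norm_num
  have hall : ∀ ξ : Rel N KN, ξ = χ₀ := by
    intro ξ
    have h1 := congrFun (hfε χ₀ ξ) 1
    rw [Cfsg.Agent.Lib.Helper83.indFun_one_eq, Pi.sub_apply,
      rel_degree N KN hC hab (χ₀.frobRel N KN), rel_degree N KN hC hab (ξ.frobRel N KN), sub_self,
      mul_zero, Pi.smul_apply, Pi.sub_apply, smul_eq_mul] at h1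
    have h3 : (f χ₀ : G → ℂ) 1 - (f ξ : G → ℂ) 1 = 0 := by
      rcases mul_eq_zero.mp h1.symm with h' | h'
      · exact absurd h' hε0
      · exact h'
    rw [h] at h3
    have h4 : (f ξ : G → ℂ) 1 = 1 := by
      have : ((Cfsg.Agent.Lib.Helper83.trivChar G : IrrCharacter G) : G → ℂ) 1 = 1 := rfl
      rw [this] at h3
      linear_combination -h3
    have h5 := hperf _ h4
    exact hf (h5.trans h.symm)
  have : Nat.card (Rel N KN) ≤ 1 := by
    haveI : Subsingleton (Rel N KN) := ⟨fun x y => (hall x).trans (hall y).symm⟩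
    exact Finite.card_le_one_iff_subsingleton.mpr inferInstance
  omega

include hC hab hiso hε hf hfε hz in
theorem exc_coeff
    (hperf : ∀ ψ : IrrCharacter G, (ψ : G → ℂ) 1 = 1 → ψ = Cfsg.Agent.Lib.Helper83.trivChar G)
    (hcard : KN.index + 2 ≤ Nat.card (Rel N KN)) :
    ∃ ε' : ℤ, (ε' = 1 ∨ ε' = -1) ∧ z (f a) = -ε' ∧ ∀ ξ, ξ ≠ a → z (f ξ) = 0 := by
  classical
  haveI : Finite (Rel N KN) := inferInstance
  letI : Fintype (Rel N KN) := Fintype.ofFinite _
  obtain ⟨ε', hε'1, hε'⟩ : ∃ ε' : ℤ, (ε' = 1 ∨ ε' = -1) ∧ (ε' : ℂ) = ε := by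
    rcases hε with h | h
    · exact ⟨1, Or.inl rfl, by rw [h]; simp⟩
    · exact ⟨-1, Or.inr rfl, by rw [h]; simp⟩
  have hsq : ε' * ε' = 1 := by rcases hε'1 with h | h <;> rw [h] <;> norm_num
  have hξ : ∀ ξ, ξ ≠ a → z (f ξ) = z (f a) + ε' := by
    intro ξ hξa
    have h := coeff_diff N KN hC hab hiso ε f hε hfε a z hz ε' hε' a ξ
    rw [if_neg (Ne.symm hξa), if_pos rfl] at h
    have h' : ε' * (ε' * (z (f a) - z (f ξ))) = ε' * (0 - 1) := by rw [h]
    rw [← mul_assoc, hsq, one_mul] at h'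
    linarith
  have hsum := sum_sq_coeff N KN hC hab hiso a z hz
  have h1 := coeff_triv N KN hC a z hz
  have h2card : 2 ≤ Nat.card (Rel N KN) := by omega
  have htriv : Cfsg.Agent.Lib.Helper83.trivChar G ∉ Finset.univ.image f := by
    intro hmem
    obtain ⟨χ₀, _, hχ₀⟩ := Finset.mem_image.mp hmem
    exact triv_notMem_range N KN hC hab ε f hε hf hfε hperf h2card χ₀ hχ₀
  have hTle : ∑ ψ ∈ insert (Cfsg.Agent.Lib.Helper83.trivChar G) (Finset.univ.image f), z ψ * z ψ
      ≤ ∑ ψ : IrrCharacter G, z ψ * z ψ :=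
    Finset.sum_le_sum_of_subset_of_nonneg (Finset.subset_univ _)
      (fun _ _ _ => mul_self_nonneg _)
  rw [Finset.sum_insert htriv, Finset.sum_image (fun x _ y _ h => hf h), h1, hsum] at hTle
  have hcpos : 1 ≤ Fintype.card (Rel N KN) := Fintype.card_pos_iff.mpr ⟨a⟩
  have hR : ∑ χ : Rel N KN, z (f χ) * z (f χ)
      = z (f a) * z (f a) + ((Fintype.card (Rel N KN) : ℤ) - 1)
          * ((z (f a) + ε') * (z (f a) + ε')) := by
    rw [← Finset.add_sum_erase Finset.univ _ (Finset.mem_univ a)]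
    congr 1
    rw [Finset.sum_congr rfl (fun ξ hξ' => by rw [hξ ξ (Finset.ne_of_mem_erase hξ')])]
    rw [Finset.sum_const, Finset.card_erase_of_mem (Finset.mem_univ a), Finset.card_univ,
      nsmul_eq_mul, Nat.cast_sub hcpos]
    push_cast
    ring
  rw [hR] at hTle
  have hcard' : ((KN.index : ℤ) + 2) ≤ (Fintype.card (Rel N KN) : ℤ) := by
    rw [Nat.card_eq_fintype_card] at hcard
    exact_mod_cast hcard
  have hzero : z (f a) + ε' = 0 := by
    by_contra hne
    have hq : 1 ≤ (z (f a) + ε') * (z (f a) + ε') := by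
      have := mul_self_pos.mpr hne
      omega
    have h3 : ((KN.index : ℤ) + 1) * 1 ≤ ((Fintype.card (Rel N KN) : ℤ) - 1)
        * ((z (f a) + ε') * (z (f a) + ε')) :=
      mul_le_mul (by linarith) hq (by norm_num) (by linarith)
    nlinarith [mul_self_nonneg (z (f a))]
  refine ⟨ε', hε'1, by linarith, fun ξ hξa => ?_⟩
  rw [hξ ξ hξa, hzero]

include hC hab hε hfε hz in
/-- the degree of a non-exceptional irreducible character is congruent modulo `|K|` to its
multiplicity in `α` -/
theorem degree_congr (ψ : IrrCharacter G) (hψ : ∀ χ, f χ ≠ ψ) :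
    ∃ b : ℤ, (ψ : G → ℂ) 1 = (Nat.card KN : ℂ) * b + z ψ := by
  classical
  letI : Fintype KN := Fintype.ofFinite KN
  haveI : Finite (IrrCharacter KN) := Cfsg.Agent.Lib.Helper05.finite_irrCharacter
  letI : Fintype (IrrCharacter KN) := Fintype.ofFinite _
  have hψG : IsGeneralizedCharacter G (ψ : G → ℂ) := isGeneralizedCharacter_of_irr ψ.2
  have hψcf : IsClassFunction G (ψ : G → ℂ) := isGeneralizedCharacter_isClassFunction hψG
  set ψN : N → ℂ := fun x => (ψ : G → ℂ) x with hψN
  have hψNG : IsGeneralizedCharacter N ψN := isGeneralizedCharacter_restrict N hψG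
  have hψNcf : IsClassFunction N ψN := isGeneralizedCharacter_isClassFunction hψNG
  set F : KN → ℂ := fun k => ψN k with hF
  have hFG : IsGeneralizedCharacter KN F := isGeneralizedCharacter_restrict KN hψNG
  have hFcf : IsClassFunction KN F := isGeneralizedCharacter_isClassFunction hFG
  have hcommK : ∀ x y : KN, x * y = y * x := fun x y => Subtype.ext (hab x x.2 y y.2)
  have hdeg1 : ∀ φ : IrrCharacter KN, (φ : KN → ℂ) 1 = 1 :=
    fun φ => Cfsg.Agent.Lib.Helper83.irr_degree_one_of_comm hcommK φ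
  -- the relevant character attached to a non-principal irreducible character of `K`
  have hrelφ : ∀ φ : IrrCharacter KN, (φ : KN → ℂ) ≠ (fun _ => 1) →
      ∃ r : Rel N KN, (r.1 : N → ℂ) = indFun KN (φ : KN → ℂ) := by
    intro φ hφ
    have h := ind_frobRel KN hC φ.2 hφ
    exact ⟨⟨⟨_, h.1⟩, h.2⟩, rfl⟩
  obtain ⟨φ₁, hφ₁, hφ₁ne, haφ₁⟩ := (a.frobRel N KN).eq_ind KN hC
  -- all non-principal irreducible characters of `K` have the same multiplicity in `F`
  have hmult : ∀ φ : IrrCharacter KN, (φ : KN → ℂ) ≠ (fun _ => 1) →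
      classInner (φ : KN → ℂ) F = classInner φ₁ F := by
    intro φ hφ
    obtain ⟨r, hr⟩ := hrelφ φ hφ
    have h1 : classInner (indFun N ((r.1 : N → ℂ) - (a.1 : N → ℂ))) (ψ : G → ℂ) = 0 := by
      rw [hfε, classInner_smul_left, classInner_sub_left,
        Cfsg.Agent.Lib.Helper83.irr_orthonormal, Cfsg.Agent.Lib.Helper83.irr_orthonormal,
        if_neg (hψ r), if_neg (hψ a)]
      ring
    rw [classInner_indFun_left N _ _ hψcf, hr, haφ₁, ← indFun_sub,
      classInner_indFun_left KN _ _ hψNcf, classInner_sub_left] at h1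
    exact sub_eq_zero.mp h1
  -- the multiplicity of `ψ` in `α`
  have hzψ : (z ψ : ℂ) = classInner (fun _ : KN => (1 : ℂ)) F - classInner φ₁ F := by
    rw [← inner_alph_irr N KN a z hz ψ]
    unfold alph gam rho
    rw [classInner_indFun_left N _ _ hψcf, haφ₁, ← indFun_sub,
      classInner_indFun_left KN _ _ hψNcf, classInner_sub_left]
  obtain ⟨n, hn⟩ := classInner_genChar_int hFG (isGeneralizedCharacter_of_irr hφ₁)
  have hn' : classInner φ₁ F = n := by
    rw [← Cfsg.Agent.Lib.Helper83.classInner_conj_symm, hn]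
    simp
  -- the number of irreducible characters of `K`
  have hcardIrr : (Fintype.card (IrrCharacter KN) : ℂ) = (Nat.card KN : ℂ) := by
    have := Cfsg.Agent.Lib.Helper83.sum_irr_degree_mul (G := KN) (1 : KN)
    rw [if_pos rfl] at this
    rw [← this]
    simp [hdeg1]
  -- decompose `F`
  have hdec := congrFun (Cfsg.Agent.Lib.Helper83.classFunction_eq_sum_irr hFcf) 1
  rw [Finset.sum_apply] at hdec
  simp only [Pi.smul_apply, smul_eq_mul, hdeg1, mul_one] at hdec
  set one : IrrCharacter KN := ⟨fun _ => 1, Cfsg.Agent.Lib.Helper83.isIrrCharacter_one⟩ with hone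
  have hother : ∀ φ ∈ Finset.univ.erase one, classInner F (φ : KN → ℂ) = (n : ℂ) := by
    intro φ hφ
    have hne : (φ : KN → ℂ) ≠ (fun _ => 1) := by
      intro h
      exact (Finset.ne_of_mem_erase hφ) (Subtype.ext h)
    rw [← Cfsg.Agent.Lib.Helper83.classInner_conj_symm, hmult φ hne, hn']
    simp
  rw [← Finset.add_sum_erase Finset.univ _ (Finset.mem_univ one), Finset.sum_congr rfl hother,
    Finset.sum_const, Finset.card_erase_of_mem (Finset.mem_univ one), Finset.card_univ,
    nsmul_eq_mul] at hdec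
  have hcpos : 1 ≤ Fintype.card (IrrCharacter KN) := Fintype.card_pos_iff.mpr ⟨one⟩
  rw [Nat.cast_sub hcpos, hcardIrr] at hdec
  have hF1 : F 1 = (ψ : G → ℂ) 1 := rfl
  have hone' : classInner F (one : KN → ℂ) = (z ψ : ℂ) + n := by
    have h3 : classInner (fun _ : KN => (1 : ℂ)) F = (z ψ : ℂ) + n := by
      rw [hzψ, hn']; ring
    rw [← Cfsg.Agent.Lib.Helper83.classInner_conj_symm]
    show conj (classInner (fun _ : KN => (1 : ℂ)) F) = _
    rw [h3]
    simp
  refine ⟨n, ?_⟩
  rw [← hF1, hdec, hone']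
  push_cast
  ring

end Exc

end Main

end Cfsg.Agent.Lib.Helper23.Exceptional
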