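import Cfsg.Agent.Lib.Helper35.OctadSplit

/-!
Keystone K-S2037-E (architect helper95): in `M24`, the joint stabiliser of an octad `o`, a point
`p ∉ o` and a point `x ∈ o` is isomorphic to the alternating group of degree 7.
-/

set_option autoImplicit false

open scoped Pointwise

namespace Cfsg.Agent.Lib.Helper23.SchurTwo

open Cfsg MulAction
open Cfsg.Agent.Lib.Helper35

/-- the pointwise stabiliser of an octad is inside the setwise stabiliser -/
theorem octFix_le_octStab' (o : Finset Cfsg.GolayPt) : octFix o ≤ octStab o := by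
  intro g hg
  rw [mem_octFix] at hg
  refine ⟨hg.1, mem_stabilizer_iff.mpr (smul_eq_of_mem_iff ?_)⟩
  intro y
  constructor
  · intro hy
    have h3 := hg.2 (g y) hy
    rw [← g.injective h3]; exact hy
  · intro hy
    rw [hg.2 y hy]; exact hy

theorem decompose' {o : Finset Cfsg.GolayPt} (ho : o ∈ Cfsg.octads) {p : Cfsg.GolayPt} (hp : p ∉ o)
    {h : Equiv.Perm Cfsg.GolayPt} (hh : h ∈ octStab o) :
    ∃ k ∈ octFix o, ∃ a ∈ octStab o ⊓ stabilizer (Equiv.Perm Cfsg.GolayPt) p, k * a = h := by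
  have hst : h • o = o := mem_stabilizer_iff.mp hh.2
  have hhp : h p ∉ o := fun hx => hp ((mem_iff_of_smul_eq hst p).mp hx)
  obtain ⟨k, hk, hkp⟩ := octFix_trans ho hp hhp
  refine ⟨k, hk, k⁻¹ * h, ?_, by group⟩
  rw [Subgroup.mem_inf, mem_stabilizer_iff]
  refine ⟨Subgroup.mul_mem _ (Subgroup.inv_mem _ (octFix_le_octStab' o hk)) hh, ?_⟩
  rw [Equiv.Perm.smul_def, Equiv.Perm.mul_apply, ← hkp, perm_inv_apply]

/-- the joint stabiliser -/
abbrev stab3 (o : Finset Cfsg.GolayPt) (p x : Cfsg.GolayPt) : Subgroup (Equiv.Perm Cfsg.GolayPt) :=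
  Cfsg.M24 ⊓ MulAction.stabilizer (Equiv.Perm Cfsg.GolayPt) o ⊓
    MulAction.stabilizer (Equiv.Perm Cfsg.GolayPt) p ⊓
    MulAction.stabilizer (Equiv.Perm Cfsg.GolayPt) x

theorem stab3_le (o : Finset Cfsg.GolayPt) (p x : Cfsg.GolayPt) : stab3 o p x ≤ octStab o :=
  fun _ hg => hg.1.1

/-- the seven remaining points of the octad -/
abbrev Rest (o : Finset Cfsg.GolayPt) (x : Cfsg.GolayPt) (hx : x ∈ o) : Type :=
  {y : ↥o // y ≠ ⟨x, hx⟩}

theorem restr_fix {o : Finset Cfsg.GolayPt} {p x : Cfsg.GolayPt} (hx : x ∈ o)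
    (g : ↥(stab3 o p x)) :
    restr o (Subgroup.inclusion (stab3_le o p x) g) ⟨x, hx⟩ = ⟨x, hx⟩ := by
  apply Subtype.ext
  rw [restr_apply]
  exact mem_stabilizer_iff.mp g.2.2

theorem restr_ne_iff {o : Finset Cfsg.GolayPt} {p x : Cfsg.GolayPt} (hx : x ∈ o)
    (g : ↥(stab3 o p x)) (y : ↥o) :
    restr o (Subgroup.inclusion (stab3_le o p x) g) y ≠ ⟨x, hx⟩ ↔ y ≠ ⟨x, hx⟩ := by
  constructor
  · intro h hy
    apply h
    rw [hy]
    exact restr_fix hx g
  · intro h hy
    apply h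
    have := restr_fix hx g
    rw [← this] at hy
    exact (restr o (Subgroup.inclusion (stab3_le o p x) g)).injective hy

/-- restriction of the joint stabiliser to the seven remaining points -/
def psi (o : Finset Cfsg.GolayPt) (p x : Cfsg.GolayPt) (hx : x ∈ o) :
    ↥(stab3 o p x) →* Equiv.Perm (Rest o x hx) where
  toFun g := (restr o (Subgroup.inclusion (stab3_le o p x) g)).subtypePerm (restr_ne_iff hx g)
  map_one' := by
    apply Equiv.ext
    intro y
    apply Subtype.ext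
    apply Subtype.ext
    rfl
  map_mul' a b := by
    apply Equiv.ext
    intro y
    apply Subtype.ext
    apply Subtype.ext
    rfl

theorem psi_apply {o : Finset Cfsg.GolayPt} {p x : Cfsg.GolayPt} (hx : x ∈ o)
    (g : ↥(stab3 o p x)) (y : Rest o x hx) :
    (((psi o p x hx g) y : ↥o) : Cfsg.GolayPt) = (g : Equiv.Perm Cfsg.GolayPt) (y : ↥o) := rfl

theorem psi_injective {o : Finset Cfsg.GolayPt} (ho : o ∈ Cfsg.octads) {p x : Cfsg.GolayPt}
    (hp : p ∉ o) (hx : x ∈ o) : Function.Injective (psi o p x hx) := by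
  rw [injective_iff_map_eq_one]
  intro g hg
  have hfix : ∀ y ∈ o, (g : Equiv.Perm Cfsg.GolayPt) y = y := by
    intro y hy
    by_cases hyx : y = x
    · rw [hyx]; exact mem_stabilizer_iff.mp g.2.2
    · have hne : (⟨y, hy⟩ : ↥o) ≠ ⟨x, hx⟩ := fun h => hyx (congrArg Subtype.val h)
      have h1 := psi_apply hx g ⟨⟨y, hy⟩, hne⟩
      rw [hg] at h1
      exact h1.symm
  have h2 : (g : Equiv.Perm Cfsg.GolayPt) ∈ octFix o := (mem_octFix o _).mpr ⟨g.2.1.1.1, hfix⟩
  have h3 : (g : Equiv.Perm Cfsg.GolayPt) p = p := mem_stabilizer_iff.mp g.2.1.2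
  exact Subtype.ext (octFix_free ho h2 hp h3)

theorem psi_range {o : Finset Cfsg.GolayPt} (ho : o ∈ Cfsg.octads) {p x : Cfsg.GolayPt}
    (hp : p ∉ o) (hx : x ∈ o) : (psi o p x hx).range = alternatingGroup (Rest o x hx) := by
  apply le_antisymm
  · rintro e ⟨g, rfl⟩
    rw [Equiv.Perm.mem_alternatingGroup]
    have h1 : Equiv.Perm.sign (psi o p x hx g) =
        Equiv.Perm.sign (restr o (Subgroup.inclusion (stab3_le o p x) g)) := by
      refine Equiv.Perm.sign_subtypePerm _ (restr_ne_iff hx g) ?_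
      intro y hy hyx
      apply hy
      rw [hyx]
      exact restr_fix hx g
    rw [h1]
    have h2 : restr o (Subgroup.inclusion (stab3_le o p x) g) ∈ (restr o).range := ⟨_, rfl⟩
    rw [range_restr_eq ho, Equiv.Perm.mem_alternatingGroup] at h2
    exact h2
  · intro τ hτ
    rw [Equiv.Perm.mem_alternatingGroup] at hτ
    have hσ : Equiv.Perm.ofSubtype τ ∈ alternatingGroup ↥o := by
      rw [Equiv.Perm.mem_alternatingGroup, Equiv.Perm.sign_ofSubtype]
      exact hτ
    rw [← range_restr_eq ho] at hσ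
    obtain ⟨h, hh⟩ := hσ
    obtain ⟨k, hk, a, ha, hka⟩ := decompose' ho hp h.2
    have hk2 := ((mem_octFix o k).mp hk).2
    have hao : ∀ y, y ∈ o → a y ∈ o := fun y hy =>
      (mem_iff_of_smul_eq (mem_stabilizer_iff.mp ha.1.2) y).mpr hy
    have hay : ∀ (y : Cfsg.GolayPt) (hy : y ∈ o),
        a y = ((Equiv.Perm.ofSubtype τ : Equiv.Perm ↥o) ⟨y, hy⟩ : Cfsg.GolayPt) := by
      intro y hy
      rw [← hh, restr_apply, ← hka, Equiv.Perm.mul_apply, hk2 _ (hao y hy)]
    have hax : a x = x := by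
      rw [hay x hx, Equiv.Perm.ofSubtype_apply_of_not_mem]
      exact fun h => h rfl
    have ha3 : a ∈ stab3 o p x :=
      ⟨⟨ha.1, ha.2⟩, mem_stabilizer_iff.mpr hax⟩
    refine ⟨⟨a, ha3⟩, ?_⟩
    apply Equiv.ext
    intro y
    apply Subtype.ext
    apply Subtype.ext
    rw [psi_apply]
    show a ((y : ↥o) : Cfsg.GolayPt) = _
    rw [hay _ (y : ↥o).2]
    have : (⟨((y : ↥o) : Cfsg.GolayPt), (y : ↥o).2⟩ : ↥o) = (y : ↥o) := rfl
    rw [this, Equiv.Perm.ofSubtype_apply_coe]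

theorem card_rest {o : Finset Cfsg.GolayPt} (ho : o ∈ Cfsg.octads) {x : Cfsg.GolayPt}
    (hx : x ∈ o) : Fintype.card (Rest o x hx) = 7 := by
  have h1 : Fintype.card ↥o = 8 := by rw [Fintype.card_coe]; exact ho.2
  rw [Fintype.card_subtype_compl, h1, Fintype.card_subtype_eq]

/-- K-S2037-E. -/
theorem complement_equiv_alt_seven (o : Finset Cfsg.GolayPt) (ho : o ∈ Cfsg.octads)
    (p : Cfsg.GolayPt) (hp : p ∉ o) (x : Cfsg.GolayPt) (hx : x ∈ o) :
    Nonempty (↥(Cfsg.M24 ⊓ MulAction.stabilizer (Equiv.Perm Cfsg.GolayPt) o ⊓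
        MulAction.stabilizer (Equiv.Perm Cfsg.GolayPt) p ⊓
        MulAction.stabilizer (Equiv.Perm Cfsg.GolayPt) x) ≃* alternatingGroup (Fin 7)) :=
  ⟨((MonoidHom.ofInjective (psi_injective ho hp hx)).trans
      (MulEquiv.subgroupCongr (psi_range ho hp hx))).trans
      (Equiv.altCongrHom (Fintype.equivFinOfCardEq (card_rest ho hx)))⟩

end Cfsg.Agent.Lib.Helper23.SchurTwo
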