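import Mathlib
import Cfsg.Agent.Lib.Helper11.ZassDefs
import Cfsg.Agent.Lib.Helper16.ClassEq2

set_option autoImplicit false
set_option linter.style.haveILetI false

/-!
# K-S0690-7 (keystone 69007): the binary icosahedral class data

A finite subgroup `L` of `SL₂(K)` of order `120` with the class data of the binary icosahedral group
has exactly ten subgroups of order three (`icosa_points`) and contains two non-commuting elements of
order three generating a subgroup of order `24` (`icosa_line`).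

Both statements are proved for an abstract finite group `G` with a central subgroup `Z` of order two
satisfying `ClassEq.CT Z` and the class data `AbsData Z 5`, and then specialised.
-/

namespace Cfsg.Agent.Lib.Helper23.Zass

open Cfsg.Agent.Lib.Helper11.Zass Cfsg.Agent.Lib.Helper16 Classical

theorem factorization_120_three : (120 : ℕ).factorization 3 = 1 := by
  have h1 := (Nat.Prime.pow_dvd_iff_le_factorization Nat.prime_three (n := 120) (by norm_num)
    (k := 1)).mp (by norm_num)
  have h2 : ¬ (2 ≤ (120 : ℕ).factorization 3) := fun h =>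
    absurd ((Nat.Prime.pow_dvd_iff_le_factorization Nat.prime_three (n := 120) (by norm_num)
      (k := 2)).mpr h) (by norm_num)
  omega

theorem factorization_120_two : (120 : ℕ).factorization 2 = 3 := by
  have h1 := (Nat.Prime.pow_dvd_iff_le_factorization Nat.prime_two (n := 120) (by norm_num)
    (k := 3)).mp (by norm_num)
  have h2 : ¬ (4 ≤ (120 : ℕ).factorization 2) := fun h =>
    absurd ((Nat.Prime.pow_dvd_iff_le_factorization Nat.prime_two (n := 120) (by norm_num)
      (k := 4)).mpr h) (by norm_num)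
  omega

section Abs

variable {G : Type*} [Group G] [Fintype G] (Z : Subgroup G)

/-- the abstract class data -/
def AbsData (m : ℕ) : Prop :=
  ∀ h : G, h ∉ Z →
    (Nat.card (Subgroup.centralizer ({h} : Set G)) = 4 ∨
      Nat.card (Subgroup.centralizer ({h} : Set G)) = 6 ∨
      Nat.card (Subgroup.centralizer ({h} : Set G)) = 2 * m) ∧
    Nat.card (ClassEq.Nm h) = 2 * Nat.card (Subgroup.centralizer ({h} : Set G)) ∧
    (∀ l : G, l ∈ ClassEq.Nm h → l * h * l⁻¹ = h ∨ l * h * l⁻¹ = h⁻¹) ∧
    ∀ h' : G, h' ∉ Z →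
      Nat.card (Subgroup.centralizer ({h'} : Set G)) = Nat.card (Subgroup.centralizer ({h} : Set G)) →
      h' ∈ ClassEq.sat Z h

variable {Z}

omit [Fintype G] in
theorem self_mem_centralizer (h : G) : h ∈ Subgroup.centralizer ({h} : Set G) :=
  Subgroup.mem_centralizer_singleton_iff.mpr rfl

omit [Fintype G] in
theorem orderOf_dvd_card_centralizer (h : G) :
    orderOf h ∣ Nat.card (Subgroup.centralizer ({h} : Set G)) := by
  have := orderOf_dvd_natCard (⟨h, self_mem_centralizer h⟩ : Subgroup.centralizer ({h} : Set G))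
  rwa [Subgroup.orderOf_mk] at this

/-- no non-central element is inverted by... itself: `h⁻¹ ≠ h` outside `Z` -/
theorem inv_ne_self {m : ℕ} (hD : AbsData Z m) {h : G} (hh : h ∉ Z) : h⁻¹ ≠ h := by
  intro e
  obtain ⟨-, h2, h3, -⟩ := hD h hh
  have hle : ClassEq.Nm h ≤ Subgroup.centralizer ({h} : Set G) := by
    intro l hl
    rw [Subgroup.mem_centralizer_singleton_iff]
    have : l * h * l⁻¹ = h := by
      rcases h3 l hl with h4 | h4
      · exact h4
      · rw [h4, e]
    calc l * h = l * h * l⁻¹ * l := by group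
      _ = h * l := by rw [this]
  have := Subgroup.card_le_of_le hle
  have hpos : 0 < Nat.card (Subgroup.centralizer ({h} : Set G)) := Nat.card_pos
  omega

omit [Fintype G] in
theorem not_mem_of_orderOf_three (hZ : Nat.card Z = 2) {x : G} (hx : orderOf x = 3) : x ∉ Z := by
  intro hxZ
  have := orderOf_dvd_natCard (⟨x, hxZ⟩ : Z)
  rw [Subgroup.orderOf_mk, hx, hZ] at this
  omega

theorem card_centralizer_of_orderOf_three (hZ : Nat.card Z = 2) (hD : AbsData Z 5) {x : G}
    (hx : orderOf x = 3) :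
    Nat.card (Subgroup.centralizer ({x} : Set G)) = 6 ∧ Nat.card (ClassEq.Nm x) = 12 := by
  have hxZ := not_mem_of_orderOf_three hZ hx
  obtain ⟨h1, h2, -, -⟩ := hD x hxZ
  have h3 := orderOf_dvd_card_centralizer x
  rw [hx] at h3
  have h6 : Nat.card (Subgroup.centralizer ({x} : Set G)) = 6 := by
    rcases h1 with h1 | h1 | h1
    · rw [h1] at h3; omega
    · exact h1
    · rw [h1] at h3; omega
  exact ⟨h6, by rw [h2, h6]⟩

/-- the normalizer of `⟨x⟩` is `Nm x` -/
theorem normalizer_zpowers_eq (hct : ClassEq.CT Z) {m : ℕ} (hD : AbsData Z m) {x : G} (hxZ : x ∉ Z) :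
    Subgroup.normalizer (Subgroup.zpowers x : Set G) = ClassEq.Nm x := by
  obtain ⟨-, -, h3, -⟩ := hD x hxZ
  have key : ∀ n : G, n ∈ ClassEq.Nm x → ∀ h : G, h ∈ Subgroup.zpowers x →
      n * h * n⁻¹ ∈ Subgroup.zpowers x := by
    intro n hn h hh
    obtain ⟨k, rfl⟩ := Subgroup.mem_zpowers_iff.mp hh
    have e : n * x ^ k * n⁻¹ = (n * x * n⁻¹) ^ k := by
      rw [conj_zpow]
    rw [e]
    apply Subgroup.zpow_mem
    rcases h3 n hn with h4 | h4
    · rw [h4]; exact Subgroup.mem_zpowers x
    · rw [h4]; exact Subgroup.inv_mem _ (Subgroup.mem_zpowers x)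
  apply le_antisymm
  · intro n hn
    have h1 : n * x * n⁻¹ ∈ Subgroup.zpowers x :=
      (Subgroup.mem_normalizer_iff.mp hn x).mp (Subgroup.mem_zpowers x)
    obtain ⟨k, hk⟩ := Subgroup.mem_zpowers_iff.mp h1
    apply ClassEq.mem_Nm_of_conj_mem hct hxZ (ClassEq.self_mem_cls hxZ) n
    refine ClassEq.mem_cls.mpr ⟨ClassEq.conj_not_mem hct hxZ n, ?_⟩
    rw [← hk]
    exact ((Commute.refl x).zpow_left k).eq
  · intro n hn
    rw [Subgroup.mem_normalizer_iff]
    intro h
    refine ⟨key n hn h, ?_⟩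
    intro hh
    have := key n⁻¹ (Subgroup.inv_mem _ hn) _ hh
    have e : n⁻¹ * (n * h * n⁻¹) * n⁻¹⁻¹ = h := by group
    rwa [e] at this

/-- the subgroups of order three are the Sylow `3`-subgroups -/
noncomputable def ptEquivSylow (hcard : Nat.card G = 120) :
    {A : Subgroup G // Nat.card A = 3} ≃ Sylow 3 G :=
  haveI : Fact (Nat.Prime 3) := ⟨Nat.prime_three⟩
  { toFun := fun A => Sylow.ofCard A.1 (by rw [A.2, hcard, factorization_120_three, pow_one])
    invFun := fun P => ⟨(P : Subgroup G), by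
      rw [P.card_eq_multiplicity, hcard, factorization_120_three, pow_one]⟩
    left_inv := fun A => Subtype.ext (by simp)
    right_inv := fun P => Sylow.ext (by simp) }

theorem abs_points (hct : ClassEq.CT Z) (hcard : Nat.card G = 120) (hZ : Nat.card Z = 2)
    (hD : AbsData Z 5) : Nat.card {A : Subgroup G // Nat.card A = 3} = 10 := by
  have : Fact (Nat.Prime 3) := ⟨Nat.prime_three⟩
  obtain ⟨x, hx⟩ := exists_prime_orderOf_dvd_card' (G := G) 3 (by rw [hcard]; norm_num)
  have hxZ := not_mem_of_orderOf_three hZ hx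
  obtain ⟨-, h12⟩ := card_centralizer_of_orderOf_three hZ hD hx
  have hz3 : Nat.card (Subgroup.zpowers x) = 3 := by rw [Nat.card_zpowers, hx]
  rw [Nat.card_congr (ptEquivSylow hcard)]
  set P : Sylow 3 G := Sylow.ofCard (Subgroup.zpowers x)
    (by rw [hz3, hcard, factorization_120_three, pow_one]) with hP
  rw [Sylow.card_eq_index_normalizer P]
  have hN : Subgroup.normalizer (P : Set G) = ClassEq.Nm x := by
    rw [← normalizer_zpowers_eq hct hD hxZ]; rfl
  rw [hN]
  have := Subgroup.card_mul_index (ClassEq.Nm x)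
  rw [h12, hcard] at this
  omega

/-! ### Sylow `2`-subgroups -/

omit [Fintype G] in
theorem card_centralizer_conj (l y : G) :
    Nat.card (Subgroup.centralizer ({l * y * l⁻¹} : Set G)) =
      Nat.card (Subgroup.centralizer ({y} : Set G)) := by
  apply Nat.card_congr
  refine ⟨fun k => ⟨l⁻¹ * k * l, ?_⟩, fun k => ⟨l * k * l⁻¹, ?_⟩, ?_, ?_⟩
  · have := Subgroup.mem_centralizer_singleton_iff.mp k.2
    rw [Subgroup.mem_centralizer_singleton_iff]
    have e1 : l⁻¹ * (k : G) * l * y = l⁻¹ * ((k : G) * (l * y * l⁻¹)) * l := by group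
    have e2 : y * (l⁻¹ * (k : G) * l) = l⁻¹ * ((l * y * l⁻¹) * (k : G)) * l := by group
    rw [e1, e2, this]
  · have := Subgroup.mem_centralizer_singleton_iff.mp k.2
    rw [Subgroup.mem_centralizer_singleton_iff]
    have e1 : l * (k : G) * l⁻¹ * (l * y * l⁻¹) = l * ((k : G) * y) * l⁻¹ := by group
    have e2 : l * y * l⁻¹ * (l * (k : G) * l⁻¹) = l * (y * (k : G)) * l⁻¹ := by group
    rw [e1, e2, this]
  · intro k
    apply Subtype.ext
    show l * (l⁻¹ * (k : G) * l) * l⁻¹ = k
    group
  · intro k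
    apply Subtype.ext
    show l⁻¹ * (l * (k : G) * l⁻¹) * l = k
    group

theorem card_filter_mem (H : Subgroup G) :
    (Finset.univ.filter (fun h : G => h ∈ H)).card = Nat.card H := by
  rw [Nat.card_eq_fintype_card]
  exact (Fintype.card_of_subtype _ (by simp)).symm

theorem card_sylow_two (hcard : Nat.card G = 120) (P : Sylow 2 G) :
    Nat.card (P : Subgroup G) = 8 := by
  haveI : Fact (Nat.Prime 2) := ⟨Nat.prime_two⟩
  rw [P.card_eq_multiplicity, hcard, factorization_120_two]
  norm_num

/-- elements of a subgroup of order eight outside `Z` -/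
theorem sylow_elt (hD : AbsData Z 5) {P : Subgroup G} (hP : Nat.card P = 8) {h : G} (hhP : h ∈ P)
    (hhZ : h ∉ Z) :
    Nat.card (Subgroup.centralizer ({h} : Set G)) = 4 ∧ orderOf h = 4 := by
  obtain ⟨h1, -, -, -⟩ := hD h hhZ
  have h2 := orderOf_dvd_card_centralizer h
  have h3 := orderOf_dvd_natCard (⟨h, hhP⟩ : P)
  rw [Subgroup.orderOf_mk, hP] at h3
  have h4 : ¬ orderOf h ∣ 2 := by
    intro hd
    have := orderOf_dvd_iff_pow_eq_one.mp hd
    rw [pow_two] at this
    exact inv_ne_self hD hhZ (inv_eq_of_mul_eq_one_right this)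
  obtain ⟨n, hn⟩ : ∃ n, n = orderOf h := ⟨_, rfl⟩
  obtain ⟨c, hc⟩ : ∃ c, c = Nat.card (Subgroup.centralizer ({h} : Set G)) := ⟨_, rfl⟩
  rw [← hn] at h2 h3 h4 ⊢
  rw [← hc] at h1 h2 ⊢
  have hle : n ≤ 8 := Nat.le_of_dvd (by norm_num) h3
  interval_cases n <;> omega

theorem centralizer_eq_zpowers (hD : AbsData Z 5) {P : Subgroup G} (hP : Nat.card P = 8) {h : G}
    (hhP : h ∈ P) (hhZ : h ∉ Z) :
    Subgroup.centralizer ({h} : Set G) = Subgroup.zpowers h := by
  obtain ⟨h4, ho⟩ := sylow_elt hD hP hhP hhZ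
  symm
  apply Subgroup.eq_of_le_of_card_ge (Subgroup.zpowers_le.mpr (self_mem_centralizer h))
  rw [h4, Nat.card_zpowers, ho]

theorem sylow_eq_Nm (hD : AbsData Z 5) {P : Subgroup G} (hP : Nat.card P = 8) {h : G}
    (hhP : h ∈ P) (hhZ : h ∉ Z) : P = ClassEq.Nm h := by
  obtain ⟨h4, -⟩ := sylow_elt hD hP hhP hhZ
  obtain ⟨-, h8, -, -⟩ := hD h hhZ
  have hle : Subgroup.centralizer ({h} : Set G) ≤ P := by
    rw [centralizer_eq_zpowers hD hP hhP hhZ]
    exact Subgroup.zpowers_le.mpr hhP
  have hidx : ((Subgroup.centralizer ({h} : Set G)).subgroupOf P).index = 2 := by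
    have h1 := Subgroup.card_mul_index ((Subgroup.centralizer ({h} : Set G)).subgroupOf P)
    rw [Nat.card_congr (Subgroup.subgroupOfEquivOfLe hle).toEquiv, h4, hP] at h1
    omega
  have hn : ((Subgroup.centralizer ({h} : Set G)).subgroupOf P).Normal :=
    Subgroup.normal_of_index_eq_two hidx
  have hPle : P ≤ ClassEq.Nm h := (Subgroup.normal_subgroupOf_iff_le_normalizer hle).mp hn
  apply Subgroup.eq_of_le_of_card_ge hPle
  rw [h8, h4, hP]

theorem le_sylow (hct : ClassEq.CT Z) (hZ : Nat.card Z = 2) (hD : AbsData Z 5) {P : Subgroup G}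
    (hP : Nat.card P = 8) : Z ≤ P := by
  have hex : ∃ h ∈ P, h ∉ Z := by
    by_contra hcon
    push Not at hcon
    have : P ≤ Z := hcon
    have := Subgroup.card_le_of_le this
    omega
  obtain ⟨h, hhP, hhZ⟩ := hex
  have hle : Subgroup.centralizer ({h} : Set G) ≤ P := by
    rw [centralizer_eq_zpowers hD hP hhP hhZ]
    exact Subgroup.zpowers_le.mpr hhP
  intro z hz
  apply hle
  rw [Subgroup.mem_centralizer_singleton_iff]
  exact hct.central z hz h

/-- the number of Sylow `2`-subgroups is five -/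
theorem card_sylow_two_eq (hct : ClassEq.CT Z) (hcard : Nat.card G = 120) (hZ : Nat.card Z = 2)
    (hD : AbsData Z 5) : Nat.card (Sylow 2 G) = 5 := by
  haveI : Fact (Nat.Prime 2) := ⟨Nat.prime_two⟩
  letI : Fintype (Sylow 2 G) := Fintype.ofFinite _
  obtain ⟨P₀⟩ := (inferInstance : Nonempty (Sylow 2 G))
  have hP₀ := card_sylow_two hcard P₀
  obtain ⟨r, hrP, hrZ⟩ : ∃ r ∈ (P₀ : Subgroup G), r ∉ Z := by
    by_contra hcon
    push Not at hcon
    have : (P₀ : Subgroup G) ≤ Z := hcon
    have := Subgroup.card_le_of_le this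
    omega
  obtain ⟨hr4, -⟩ := sylow_elt hD hP₀ hrP hrZ
  obtain ⟨-, hr8, -, hrlast⟩ := hD r hrZ
  -- the set of elements with centralizer of order four has `30` elements
  have hS : (ClassEq.sat Z r).card = 30 := by
    have h1 := ClassEq.card_sat_mul hct hrZ
    have h2 := ClassEq.card_cls_add hct (Z := Z) (g := r)
    rw [← Nat.card_eq_fintype_card, hcard, hr8, hr4] at h1
    rw [hZ, hr4] at h2
    omega
  set T : Sylow 2 G → Finset G :=
    fun P => Finset.univ.filter (fun h : G => h ∈ (P : Subgroup G) ∧ h ∉ Z) with hT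
  have hTcard : ∀ P : Sylow 2 G, (T P).card = 6 := by
    intro P
    have hP := card_sylow_two hcard P
    have hZP := le_sylow hct hZ hD hP
    have hun : T P ∪ Finset.univ.filter (fun h : G => h ∈ Z) =
        Finset.univ.filter (fun h : G => h ∈ (P : Subgroup G)) := by
      ext h
      simp only [hT, Finset.mem_union, Finset.mem_filter, Finset.mem_univ, true_and]
      constructor
      · rintro (⟨h1, -⟩ | h1)
        · exact h1
        · exact hZP h1
      · intro h1
        by_cases h2 : h ∈ Z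
        · exact Or.inr h2
        · exact Or.inl ⟨h1, h2⟩
    have hdis : Disjoint (T P) (Finset.univ.filter (fun h : G => h ∈ Z)) := by
      rw [Finset.disjoint_left]
      intro h h1 h2
      simp only [hT, Finset.mem_filter, Finset.mem_univ, true_and] at h1 h2
      exact h1.2 h2
    have := Finset.card_union_of_disjoint hdis
    rw [hun, card_filter_mem, card_filter_mem, hP, hZ] at this
    omega
  have hunion : ClassEq.sat Z r = Finset.univ.biUnion T := by
    ext y
    rw [Finset.mem_biUnion]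
    constructor
    · intro hy
      have hyZ := ClassEq.not_mem_of_mem_sat hct hy
      obtain ⟨l, hl⟩ := ClassEq.mem_sat.mp hy
      have hy4 : Nat.card (Subgroup.centralizer ({y} : Set G)) = 4 := by
        rw [← card_centralizer_conj l y, ClassEq.centralizer_eq_of_mem hct hrZ hl, hr4]
      obtain ⟨-, hy8, -, -⟩ := hD y hyZ
      rw [hy4] at hy8
      refine ⟨Sylow.ofCard (ClassEq.Nm y) (by rw [hy8, hcard, factorization_120_two]; norm_num),
        Finset.mem_univ _, ?_⟩
      simp only [hT, Finset.mem_filter, Finset.mem_univ, true_and]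
      refine ⟨?_, hyZ⟩
      show y ∈ ClassEq.Nm y
      exact Subgroup.le_normalizer (self_mem_centralizer y)
    · rintro ⟨P, -, hy⟩
      simp only [hT, Finset.mem_filter, Finset.mem_univ, true_and] at hy
      obtain ⟨hy4, -⟩ := sylow_elt hD (card_sylow_two hcard P) hy.1 hy.2
      exact hrlast y hy.2 (by rw [hy4, hr4])
  have hdisj : ∀ P ∈ (Finset.univ : Finset (Sylow 2 G)), ∀ Q ∈ (Finset.univ : Finset (Sylow 2 G)),
      P ≠ Q → Disjoint (T P) (T Q) := by
    intro P _ Q _ hPQ
    rw [Finset.disjoint_left]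
    intro h h1 h2
    simp only [hT, Finset.mem_filter, Finset.mem_univ, true_and] at h1 h2
    apply hPQ
    apply Sylow.ext
    rw [sylow_eq_Nm hD (card_sylow_two hcard P) h1.1 h1.2,
      sylow_eq_Nm hD (card_sylow_two hcard Q) h2.1 h2.2]
  have hsum := Finset.card_biUnion hdisj
  rw [← hunion, hS, Finset.sum_congr rfl (fun P _ => hTcard P), Finset.sum_const, smul_eq_mul,
    Finset.card_univ, ← Nat.card_eq_fintype_card] at hsum
  omega

theorem abs_line (hct : ClassEq.CT Z) (hcard : Nat.card G = 120) (hZ : Nat.card Z = 2)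
    (hD : AbsData Z 5)
    (hK : ∀ x y : G, orderOf x = 3 → orderOf y = 3 → x * y ≠ y * x →
      Nat.card (Subgroup.closure {x, y}) = 24 ∨ Nat.card (Subgroup.closure {x, y}) = 120) :
    ∃ x y : G, orderOf x = 3 ∧ orderOf y = 3 ∧ x * y ≠ y * x ∧
      Nat.card (Subgroup.closure {x, y}) = 24 := by
  haveI : Fact (Nat.Prime 2) := ⟨Nat.prime_two⟩
  haveI : Fact (Nat.Prime 3) := ⟨Nat.prime_three⟩
  obtain ⟨R⟩ := (inferInstance : Nonempty (Sylow 2 G))
  have hR := card_sylow_two hcard R
  have h5 := card_sylow_two_eq hct hcard hZ hD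
  rw [Sylow.card_eq_index_normalizer R] at h5
  have h24 : Nat.card (Subgroup.normalizer (R : Set G)) = 24 := by
    have := Subgroup.card_mul_index (Subgroup.normalizer (R : Set G))
    rw [h5, hcard] at this
    omega
  obtain ⟨x', hx'⟩ := exists_prime_orderOf_dvd_card' (G := Subgroup.normalizer (R : Set G)) 3
    (by rw [h24]; norm_num)
  have hx : orderOf (x' : G) = 3 := by rw [Subgroup.orderOf_coe, hx']
  have hxZ := not_mem_of_orderOf_three hZ hx
  obtain ⟨-, h12⟩ := card_centralizer_of_orderOf_three hZ hD hx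
  have hnle : ¬ (R : Subgroup G) ≤ ClassEq.Nm (x' : G) := by
    intro hle
    have := Subgroup.card_dvd_of_le hle
    rw [hR, h12] at this
    omega
  obtain ⟨r, hrR, hrN⟩ := SetLike.not_le_iff_exists.mp hnle
  refine ⟨(x' : G), r * (x' : G) * r⁻¹, hx, ?_, ?_, ?_⟩
  · have := (MulAut.conj r).orderOf_eq (x' : G)
    rw [MulAut.conj_apply] at this
    rw [this, hx]
  · intro hc
    apply hrN
    apply ClassEq.mem_Nm_of_conj_mem hct hxZ (ClassEq.self_mem_cls hxZ) r
    exact ClassEq.mem_cls.mpr ⟨ClassEq.conj_not_mem hct hxZ r, hc.symm⟩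
  · have hrn : r ∈ Subgroup.normalizer (R : Set G) := Subgroup.le_normalizer hrR
    have hle : Subgroup.closure {(x' : G), r * (x' : G) * r⁻¹} ≤ Subgroup.normalizer (R : Set G) := by
      rw [Subgroup.closure_le]
      intro g hg
      rcases hg with rfl | rfl
      · exact x'.2
      · exact Subgroup.mul_mem _ (Subgroup.mul_mem _ hrn x'.2) (Subgroup.inv_mem _ hrn)
    have hdvd := Subgroup.card_dvd_of_le hle
    rw [h24] at hdvd
    have hy3 : orderOf (r * (x' : G) * r⁻¹) = 3 := by
      have := (MulAut.conj r).orderOf_eq (x' : G)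
      rw [MulAut.conj_apply] at this
      rw [this, hx]
    have hne : (x' : G) * (r * (x' : G) * r⁻¹) ≠ r * (x' : G) * r⁻¹ * (x' : G) := by
      intro hc
      apply hrN
      apply ClassEq.mem_Nm_of_conj_mem hct hxZ (ClassEq.self_mem_cls hxZ) r
      exact ClassEq.mem_cls.mpr ⟨ClassEq.conj_not_mem hct hxZ r, hc.symm⟩
    rcases hK _ _ hx hy3 hne with h | h
    · exact h
    · rw [h] at hdvd; omega

end Abs

/-! ### The statements for subgroups of `SL₂(K)` -/

section Klein
variable {K : Type*} [Field K] [CharZero K]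

local notation "SL2" => Matrix.SpecialLinearGroup (Fin 2) K

/-- the class data of the binary octahedral (`m = 4`) and binary icosahedral (`m = 5`) groups -/
def KleinData (L : Subgroup SL2) [Fintype L] (m : ℕ) : Prop :=
  ∀ h : L, h ∉ SL2Q.ZL L →
    (Nat.card (Subgroup.centralizer ({h} : Set L)) = 4 ∨
      Nat.card (Subgroup.centralizer ({h} : Set L)) = 6 ∨
      Nat.card (Subgroup.centralizer ({h} : Set L)) = 2 * m) ∧
    Nat.card (ClassEq.Nm h) = 2 * Nat.card (Subgroup.centralizer ({h} : Set L)) ∧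
    (∀ l : L, l ∈ ClassEq.Nm h → l * h * l⁻¹ = h ∨ l * h * l⁻¹ = h⁻¹) ∧
    ∀ h' : L, h' ∉ SL2Q.ZL L →
      Nat.card (Subgroup.centralizer ({h'} : Set L)) = Nat.card (Subgroup.centralizer ({h} : Set L)) →
      h' ∈ ClassEq.sat (SL2Q.ZL L) h

/-- K-S0690-7a: ten subgroups of order three -/
theorem icosa_points (L : Subgroup SL2) [Fintype L] (hcard : Nat.card L = 120)
    (hZ : Nat.card (SL2Q.ZL L) = 2) (hD : KleinData L 5) :
    Nat.card {A : Subgroup L // Nat.card A = 3} = 10 :=
  abs_points (SL2Q.ct_L L) hcard hZ hD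

/-- K-S0690-7b: two elements of order three generating a subgroup of order `24` -/
theorem icosa_line (L : Subgroup SL2) [Fintype L] (hcard : Nat.card L = 120)
    (hZ : Nat.card (SL2Q.ZL L) = 2) (hD : KleinData L 5)
    (hK : ∀ x y : L, orderOf x = 3 → orderOf y = 3 → x * y ≠ y * x →
      Nat.card (Subgroup.closure {x, y}) = 24 ∨ Nat.card (Subgroup.closure {x, y}) = 120) :
    ∃ x y : L, orderOf x = 3 ∧ orderOf y = 3 ∧ x * y ≠ y * x ∧
      Nat.card (Subgroup.closure {x, y}) = 24 :=
  abs_line (SL2Q.ct_L L) hcard hZ hD hK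

end Klein

end Cfsg.Agent.Lib.Helper23.Zass
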