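import Mathlib
import Cfsg.Agent.Lib.Helper55.Uniq2

/-!
# Pack K-1537 (S1537), leaf J: `normalizer_eq_of_invariant`
-/

set_option autoImplicit false

namespace Cfsg.Agent.Lib.Helper23.BG1537

open Cfsg Subgroup

variable {G : Type*} [Group G] [Finite G]

/-- the set normalizer of `A` normalizes `closure A` -/
theorem j_normalizer_le_normalizer_closure {H : Type*} [Group H] (A : Set H) :
    normalizer A ≤ normalizer ((closure A : Subgroup H) : Set H) := by
  have key : ∀ g ∈ normalizer A, ∀ y ∈ closure A, g * y * g⁻¹ ∈ closure A := by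
    intro g hg y hy
    rw [Subgroup.mem_set_normalizer_iff] at hg
    induction hy using Subgroup.closure_induction with
    | mem z hz => exact subset_closure ((hg z).1 hz)
    | one => simp
    | mul a b _ _ iha ihb =>
      have e : g * (a * b) * g⁻¹ = (g * a * g⁻¹) * (g * b * g⁻¹) := by group
      rw [e]; exact mul_mem iha ihb
    | inv a _ iha =>
      have e : g * a⁻¹ * g⁻¹ = (g * a * g⁻¹)⁻¹ := by group
      rw [e]; exact inv_mem iha
  intro g hg
  rw [Subgroup.mem_normalizer_iff]
  intro y
  constructor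
  · exact key g hg y
  · intro hy
    have := key g⁻¹ (inv_mem hg) _ hy
    have e : g⁻¹ * (g * y * g⁻¹) * g⁻¹⁻¹ = y := by group
    rwa [e] at this

/-- **L-J** a nonempty `M`-invariant subset of `M - 1` has set normalizer `M`. -/
theorem normalizer_eq_of_invariant (hG : IsMinSimpleOddOrder G) {M : Subgroup G} (hM : IsCoatom M)
    {A : Set G} (hsub : A ⊆ (M : Set G) \ {1}) (hne : A.Nonempty)
    (hinv : ∀ m ∈ M, ∀ a ∈ A, m * a * m⁻¹ ∈ A) : normalizer A = M := by
  have hMA : M ≤ normalizer A := by
    intro m hm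
    rw [Subgroup.mem_set_normalizer_iff]
    intro n
    refine ⟨hinv m hm n, fun hn => ?_⟩
    have := hinv m⁻¹ (M.inv_mem hm) _ hn
    have e : m⁻¹ * (m * n * m⁻¹) * m⁻¹⁻¹ = n := by group
    rwa [e] at this
  obtain ⟨a, ha⟩ := hne
  have hY1 : closure A ≠ ⊥ := by
    intro h
    have h1 : a ∈ closure A := subset_closure ha
    rw [h] at h1
    exact (hsub ha).2 (Subgroup.mem_bot.1 h1)
  have hYM : closure A ≤ M := by
    rw [closure_le]
    intro x hx
    exact (hsub hx).1
  have hNY := j_normalizer_le_normalizer_closure A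
  have hMY : M ≤ normalizer ((closure A : Subgroup G) : Set G) := hMA.trans hNY
  have hEq := Cfsg.Agent.Lib.Helper55.ms_normalizer_eq hG hM hY1 hYM hMY
  apply le_antisymm
  · rw [← hEq]; exact hNY
  · exact hMA

end Cfsg.Agent.Lib.Helper23.BG1537
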