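import Mathlib
import Cfsg.Agent.S1362
import Cfsg.Agent.S1365
import Cfsg.Agent.Lib.Helper64.BG1363H
import Cfsg.Agent.Lib.Helper71.BG11a
import Cfsg.Agent.Lib.Helper23.BG1537J

/-!
# Pack K-1537 (S1537), leaf D: `mem_of_conj_sigmaA`
-/

set_option autoImplicit false

namespace Cfsg.Agent.Lib.Helper23.BG1537

open Cfsg Subgroup
open scoped commutatorElement

variable {G : Type*} [Group G] [Finite G]

/-- `M̂_σ` is `M`-invariant -/
theorem d_conj_mem_sigmaHat {M : Subgroup G} {m x : G} (hm : m ∈ M) (hx : x ∈ sigmaHat M) :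
    m * x * m⁻¹ ∈ sigmaHat M := by
  obtain ⟨hxM, y, hy, hy1, hxy⟩ := hx
  refine ⟨M.mul_mem (M.mul_mem hm hxM) (M.inv_mem hm), m * y * m⁻¹, ?_, ?_, ?_⟩
  · have hn := Cfsg.Agent.Lib.Helper71.BG11.le_normalizer_sigmaCore M hm
    rw [mem_normalizer_iff] at hn
    exact (hn y).1 hy
  · intro h
    apply hy1
    have : y = m⁻¹ * (m * y * m⁻¹) * m := by group
    rw [this, h]; group
  · calc m * x * m⁻¹ * (m * y * m⁻¹) = m * (x * y) * m⁻¹ := by group
      _ = m * (y * x) * m⁻¹ := by rw [hxy]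
      _ = m * y * m⁻¹ * (m * x * m⁻¹) := by group

/-- `U M_σ` is `M`-invariant -/
theorem d_conj_mem_sup (hG : IsMinSimpleOddOrder G) {M K U : Subgroup G} (hM : IsCoatom M)
    (hKU : IsSigmaDecomposition M K U) {m x : G} (hm : m ∈ M) (hx : x ∈ U ⊔ sigmaCore M) :
    m * x * m⁻¹ ∈ U ⊔ sigmaCore M := by
  by_cases hK : K = ⊥
  · -- `U ⊔ M_σ = M`
    have hxM : x ∈ M := (sup_le hKU.compl.1 (Cfsg.Agent.Lib.Helper71.BG11.sigmaCore_le M)) hx
    have hmem : m * x * m⁻¹ ∈ M := M.mul_mem (M.mul_mem hm hxM) (M.inv_mem hm)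
    obtain ⟨u, hu, b, hb, hub⟩ := hKU.compl.2.2.2 _ hmem
    rw [hK, bot_sup_eq] at hb
    rw [hub]
    exact (U ⊔ sigmaCore M).mul_mem (mem_sup_left hu) (mem_sup_right hb)
  · have h := (Cfsg.Agent.S1365.result hG M hM K U hKU hK).1
    rw [← h] at hx ⊢
    have hxM : x ∈ M := by
      have : ⁅M, M⁆ ≤ M := by
        rw [commutator_le]
        intro a ha b hb
        rw [commutatorElement_def]
        exact M.mul_mem (M.mul_mem (M.mul_mem ha hb) (M.inv_mem ha)) (M.inv_mem hb)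
      exact this hx
    have e : m * x * m⁻¹ = ⁅m, x⁆ * x := by rw [commutatorElement_def]; group
    rw [e]
    exact (⁅M, M⁆).mul_mem (commutator_mem_commutator hm hxM) hx

/-- **L-D** -/
theorem mem_of_conj_sigmaA (hG : IsMinSimpleOddOrder G) {M K U : Subgroup G} (hM : IsCoatom M)
    (hKU : IsSigmaDecomposition M K U) {a g : G} (ha : a ∈ sigmaA M U) (haσ : a ∉ sigmaCore M)
    (hb : g * a * g⁻¹ ∈ sigmaA M U) : g ∈ M := by
  have hTI := Cfsg.Agent.S1362.result hG M hM K U hKU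
  have haM : a ∈ M := ha.1.1
  have ha1 : a ≠ 1 := by
    rintro rfl
    exact haσ (sigmaCore M).one_mem
  -- the conjugate is not in `M_σ`
  have hbσ : g * a * g⁻¹ ∉ sigmaCore M := by
    intro h
    apply haσ
    apply Cfsg.Agent.Lib.Helper64.BG1363.mem_sigmaCore_of_orderOf hG hM haM
    intro p _ hpd
    have ho : orderOf (g * a * g⁻¹) = orderOf a := by
      rw [← MulAut.conj_apply]
      exact MulEquiv.orderOf_eq _ _
    rw [← ho] at hpd
    exact hpd.trans (Subgroup.orderOf_dvd_natCard _ h)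
  -- the set `X`
  have hsub : sigmaA M U \ (sigmaCore M : Set G) ⊆ (M : Set G) \ {1} := by
    rintro x ⟨hx, hxσ⟩
    refine ⟨hx.1.1, ?_⟩
    intro h1
    rw [Set.mem_singleton_iff] at h1
    apply hxσ
    rw [h1]
    exact (sigmaCore M).one_mem
  have hne : (sigmaA M U \ (sigmaCore M : Set G)).Nonempty := ⟨a, ha, haσ⟩
  have hinv : ∀ m ∈ M, ∀ x ∈ sigmaA M U \ (sigmaCore M : Set G),
      m * x * m⁻¹ ∈ sigmaA M U \ (sigmaCore M : Set G) := by
    rintro m hm x ⟨hx, hxσ⟩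
    refine ⟨⟨d_conj_mem_sigmaHat hm hx.1, d_conj_mem_sup hG hM hKU hm hx.2⟩, ?_⟩
    intro h
    apply hxσ
    have hn := Cfsg.Agent.Lib.Helper71.BG11.le_normalizer_sigmaCore M hm
    rw [mem_normalizer_iff] at hn
    exact (hn x).2 h
  have hN := normalizer_eq_of_invariant hG hM hsub hne hinv
  rw [← hN]
  by_contra hg
  exact ha1 (hTI g hg a ⟨ha, haσ⟩ ⟨hb, hbσ⟩)

end Cfsg.Agent.Lib.Helper23.BG1537
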