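import Mathlib
import Cfsg.Agent.Lib.Helper23.SylowPerm

/-!
# More on the action on Sylow subgroups of prime order

* an element normalizing a Sylow subgroup `P` of prime order `p` and acting on it without fixed
  points fixes at most one Sylow subgroup in each orbit of `P`;
* the Sylow subgroups centralized by an element `k` are the Sylow subgroups of `C_G(k)`;
* an element with a single fixed Sylow subgroup `P`: `C_G(k) ≤ N_G(P)` and `N_G(Q) ≤ N_G(P)` for
  `k ∈ Q ≤ N_G(P)`.
-/

set_option linter.unusedSectionVars false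

namespace Cfsg.Agent.Lib.Helper23.SylowPerm

open MulAction Subgroup

variable {G : Type*} [Group G] [Finite G] (p : ℕ) [Fact p.Prime]

omit [Finite G] in
/-- An element normalizing a subgroup `P` of prime order either centralizes it or acts on it
without fixed points. -/
theorem mem_centralizer_or_fpf (P : Subgroup G) (hP : Nat.card ↥P = p) (u : G) :
    u ∈ centralizer (P : Set G) ∨ ∀ x ∈ P, u * x * u⁻¹ = x → x = 1 := by
  have hp : p.Prime := Fact.out
  have : Finite ↥P := Nat.finite_of_card_ne_zero (by rw [hP]; exact hp.ne_zero)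
  by_cases h : ∀ x ∈ P, u * x * u⁻¹ = x → x = 1
  · exact Or.inr h
  · left
    push Not at h
    obtain ⟨x, hx, hux, hx1⟩ := h
    have hgen : zpowers x = P := by
      apply Subgroup.eq_of_le_of_card_ge (zpowers_le.mpr hx)
      rw [hP, Nat.card_zpowers]
      have h1 : orderOf x ∣ p := by
        rw [← hP]
        have := orderOf_dvd_natCard (⟨x, hx⟩ : ↥P)
        rwa [Subgroup.orderOf_mk] at this
      rcases (Nat.dvd_prime hp).mp h1 with h | h
      · exact absurd (orderOf_eq_one_iff.mp h) hx1
      · exact h.ge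
    rw [mem_centralizer_iff]
    intro y hy
    have hy' : y ∈ zpowers x := by rw [hgen]; exact hy
    obtain ⟨m, rfl⟩ := mem_zpowers_iff.mp hy'
    have hc : Commute u x := by
      have : u * x = x * u := by
        calc u * x = u * x * u⁻¹ * u := by group
          _ = x * u := by rw [hux]
      exact this
    exact ((hc.zpow_right m).eq).symm

/-- If `u` normalizes a Sylow `p`-subgroup `P` of prime order `p` and acts on it without fixed
points, then `u` fixes at most one point in each orbit of `P` on the Sylow `p`-subgroups: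
`p * (fix u - 1) ≤ n_p - 1`. -/
theorem mul_card_fixedBy_le_of_fpf (P : Sylow p G) (hP : Nat.card ↥(P : Subgroup G) = p)
    (u : G) (huP : u • P = P) (hfpf : ∀ x ∈ (P : Subgroup G), u * x * u⁻¹ = x → x = 1) :
    p * (Nat.card (fixedBy (Sylow p G) u) - 1) ≤ Nat.card (Sylow p G) - 1 := by
  classical
  have hp : p.Prime := Fact.out
  let A := {Q : Sylow p G // Q ∈ fixedBy (Sylow p G) u ∧ Q ≠ P}
  let B := {Q : Sylow p G // Q ≠ P}
  have hstabP : ∀ x ∈ (P : Subgroup G), x • P = P := by
    intro x hx
    rw [Sylow.smul_eq_iff_mem_normalizer]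
    exact Subgroup.le_normalizer hx
  have huN : u ∈ normalizer ((P : Subgroup G) : Set G) := Sylow.smul_eq_iff_mem_normalizer.mp huP
  let φ : ↥(P : Subgroup G) × A → B := fun z =>
    ⟨(z.1 : G) • (z.2 : Sylow p G), by
      intro h
      apply z.2.2.2
      have h1 : (z.1 : G)⁻¹ • ((z.1 : G) • (z.2 : Sylow p G)) = (z.1 : G)⁻¹ • P := congrArg _ h
      rw [smul_smul, inv_mul_cancel, one_smul, hstabP _ (inv_mem z.1.2)] at h1
      exact h1⟩
  have hφ : Function.Injective φ := by
    rintro ⟨x, ⟨Q, hQ, hQP⟩⟩ ⟨x', ⟨Q', hQ', hQP'⟩⟩ h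
    have h0 : (x : G) • Q = (x' : G) • Q' := congrArg Subtype.val h
    set y : G := (x' : G)⁻¹ * (x : G) with hy
    have hyP : y ∈ (P : Subgroup G) := mul_mem (inv_mem x'.2) x.2
    have hQ'eq : Q' = y • Q := by
      rw [hy, mul_smul, h0, smul_smul, inv_mul_cancel, one_smul]
    have h1 : u • (y • Q) = y • Q := by rw [← hQ'eq]; exact hQ'
    have h2 : u • Q = Q := hQ
    have h2' : u⁻¹ • Q = Q := by
      have := congrArg (fun Z => u⁻¹ • Z) h2
      simp only [smul_smul, inv_mul_cancel, one_smul] at this
      exact this.symm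
    -- `w = y⁻¹ * (u * y * u⁻¹)` lies in `P` and fixes `Q`
    have hw : (y⁻¹ * (u * y * u⁻¹)) • Q = Q := by
      calc (y⁻¹ * (u * y * u⁻¹)) • Q = y⁻¹ • u • y • u⁻¹ • Q := by
            rw [mul_smul, mul_smul, mul_smul]
        _ = y⁻¹ • u • y • Q := by rw [h2']
        _ = y⁻¹ • y • Q := by rw [h1]
        _ = Q := by rw [smul_smul, inv_mul_cancel, one_smul]
    have hconjP : u * y * u⁻¹ ∈ (P : Subgroup G) := (mem_normalizer_iff.mp huN y).mp hyP
    have hwP : y⁻¹ * (u * y * u⁻¹) ∈ (P : Subgroup G) := mul_mem (inv_mem hyP) hconjP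
    have hwQ : y⁻¹ * (u * y * u⁻¹) ∈ (Q : Subgroup G) :=
      mem_of_mem_normalizer_of_mem_sylow p P Q _ hwP hw
    have hw1 : y⁻¹ * (u * y * u⁻¹) = 1 := by
      by_contra hne
      apply hQP
      have hle : (P : Subgroup G) ≤ Q := by
        have hz : zpowers (y⁻¹ * (u * y * u⁻¹)) = (P : Subgroup G) := by
          apply Subgroup.eq_of_le_of_card_ge (zpowers_le.mpr hwP)
          rw [hP, Nat.card_zpowers]
          have ho' : orderOf (y⁻¹ * (u * y * u⁻¹)) ∣ p := by
            rw [← hP]
            have := orderOf_dvd_natCard (⟨_, hwP⟩ : ↥(P : Subgroup G))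
            rwa [Subgroup.orderOf_mk] at this
          rcases (Nat.dvd_prime hp).mp ho' with h1 | h1
          · exact absurd (orderOf_eq_one_iff.mp h1) hne
          · exact h1.ge
        rw [← hz]
        exact zpowers_le.mpr hwQ
      exact (Sylow.ext (P.is_maximal' Q.2 hle))
    have hy1 : y = 1 := by
      apply hfpf y hyP
      have : u * y * u⁻¹ = y * (y⁻¹ * (u * y * u⁻¹)) := by group
      rw [this, hw1, mul_one]
    have hxx : x = x' := by
      apply Subtype.ext
      have : (x' : G)⁻¹ * (x : G) = 1 := hy1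
      exact (inv_mul_eq_one.mp this).symm
    have hQQ : Q' = Q := by rw [hQ'eq, hy1, one_smul]
    subst hxx
    subst hQQ
    rfl
  have hcard := Nat.card_le_card_of_injective φ hφ
  have hB : Nat.card B = Nat.card (Sylow p G) - 1 := by
    have := Fintype.ofFinite (Sylow p G)
    rw [Nat.card_eq_fintype_card, Nat.card_eq_fintype_card, Fintype.card_subtype_compl,
      Fintype.card_subtype_eq]
  have hA : Nat.card A = Nat.card (fixedBy (Sylow p G) u) - 1 := by
    have hPmem : P ∈ fixedBy (Sylow p G) u := huP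
    have := Fintype.ofFinite (Sylow p G)
    let e : A ≃ {Q : {Q : Sylow p G // Q ∈ fixedBy (Sylow p G) u} // Q ≠ ⟨P, hPmem⟩} :=
      { toFun := fun Q => ⟨⟨Q.1, Q.2.1⟩, fun h => Q.2.2 (congrArg Subtype.val h)⟩
        invFun := fun Q => ⟨Q.1.1, Q.1.2, fun h => Q.2 (Subtype.ext h)⟩
        left_inv := fun Q => rfl
        right_inv := fun Q => rfl }
    rw [Nat.card_congr e, Nat.card_eq_fintype_card, Nat.card_eq_fintype_card,
      Fintype.card_subtype_compl, Fintype.card_subtype_eq]
  rw [Nat.card_prod, hB, hA, hP] at hcard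
  exact hcard

/-- Let the Sylow `p`-subgroups have prime order `p`, and let the element `k` have so many fixed
points on them that `n_p - 1 < p * (fix k - 1)`.  Then `k` centralizes every Sylow `p`-subgroup
it normalizes. -/
theorem card_centralized_eq_card_fixedBy_of_lt
    (hP : ∀ R : Sylow p G, Nat.card ↥(R : Subgroup G) = p) (k : G)
    (hbig : Nat.card (Sylow p G) - 1 < p * (Nat.card (fixedBy (Sylow p G) k) - 1)) :
    Nat.card {R : Sylow p G // k ∈ centralizer ((R : Subgroup G) : Set G)} =
      Nat.card (fixedBy (Sylow p G) k) := by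
  apply Nat.card_congr
  refine Equiv.subtypeEquivRight (fun R => ?_)
  constructor
  · intro h
    rw [MulAction.mem_fixedBy, Sylow.smul_eq_iff_mem_normalizer]
    exact Subgroup.centralizer_le_normalizer _ h
  · intro h
    rcases mem_centralizer_or_fpf p (R : Subgroup G) (hP R) k with h1 | h1
    · exact h1
    · exfalso
      have := mul_card_fixedBy_le_of_fpf p R (hP R) k h h1
      omega

/-- The Sylow `p`-subgroups of `G` contained in a subgroup `C` containing one of them correspond
to the Sylow `p`-subgroups of `C`. -/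
theorem card_sylow_le_eq (C : Subgroup G) (P : Sylow p G) (hPC : (P : Subgroup G) ≤ C) :
    Nat.card {R : Sylow p G // (R : Subgroup G) ≤ C} = Nat.card (Sylow p ↥C) := by
  apply Nat.card_congr
  refine Equiv.ofBijective (fun R => R.1.subtype R.2) ⟨?_, ?_⟩
  · intro R R' h
    exact Subtype.ext (Sylow.subtype_injective h)
  · intro S
    obtain ⟨c, hc⟩ := MulAction.exists_smul_eq ↥C (P.subtype hPC) S
    refine ⟨⟨c • P, Sylow.smul_le hPC c⟩, ?_⟩
    show (c • P).subtype _ = S
    rw [← Sylow.smul_subtype hPC c, hc]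

/-- The number of Sylow `p`-subgroups centralized by `k` divides `|C_G(k)|`. -/
theorem card_centralized_dvd (k : G) (P : Sylow p G)
    (hk : k ∈ centralizer ((P : Subgroup G) : Set G)) :
    Nat.card {R : Sylow p G // k ∈ centralizer ((R : Subgroup G) : Set G)} ∣
      Nat.card ↥(centralizer ({k} : Set G)) := by
  have hiff : ∀ R : Sylow p G, k ∈ centralizer ((R : Subgroup G) : Set G) ↔
      (R : Subgroup G) ≤ centralizer ({k} : Set G) := by
    intro R
    constructor
    · intro h x hx
      rw [mem_centralizer_iff]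
      intro y hy
      rw [Set.mem_singleton_iff] at hy
      subst hy
      exact (mem_centralizer_iff.mp h x hx).symm
    · intro h
      rw [mem_centralizer_iff]
      intro x hx
      exact (mem_centralizer_iff.mp (h hx) k (Set.mem_singleton k)).symm
  have h1 : Nat.card {R : Sylow p G // k ∈ centralizer ((R : Subgroup G) : Set G)} =
      Nat.card {R : Sylow p G // (R : Subgroup G) ≤ centralizer ({k} : Set G)} :=
    Nat.card_congr (Equiv.subtypeEquivRight hiff)
  rw [h1, card_sylow_le_eq p _ P ((hiff P).mp hk)]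
  have S : Sylow p ↥(centralizer ({k} : Set G)) := P.subtype ((hiff P).mp hk)
  exact (Sylow.card_dvd_index S).trans (Subgroup.index_dvd_card _)

/-- If `P` is the only Sylow `p`-subgroup normalized by `k`, then `C_G(k) ≤ N_G(P)`. -/
theorem centralizer_le_normalizer_of_unique_fixed (P : Sylow p G) (k : G) (hkP : k • P = P)
    (hfix : ∀ R : Sylow p G, k • R = R → R = P) :
    centralizer ({k} : Set G) ≤ normalizer ((P : Subgroup G) : Set G) := by
  intro g hg
  apply Sylow.smul_eq_iff_mem_normalizer.mp
  apply hfix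
  have hgk : g * k = k * g := (mem_centralizer_iff.mp hg k (Set.mem_singleton k)).symm
  rw [smul_smul, ← hgk, mul_smul, hkP]

/-- If `P` is the only Sylow `p`-subgroup normalized by `k` and `k ∈ Q ≤ N_G(P)`, then
`N_G(Q) ≤ N_G(P)`. -/
theorem normalizer_le_normalizer_of_unique_fixed (P : Sylow p G) (k : G)
    (hfix : ∀ R : Sylow p G, k • R = R → R = P) (Q : Subgroup G) (hkQ : k ∈ Q)
    (hQN : Q ≤ normalizer ((P : Subgroup G) : Set G)) :
    normalizer (Q : Set G) ≤ normalizer ((P : Subgroup G) : Set G) := by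
  intro t ht
  have h1 : t * k * t⁻¹ ∈ Q := (mem_normalizer_iff.mp ht k).mp hkQ
  have h2 : (t * k * t⁻¹) • P = P := Sylow.smul_eq_iff_mem_normalizer.mpr (hQN h1)
  have h3 : k • (t⁻¹ • P) = t⁻¹ • P := by
    have := congrArg (fun Z => t⁻¹ • Z) h2
    simp only [smul_smul] at this
    rw [smul_smul]
    convert this using 2
    group
  have h4 := hfix _ h3
  have h5 : t⁻¹ ∈ normalizer ((P : Subgroup G) : Set G) := Sylow.smul_eq_iff_mem_normalizer.mp h4
  have := inv_mem h5
  rwa [inv_inv] at this

end Cfsg.Agent.Lib.Helper23.SylowPerm
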