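import Cfsg.Agent.Lib.Helper23.SylowPrime
import Cfsg.Agent.Lib.Helper23.ConjClass

namespace Cfsg.Agent.Lib.Helper23

/-- If every Sylow `p`-subgroup has order `p`, normalizer of order `p * q` and is not central in
its normalizer, then every element whose order is divisible by `p` has order `p`. -/
theorem orderOf_eq_prime_of_dvd {G : Type*} [Group G] [Finite G] (p q : ℕ)
    [Fact p.Prime] (hq : q.Prime) (hP : ∀ P : Sylow p G, Nat.card ↥(P : Subgroup G) = p)
    (hN : ∀ P : Sylow p G, Nat.card ↥(Subgroup.normalizer ((P : Subgroup G) : Set G)) = p * q)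
    (hNC : ∀ P : Sylow p G, ¬ Subgroup.normalizer ((P : Subgroup G) : Set G) ≤
      Subgroup.centralizer ((P : Subgroup G) : Set G))
    (g : G) (hg : p ∣ orderOf g) : orderOf g = p := by
  have hp : p.Prime := Fact.out
  obtain ⟨m', hm'⟩ := hg
  have hpos : 0 < orderOf g := orderOf_pos g
  have hm'pos : 0 < m' := by
    rcases Nat.eq_zero_or_pos m' with h | h
    · rw [h, mul_zero] at hm'; omega
    · exact h
  set y := g ^ m' with hy
  have hyo : orderOf y = p := by
    rw [hy, orderOf_pow' g hm'pos.ne', hm', Nat.gcd_eq_right (Dvd.intro_left p rfl)]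
    exact Nat.mul_div_cancel _ hm'pos
  have hpg : IsPGroup p ↥(Subgroup.zpowers y) :=
    IsPGroup.of_card (n := 1) (by rw [Nat.card_zpowers, hyo, pow_one])
  obtain ⟨P, hPy⟩ := hpg.exists_le_sylow
  have hyP : y ∈ (P : Subgroup G) := hPy (Subgroup.mem_zpowers y)
  have hy1 : y ≠ 1 := by
    intro h
    rw [h, orderOf_one] at hyo
    exact hp.one_lt.ne hyo
  have hgen := zpowers_eq_of_mem_of_card_eq_prime p P (hP P) hyP hy1
  have hgC : g ∈ Subgroup.centralizer ((P : Subgroup G) : Set G) := by
    rw [Subgroup.mem_centralizer_iff]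
    intro b hb
    have hb' : b ∈ Subgroup.zpowers y := by rw [hgen]; exact hb
    obtain ⟨k, rfl⟩ := Subgroup.mem_zpowers_iff.mp hb'
    have hc : Commute y g := (Commute.refl g).pow_left m'
    exact (hc.zpow_left k).eq
  have hgN : g ∈ Subgroup.normalizer ((P : Subgroup G) : Set G) :=
    Subgroup.centralizer_le_normalizer _ hgC
  have hgP : g ∈ (P : Subgroup G) := by
    by_contra hgP
    exact (orderOf_eq_of_mem_normalizer_notMem p q hq P (hP P) (hN P) (hNC P) g hgN hgP).2 hgC
  have h1 : orderOf g ∣ p := by
    rw [← hP P]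
    exact Subgroup.orderOf_dvd_natCard _ hgP
  rcases (Nat.dvd_prime hp).mp h1 with h | h
  · rw [h] at hm'
    have : p ∣ 1 := ⟨m', hm'⟩
    exact absurd (Nat.dvd_one.mp this) hp.one_lt.ne'
  · exact h

/-- If every element has order in `s` then the order classes partition the group. -/
theorem sum_card_orderOf_eq {G : Type*} [Group G] [Finite G] (s : Finset ℕ)
    (hs : ∀ g : G, orderOf g ∈ s) :
    ∑ d ∈ s, Nat.card {g : G // orderOf g = d} = Nat.card G := by
  classical
  have := Fintype.ofFinite G
  have h1 : ∀ d, Nat.card {g : G // orderOf g = d} =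
      (Finset.univ.filter (fun g : G => orderOf g = d)).card := by
    intro d
    rw [Nat.card_eq_fintype_card, Fintype.card_subtype]
  simp_rw [h1]
  rw [← Finset.card_biUnion]
  · rw [Nat.card_eq_fintype_card, ← Finset.card_univ]
    congr 1
    ext g
    simp only [Finset.mem_biUnion, Finset.mem_filter, Finset.mem_univ, true_and, iff_true]
    exact ⟨orderOf g, hs g, rfl⟩
  · intro a _ b _ hab
    show Disjoint _ _
    rw [Finset.disjoint_left]
    intro g hga hgb
    simp only [Finset.mem_filter, Finset.mem_univ, true_and] at hga hgb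
    exact hab (hga.symm.trans hgb)

/-- An element of prime order `a` commuting with an element of order coprime to `a` gives an
element whose order is the product. -/
theorem orderOf_mul_of_commute_coprime {G : Type*} [Group G] (x y : G) (h : x * y = y * x)
    (hco : (orderOf x).Coprime (orderOf y)) : orderOf (x * y) = orderOf x * orderOf y :=
  Commute.orderOf_mul_eq_mul_orderOf_of_coprime h hco

end Cfsg.Agent.Lib.Helper23
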