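import Mathlib

set_option autoImplicit false
set_option linter.unusedSectionVars false
set_option linter.unusedVariables false

namespace Cfsg.Agent.Lib.Helper23.MC3806

open Subgroup
open scoped commutatorElement

/-- LEAF G (`G/G'` of order `p²`, `G` nonabelian `p`-group ⟹ `G/G'` elementary abelian). -/
theorem pow_mem_commutator {G : Type*} [Group G] [Finite G] (p : ℕ) [Fact p.Prime] (hG : IsPGroup p G)
    (h2 : Nat.card G = p ^ 2 * Nat.card ((⊤ : Subgroup G).lowerCentralSeries 1))
    (hne : (⊤ : Subgroup G).lowerCentralSeries 1 ≠ ⊥) (x : G) :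
    x ^ p ∈ (⊤ : Subgroup G).lowerCentralSeries 1 := by
  classical
  have hp : p.Prime := Fact.out
  set L1 : Subgroup G := (⊤ : Subgroup G).lowerCentralSeries 1 with hL1
  set L2 : Subgroup G := (⊤ : Subgroup G).lowerCentralSeries 2 with hL2
  haveI hL1n : L1.Normal := by rw [hL1]; infer_instance
  haveI hL2n : L2.Normal := by rw [hL2]; infer_instance
  have hL21 : L2 ≤ L1 := Subgroup.lowerCentralSeries_antitone (⊤ : Subgroup G) (by norm_num)
  by_contra hx
  -- the quotient has order p^2
  have hcardQ : Nat.card (G ⧸ L1) = p ^ 2 := by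
    have h1 : Nat.card G = Nat.card (G ⧸ L1) * Nat.card L1 := Subgroup.card_eq_card_quotient_mul_card_subgroup L1
    rw [h2] at h1
    have hpos : 0 < Nat.card L1 := Nat.card_pos
    exact (Nat.eq_of_mul_eq_mul_right hpos h1).symm
  -- the image of x has order p^2
  have hxbar : (QuotientGroup.mk x : G ⧸ L1) ^ p ≠ 1 := by
    intro h
    apply hx
    rw [← QuotientGroup.mk_pow] at h
    exact (QuotientGroup.eq_one_iff _).1 h
  have hord : orderOf (QuotientGroup.mk x : G ⧸ L1) = p ^ 2 := by
    have hdvd : orderOf (QuotientGroup.mk x : G ⧸ L1) ∣ p ^ 2 := by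
      rw [← hcardQ]; exact orderOf_dvd_natCard _
    obtain ⟨k, hk, hk'⟩ := (Nat.dvd_prime_pow hp).1 hdvd
    have hk2 : k = 2 := by
      by_contra hk2
      have hk1 : k ≤ 1 := by omega
      apply hxbar
      have : orderOf (QuotientGroup.mk x : G ⧸ L1) ∣ p := by
        rw [hk']
        exact pow_dvd_pow p hk1 |>.trans (by rw [pow_one])
      exact orderOf_dvd_iff_pow_eq_one.1 this
    rw [hk', hk2]
  haveI hcyc : IsCyclic (G ⧸ L1) := isCyclic_of_orderOf_eq_card _ (by rw [hord, hcardQ])
  -- G ⧸ L2 is commutative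
  let f : G ⧸ L2 →* G ⧸ L1 := QuotientGroup.map L2 L1 (MonoidHom.id G) (by
    intro g hg
    exact hL21 hg)
  have hfker : f.ker ≤ center (G ⧸ L2) := by
    intro y hy
    obtain ⟨g, rfl⟩ := QuotientGroup.mk_surjective y
    have hg : g ∈ L1 := by
      have h1 : f (QuotientGroup.mk g) = 1 := hy
      have h3 : f (QuotientGroup.mk g) = (QuotientGroup.mk g : G ⧸ L1) := rfl
      rw [h3] at h1
      exact (QuotientGroup.eq_one_iff _).1 h1
    rw [Subgroup.mem_center_iff]
    intro z
    obtain ⟨h, rfl⟩ := QuotientGroup.mk_surjective z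
    -- [g, h] ∈ L2
    have hc : ⁅g, h⁆ ∈ L2 := by
      rw [hL2]
      exact Subgroup.commutator_mem_commutator hg (Subgroup.mem_top h)
    have hc' : (QuotientGroup.mk ⁅g, h⁆ : G ⧸ L2) = 1 := (QuotientGroup.eq_one_iff _).2 hc
    rw [commutatorElement_def] at hc'
    simp only [QuotientGroup.mk_mul, QuotientGroup.mk_inv] at hc'
    -- g h g⁻¹ h⁻¹ = 1 → h g = g h
    have : (QuotientGroup.mk g : G ⧸ L2) * QuotientGroup.mk h =
        QuotientGroup.mk h * QuotientGroup.mk g := by
      have h5 := hc'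
      rw [mul_inv_eq_one, mul_inv_eq_iff_eq_mul] at h5
      exact h5
    exact this.symm
  have hcomm : ∀ a b : G ⧸ L2, a * b = b * a := commutative_of_cyclic_center_quotient f hfker
  -- hence L1 ≤ L2
  have hL12 : L1 ≤ L2 := by
    rw [hL1]
    show ⁅(⊤ : Subgroup G).lowerCentralSeries 0, (⊤ : Subgroup G)⁆ ≤ L2
    rw [Subgroup.commutator_le]
    intro a _ b _
    apply (QuotientGroup.eq_one_iff (N := L2) _).1
    rw [commutatorElement_def]
    simp only [QuotientGroup.mk_mul, QuotientGroup.mk_inv]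
    rw [hcomm (QuotientGroup.mk a) (QuotientGroup.mk b)]
    group
  have hL12eq : L2 = L1 := le_antisymm hL21 hL12
  -- all later terms equal L1
  have hall : ∀ n : ℕ, (⊤ : Subgroup G).lowerCentralSeries (n + 1) = L1 := by
    intro n
    induction n with
    | zero => rfl
    | succ n ih =>
      rw [Subgroup.lowerCentralSeries_succ, ih]
      exact hL12eq
  have hnil : Group.IsNilpotent G := hG.isNilpotent
  obtain ⟨n, hn⟩ := Subgroup.nilpotent_iff_lowerCentralSeries.1 hnil
  apply hne
  have hle : (⊤ : Subgroup G).lowerCentralSeries (n + 1) ≤ (⊤ : Subgroup G).lowerCentralSeries n :=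
    Subgroup.lowerCentralSeries_antitone (⊤ : Subgroup G) (Nat.le_succ n)
  rw [hall n, hn] at hle
  exact le_bot_iff.1 hle

end Cfsg.Agent.Lib.Helper23.MC3806
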