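import Mathlib

/-!
# A consequence of the focal subgroup theorem

If `P` is an abelian Sylow `p`-subgroup contained in the commutator subgroup, and the
normalizer of `P` is `P ∪ tP`, then `t` acts fixed-point-freely on `P`.
-/

namespace Cfsg.Agent.Lib.Helper23

open scoped commutatorElement

set_option linter.unusedSectionVars false

theorem eq_one_of_commute_of_focal {G : Type*} [Group G] [Finite G] {p : ℕ} [Fact p.Prime]
    (P : Sylow p G)
    (hab : ∀ a ∈ (P : Subgroup G), ∀ b ∈ (P : Subgroup G), a * b = b * a)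
    (hperf : (P : Subgroup G) ≤ commutator G) (t : G)
    (ht : t ∈ Subgroup.normalizer ((P : Subgroup G) : Set G))
    (hN : ∀ n ∈ Subgroup.normalizer ((P : Subgroup G) : Set G),
      n ∈ (P : Subgroup G) ∨ t⁻¹ * n ∈ (P : Subgroup G))
    (x : G) (hx : x ∈ (P : Subgroup G)) (hc : t * x = x * t) : x = 1 := by
  have : IsMulCommutative ↥(P : Subgroup G) :=
    ⟨⟨fun a b => Subtype.ext (hab a a.2 b b.2)⟩⟩
  have hconj : ∀ y ∈ (P : Subgroup G), t⁻¹ * y * t ∈ (P : Subgroup G) := by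
    intro y hy
    have h1 := (Subgroup.mem_normalizer_iff.mp (inv_mem ht) y).mp hy
    simpa using h1
  let f : ↥(P : Subgroup G) → ↥(P : Subgroup G) := fun y =>
    ⟨y * (t⁻¹ * (y : G)⁻¹ * t), mul_mem y.2 (hconj _ (inv_mem y.2))⟩
  have hfoc : (P : Subgroup G).focalSubgroup = P := by
    have := Subgroup.commutator_inf_eq_focalSubgroup P
    rw [← this]; exact inf_eq_right.mpr hperf
  have key : ∀ g ∈ (P : Subgroup G).focalSubgroup, ∃ z, (f z : G) = g := by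
    intro g hg
    rw [Subgroup.focalSubgroup_def] at hg
    induction hg using Subgroup.closure_induction with
    | mem g hg =>
      obtain ⟨hgP, a, haP, u, rfl⟩ := hg
      have h1 : u * a⁻¹ * u⁻¹ ∈ (P : Subgroup G) := by
        have : u * a⁻¹ * u⁻¹ = a⁻¹ * ⁅a, u⁆ := by rw [commutatorElement_def]; group
        rw [this]; exact mul_mem (inv_mem haP) hgP
      obtain ⟨n, hn, hne⟩ := P.conj_eq_normalizer_conj_of_mem a⁻¹ u⁻¹ (inv_mem haP)
        (by rw [inv_inv]; exact h1)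
      rcases hN n hn with hnP | hnP
      · refine ⟨1, ?_⟩
        have hcomm := hab _ hnP _ (inv_mem haP)
        have h2 : n⁻¹ * a⁻¹ * n = a⁻¹ := by
          calc n⁻¹ * a⁻¹ * n = n⁻¹ * (a⁻¹ * n) := by group
            _ = n⁻¹ * (n * a⁻¹) := by rw [hcomm]
            _ = _ := by group
        show ((1 : ↥(P : Subgroup G)) : G) * (t⁻¹ * ((1 : ↥(P : Subgroup G)) : G)⁻¹ * t) = ⁅a, u⁆
        rw [commutatorElement_def]
        have h3 : a * u * a⁻¹ * u⁻¹ = a * (u⁻¹⁻¹ * a⁻¹ * u⁻¹) := by group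
        rw [h3, hne, h2]
        simp
      · refine ⟨⟨a, haP⟩, ?_⟩
        have hA : t⁻¹ * a⁻¹ * t ∈ (P : Subgroup G) := hconj _ (inv_mem haP)
        have hcomm := hab _ hnP _ hA
        have h2 : n⁻¹ * a⁻¹ * n = t⁻¹ * a⁻¹ * t := by
          calc n⁻¹ * a⁻¹ * n = (t⁻¹ * n)⁻¹ * ((t⁻¹ * a⁻¹ * t) * (t⁻¹ * n)) := by group
            _ = (t⁻¹ * n)⁻¹ * ((t⁻¹ * n) * (t⁻¹ * a⁻¹ * t)) := by rw [hcomm]
            _ = _ := by group
        show a * (t⁻¹ * a⁻¹ * t) = ⁅a, u⁆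
        rw [commutatorElement_def]
        have h3 : a * u * a⁻¹ * u⁻¹ = a * (u⁻¹⁻¹ * a⁻¹ * u⁻¹) := by group
        rw [h3, hne, h2]
    | one => exact ⟨1, by simp [f]⟩
    | mul g h _ _ ihg ihh =>
      obtain ⟨z, rfl⟩ := ihg
      obtain ⟨w, rfl⟩ := ihh
      refine ⟨z * w, ?_⟩
      have hA : t⁻¹ * (z : G)⁻¹ * t ∈ (P : Subgroup G) := hconj _ (inv_mem z.2)
      have hB : t⁻¹ * (w : G)⁻¹ * t ∈ (P : Subgroup G) := hconj _ (inv_mem w.2)
      have hcomm := hab _ hA _ (mul_mem w.2 hB)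
      show ((z * w : ↥(P : Subgroup G)) : G) * (t⁻¹ * ((z * w : ↥(P : Subgroup G)) : G)⁻¹ * t) =
        (z : G) * (t⁻¹ * (z : G)⁻¹ * t) * ((w : G) * (t⁻¹ * (w : G)⁻¹ * t))
      rw [Subgroup.coe_mul]
      calc (z : G) * w * (t⁻¹ * ((z : G) * w)⁻¹ * t)
          = z * ((w * (t⁻¹ * (w : G)⁻¹ * t)) * (t⁻¹ * (z : G)⁻¹ * t)) := by group
        _ = z * ((t⁻¹ * (z : G)⁻¹ * t) * (w * (t⁻¹ * (w : G)⁻¹ * t))) := by rw [hcomm]
        _ = _ := by group
    | inv g _ ih =>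
      obtain ⟨z, rfl⟩ := ih
      refine ⟨z⁻¹, ?_⟩
      have hA : t⁻¹ * (z : G) * t ∈ (P : Subgroup G) := hconj _ z.2
      have hcomm := hab _ hA _ (inv_mem z.2)
      show ((z⁻¹ : ↥(P : Subgroup G)) : G) * (t⁻¹ * ((z⁻¹ : ↥(P : Subgroup G)) : G)⁻¹ * t) =
        ((z : G) * (t⁻¹ * (z : G)⁻¹ * t))⁻¹
      rw [Subgroup.coe_inv]
      calc (z : G)⁻¹ * (t⁻¹ * ((z : G)⁻¹)⁻¹ * t) = (z : G)⁻¹ * (t⁻¹ * z * t) := by group
        _ = (t⁻¹ * z * t) * (z : G)⁻¹ := by rw [hcomm]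
        _ = _ := by group
  have hsurj : Function.Surjective f := by
    intro y
    obtain ⟨z, hz⟩ := key y (by rw [hfoc]; exact y.2)
    exact ⟨z, Subtype.ext hz⟩
  have hinj : Function.Injective f := Finite.injective_iff_surjective.mpr hsurj
  have hfx : f ⟨x, hx⟩ = f 1 := by
    apply Subtype.ext
    show x * (t⁻¹ * x⁻¹ * t) = ((1 : ↥(P : Subgroup G)) : G) *
      (t⁻¹ * ((1 : ↥(P : Subgroup G)) : G)⁻¹ * t)
    have h1 : t⁻¹ * x⁻¹ * t = x⁻¹ := by
      have : x⁻¹ * t = t * x⁻¹ := by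
        calc x⁻¹ * t = x⁻¹ * (t * x) * x⁻¹ := by group
          _ = x⁻¹ * (x * t) * x⁻¹ := by rw [hc]
          _ = _ := by group
      calc t⁻¹ * x⁻¹ * t = t⁻¹ * (x⁻¹ * t) := by group
        _ = t⁻¹ * (t * x⁻¹) := by rw [this]
        _ = _ := by group
    rw [h1]; simp
  have := congrArg Subtype.val (hinj hfx)
  simpa using this

end Cfsg.Agent.Lib.Helper23
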