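import Cfsg.Agent.Lib.Helper23.SylowEmbed

namespace Cfsg.Agent.Lib.Helper23

/-- A group of order 12 has a normal Sylow 3-subgroup or a normal Sylow 2-subgroup. -/
theorem normal_sylow_of_card_twelve {H : Type*} [Group H] [Finite H] (h : Nat.card H = 12) :
    (∀ Q : Sylow 3 H, (Q : Subgroup H).Normal) ∨ (∀ V : Sylow 2 H, (V : Subgroup H).Normal) := by
  classical
  have : Fact (Nat.Prime 3) := ⟨by norm_num⟩
  have : Fact (Nat.Prime 2) := ⟨by norm_num⟩
  have hc3 : ∀ Q : Sylow 3 H, Nat.card ↥(Q : Subgroup H) = 3 := fun Q => by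
    simpa using sylow_card_of_card_eq 3 1 4 (by rw [h]; norm_num) (by norm_num) Q
  have hc2 : ∀ V : Sylow 2 H, Nat.card ↥(V : Subgroup H) = 4 := fun V => by
    simpa using sylow_card_of_card_eq 2 2 3 (by rw [h]; norm_num) (by norm_num) V
  have hd := card_sylow_dvd_of_card_eq (G := H) 3 1 4 (by rw [h]; norm_num) (by norm_num)
  have hmod : Nat.card (Sylow 3 H) % 3 = 1 := card_sylow_modEq_one 3 H
  have hle := Nat.le_of_dvd (by norm_num) hd
  have hcases : Nat.card (Sylow 3 H) = 1 ∨ Nat.card (Sylow 3 H) = 4 := by
    generalize Nat.card (Sylow 3 H) = n at *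
    interval_cases n <;> omega
  rcases hcases with h1 | h4
  · left
    exact fun Q => sylow_normal_of_card_eq_one 3 h1 Q
  right
  have h8 : Nat.card {g : H // orderOf g = 3} = 8 := by
    rw [card_orderOf_eq_prime 3 hc3, h4]
  have hn2 : Nat.card (Sylow 2 H) = 1 := by
    rw [Nat.card_eq_one_iff_unique]
    refine ⟨⟨fun V1 V2 => ?_⟩, inferInstance⟩
    by_contra hne
    have hnle : ¬ (V2 : Subgroup H) ≤ V1 := by
      intro hle
      apply hne
      exact (Sylow.ext (Subgroup.eq_of_le_of_card_ge hle (by rw [hc2, hc2]))).symm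
    obtain ⟨c, hcV2, hcV1⟩ := SetLike.not_le_iff_exists.mp hnle
    have := Fintype.ofFinite H
    have hA : (Finset.univ.filter (fun g : H => orderOf g = 3)).card = 8 := by
      rw [Nat.card_eq_fintype_card, Fintype.card_subtype] at h8
      exact h8
    have hB : (Finset.univ.filter (fun g : H => g ∈ (V1 : Subgroup H))).card = 4 := by
      have := hc2 V1
      rw [Nat.card_eq_fintype_card, Fintype.card_subtype] at this
      exact this
    have hord : ∀ V : Sylow 2 H, ∀ g ∈ (V : Subgroup H), orderOf g ≠ 3 := by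
      intro V g hg h3
      have := orderOf_dvd_natCard (⟨g, hg⟩ : ↥(V : Subgroup H))
      rw [Subgroup.orderOf_mk, hc2, h3] at this
      omega
    have hdisj : Disjoint (Finset.univ.filter (fun g : H => orderOf g = 3))
        (insert c (Finset.univ.filter (fun g : H => g ∈ (V1 : Subgroup H)))) := by
      rw [Finset.disjoint_left]
      intro g hg1 hg2
      simp only [Finset.mem_filter, Finset.mem_univ, true_and, Finset.mem_insert] at hg1 hg2
      rcases hg2 with rfl | hg2
      · exact hord V2 _ hcV2 hg1
      · exact hord V1 _ hg2 hg1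
    have hcard := Finset.card_union_of_disjoint hdisj
    have hB' : (insert c (Finset.univ.filter (fun g : H => g ∈ (V1 : Subgroup H)))).card = 5 := by
      rw [Finset.card_insert_of_notMem (by simpa using hcV1), hB]
    have hle := Finset.card_le_univ ((Finset.univ.filter (fun g : H => orderOf g = 3)) ∪
        (insert c (Finset.univ.filter (fun g : H => g ∈ (V1 : Subgroup H)))))
    rw [hcard, hA, hB', ← Nat.card_eq_fintype_card, h] at hle
    omega
  exact fun V => sylow_normal_of_card_eq_one 2 hn2 V

/-- a normal subgroup `K` of a subgroup `M`, seen in `G`, is normalized by `M`. -/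
theorem le_normalizer_map_subtype {G : Type*} [Group G] (M : Subgroup G) (K : Subgroup ↥M)
    [hK : K.Normal] : M ≤ Subgroup.normalizer ((K.map M.subtype : Subgroup G) : Set G) := by
  have h1 := Subgroup.le_normalizer_map (H := K) M.subtype
  have h2 : Subgroup.normalizer (K : Set ↥M) = ⊤ := Subgroup.normalizer_eq_top_iff.mpr hK
  rw [h2, ← MonoidHom.range_eq_map, Subgroup.range_subtype] at h1
  exact h1

end Cfsg.Agent.Lib.Helper23
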