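import Mathlib
import Cfsg.Agent.Lib.Helper23.Exceptional
import Cfsg.Agent.S0851

/-!
# Exceptional characters for a self-centralizing subgroup of prime order: the degree equation

For a subgroup `P` of prime order `p` of `G` with `C_G(P) = P`, `e = [N_G(P) : P] > 1` and
`e (e + 2) ≤ p - 1`, in a group without non-principal linear characters: there are a sign `ε'`, an
irreducible character `Λ` and integers `z ψ` with `z 1 = 1`, `z Λ = -ε'`, `∑ z² = e + 1`,
`∑ z ψ · ψ(1) = 0`, and `ψ(1) ≡ z ψ (mod p)` whenever `ψ ≠ Λ`, `z ψ ≠ 0`.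
-/

set_option autoImplicit false
set_option linter.unusedSectionVars false
set_option linter.style.haveILetI false

namespace Cfsg.Agent.Lib.Helper23.Exceptional

open Cfsg Cfsg.Agent.Lib.Helper34
open scoped ComplexConjugate

/-- an element conjugating a finite subgroup into itself normalizes it -/
theorem mem_normalizer_of_conj_mem {G : Type*} [Group G] (P : Subgroup G) [Finite P] (g : G)
    (h : ∀ x ∈ P, g * x * g⁻¹ ∈ P) : g ∈ Subgroup.normalizer (P : Set G) := by
  rw [Subgroup.mem_normalizer_iff]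
  intro y
  refine ⟨h y, fun hy => ?_⟩
  let c : P → P := fun x => ⟨g * x * g⁻¹, h x x.2⟩
  have hinj : Function.Injective c := by
    intro x x' hxx
    have : g * x * g⁻¹ = g * x' * g⁻¹ := congrArg Subtype.val hxx
    apply Subtype.ext
    have h2 := congrArg (fun t => g⁻¹ * t * g) this
    simpa [mul_assoc] using h2
  obtain ⟨x, hx⟩ := (Finite.injective_iff_surjective.mp hinj) ⟨g * y * g⁻¹, hy⟩
  have : g * x * g⁻¹ = g * y * g⁻¹ := congrArg Subtype.val hx
  have h2 := congrArg (fun t => g⁻¹ * t * g) this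
  have h3 : (x : G) = y := by simpa [mul_assoc] using h2
  rw [← h3]
  exact x.2

theorem exists_exceptional {G : Type*} [Group G] [Fintype G] [Fintype (IrrCharacter G)]
    (P : Subgroup G) (p : ℕ) (hp : p.Prime) (hP : Nat.card P = p)
    (hCP : Subgroup.centralizer (P : Set G) = P) (e : ℕ)
    (he : (P.subgroupOf (Subgroup.normalizer (P : Set G))).index = e)
    (he2 : e * (e + 2) ≤ p - 1) (he1 : 1 < e)
    (hperf : ∀ ψ : IrrCharacter G, (ψ : G → ℂ) 1 = 1 → ψ = Cfsg.Agent.Lib.Helper83.trivChar G) :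
    ∃ (ε' : ℤ) (Λ : IrrCharacter G) (z : IrrCharacter G → ℤ),
      (ε' = 1 ∨ ε' = -1) ∧ z (Cfsg.Agent.Lib.Helper83.trivChar G) = 1 ∧ z Λ = -ε' ∧
      Λ ≠ Cfsg.Agent.Lib.Helper83.trivChar G ∧
      ∑ ψ : IrrCharacter G, z ψ * z ψ = (e : ℤ) + 1 ∧
      ∑ ψ : IrrCharacter G, (z ψ : ℂ) * (ψ : G → ℂ) 1 = 0 ∧
      ∀ ψ : IrrCharacter G, ψ ≠ Λ → z ψ ≠ 0 →
        ∃ b : ℤ, (ψ : G → ℂ) 1 = (p : ℂ) * b + z ψ := by
  classical
  have hPfin : Finite P := inferInstance
  -- `P` is generated by each of its non-identity elements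
  have hgen : ∀ k ∈ P, k ≠ 1 → Subgroup.zpowers k = P := by
    intro k hk hk1
    apply Subgroup.eq_of_le_of_card_ge (Subgroup.zpowers_le.mpr hk)
    rw [hP, Nat.card_zpowers]
    have h1 : orderOf k ∣ p := by
      rw [← hP]
      have := orderOf_dvd_natCard (⟨k, hk⟩ : P)
      rwa [Subgroup.orderOf_mk] at this
    rcases (Nat.dvd_prime hp).mp h1 with h | h
    · exact absurd (orderOf_eq_one_iff.mp h) hk1
    · exact h.ge
  have hab : ∀ a ∈ P, ∀ b ∈ P, a * b = b * a := by
    intro a ha b hb
    have : a ∈ Subgroup.centralizer (P : Set G) := by rw [hCP]; exact ha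
    exact (Subgroup.mem_centralizer_iff.mp this b hb).symm
  have hC : ∀ k ∈ P, k ≠ 1 → Subgroup.centralizer ({k} : Set G) ≤ P := by
    intro k hk hk1 x hx
    rw [← hCP, Subgroup.mem_centralizer_iff]
    intro y hy
    have hy' : y ∈ Subgroup.zpowers k := by rw [hgen k hk hk1]; exact hy
    obtain ⟨m, rfl⟩ := Subgroup.mem_zpowers_iff.mp hy'
    have hkx : k * x = x * k := Subgroup.mem_centralizer_iff.mp hx k (Set.mem_singleton k)
    have : Commute x k := hkx.symm
    exact (this.zpow_right m).eq.symm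
  have hTI : ∀ g : G, g ∉ Subgroup.normalizer (P : Set G) → ∀ k ∈ P, g * k * g⁻¹ ∈ P → k = 1 := by
    intro g hg k hk hgk
    by_contra hk1
    apply hg
    apply mem_normalizer_of_conj_mem P g
    intro x hx
    have hx' : x ∈ Subgroup.zpowers k := by rw [hgen k hk hk1]; exact hx
    obtain ⟨m, rfl⟩ := Subgroup.mem_zpowers_iff.mp hx'
    have : g * k ^ m * g⁻¹ = (g * k * g⁻¹) ^ m := (conj_zpow (a := g) (b := k) (i := m)).symm
    rw [this]
    exact Subgroup.zpow_mem _ hgk m
  have hlt : P < Subgroup.normalizer (P : Set G) := by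
    refine lt_of_le_of_ne Subgroup.le_normalizer ?_
    intro h
    have h1 : P.subgroupOf (Subgroup.normalizer (P : Set G)) = ⊤ := by
      rw [Subgroup.subgroupOf_eq_top]
      exact h.ge
    rw [h1, Subgroup.index_top] at he
    omega
  letI : Fintype ↥(Subgroup.normalizer (P : Set G)) := Fintype.ofFinite _
  haveI : (P.subgroupOf (Subgroup.normalizer (P : Set G))).Normal := Subgroup.normal_in_normalizer
  have hcardK : Nat.card (P.subgroupOf (Subgroup.normalizer (P : Set G))) = p := by
    rw [Nat.card_congr (Subgroup.subgroupOfEquivOfLe Subgroup.le_normalizer).toEquiv, hP]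
  rcases Cfsg.Agent.S0851.result P hTI hlt hC hab with ⟨-, q, -, -, hcard⟩ | ⟨ε, f, hε, hf, hfε⟩
  · exfalso
    rw [hP, he] at hcard
    have hp2 := hp.two_le
    have : e * (e + 2) ≤ e := by omega
    nlinarith
  have hC' := frobTI_hC P hC
  have hab' : ∀ a ∈ P.subgroupOf (Subgroup.normalizer (P : Set G)),
      ∀ b ∈ P.subgroupOf (Subgroup.normalizer (P : Set G)), a * b = b * a := by
    intro a ha b hb
    exact Subtype.ext (hab (a : G) ha (b : G) hb)
  have hiso : ∀ α β : ↥(Subgroup.normalizer (P : Set G)) → ℂ,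
      Cfsg.IsClassFunction ↥(Subgroup.normalizer (P : Set G)) α →
      Cfsg.IsClassFunction ↥(Subgroup.normalizer (P : Set G)) β →
      (∀ x : ↥(Subgroup.normalizer (P : Set G)),
        x ∉ P.subgroupOf (Subgroup.normalizer (P : Set G)) → α x = 0) →
      (∀ x : ↥(Subgroup.normalizer (P : Set G)),
        x ∉ P.subgroupOf (Subgroup.normalizer (P : Set G)) → β x = 0) → α 1 = 0 →
      Cfsg.classInner (Cfsg.indFun (Subgroup.normalizer (P : Set G)) α)
        (Cfsg.indFun (Subgroup.normalizer (P : Set G)) β) = Cfsg.classInner α β := by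
    intro α β hα hβ hαoff hβoff hα1
    exact Cfsg.Agent.Lib.Helper04.indFun_isometry_on_ti (P : Set G) hTI
      (fun x hx => Subgroup.le_normalizer hx) α β hα hβ (fun x hx => hαoff x hx)
      (fun x hx => hβoff x hx) hα1
  -- the number of relevant characters
  have hcr := card_rel (Subgroup.normalizer (P : Set G)) (P.subgroupOf (Subgroup.normalizer (P : Set G))) hC' hab'
  rw [hcardK, he] at hcr
  have hcr' : Nat.card (Rel (Subgroup.normalizer (P : Set G)) (P.subgroupOf (Subgroup.normalizer (P : Set G)))) * e + 1 = p := by exact_mod_cast hcr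
  have hcardR : (P.subgroupOf (Subgroup.normalizer (P : Set G))).index + 2 ≤ Nat.card (Rel (Subgroup.normalizer (P : Set G)) (P.subgroupOf (Subgroup.normalizer (P : Set G)))) := by
    rw [he]
    have h1 : e * (e + 2) ≤ Nat.card (Rel (Subgroup.normalizer (P : Set G)) (P.subgroupOf (Subgroup.normalizer (P : Set G)))) * e := by omega
    have h2 : (e + 2) * e ≤ Nat.card (Rel (Subgroup.normalizer (P : Set G)) (P.subgroupOf (Subgroup.normalizer (P : Set G)))) * e := by rw [mul_comm]; exact h1
    exact Nat.le_of_mul_le_mul_right h2 ((by omega))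
  have hne : Nonempty (Rel (Subgroup.normalizer (P : Set G)) (P.subgroupOf (Subgroup.normalizer (P : Set G)))) := by
    by_contra hcon
    rw [not_nonempty_iff] at hcon
    have : Nat.card (Rel (Subgroup.normalizer (P : Set G)) (P.subgroupOf (Subgroup.normalizer (P : Set G)))) = 0 := Nat.card_of_isEmpty
    omega
  obtain ⟨a⟩ := hne
  obtain ⟨z, hz⟩ := exists_int_coeff (alph_isGeneralizedCharacter (Subgroup.normalizer (P : Set G)) (P.subgroupOf (Subgroup.normalizer (P : Set G))) a)
  obtain ⟨ε', hε', hza, hzξ⟩ :=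
    exc_coeff (Subgroup.normalizer (P : Set G)) (P.subgroupOf (Subgroup.normalizer (P : Set G))) hC' hab' hiso ε f hε hf hfε a z hz hperf hcardR
  refine ⟨ε', f a, z, hε', coeff_triv (Subgroup.normalizer (P : Set G)) (P.subgroupOf (Subgroup.normalizer (P : Set G))) hC' a z hz, hza, ?_, ?_,
    sum_coeff_degree (Subgroup.normalizer (P : Set G)) (P.subgroupOf (Subgroup.normalizer (P : Set G))) hC' hab' a z hz, ?_⟩
  · exact triv_notMem_range (Subgroup.normalizer (P : Set G)) (P.subgroupOf (Subgroup.normalizer (P : Set G))) hC' hab' ε f hε hf hfε hperf (by omega) a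
  · have := sum_sq_coeff (Subgroup.normalizer (P : Set G)) (P.subgroupOf (Subgroup.normalizer (P : Set G))) hC' hab' hiso a z hz
    rw [he] at this
    exact this
  · intro ψ hψΛ hzψ
    have hψ : ∀ χ, f χ ≠ ψ := by
      intro χ hχ
      by_cases hχa : χ = a
      · exact hψΛ (by rw [← hχ, hχa])
      · exact hzψ (by rw [← hχ]; exact hzξ χ hχa)
    have := degree_congr (Subgroup.normalizer (P : Set G)) (P.subgroupOf (Subgroup.normalizer (P : Set G))) hC' hab' ε f hε hfε a z hz ψ hψ
    rw [hcardK] at this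
    exact this

end Cfsg.Agent.Lib.Helper23.Exceptional
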