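import Mathlib
import Cfsg.Agent.Lib.Helper23.ExceptionalMain
import Cfsg.Agent.Lib.Helper20.LinExt
import Cfsg.Agent.Lib.Helper05.CharDegree

/-!
# The degree equation of Brauer–Suzuki type in a simple group

For a non-abelian simple group `G` with a self-centralizing Sylow `p`-subgroup `P` of order `p`,
`e = [N_G(P) : P]` and `e (e + 2) ≤ p - 1`: arithmetic consequences of the decomposition of
`(1_P - λ)^G`, in the form used to exclude orders of simple groups.
-/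

set_option autoImplicit false
set_option linter.unusedSectionVars false
set_option linter.style.haveILetI false

namespace Cfsg.Agent.Lib.Helper23.Exceptional

open Cfsg

/-- In a non-abelian simple group the only irreducible character of degree one is the principal
character. -/
theorem linear_trivial_of_simple {G : Type*} [Group G] [Finite G] [IsSimpleGroup G]
    (hnc : ¬ IsMulCommutative G) (ψ : IrrCharacter G) (h1 : (ψ : G → ℂ) 1 = 1) :
    ψ = Cfsg.Agent.Lib.Helper83.trivChar G := by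
  obtain ⟨φ, hφ⟩ := Cfsg.Agent.Lib.Helper20.exists_hom_of_linear
    (Cfsg.Agent.Lib.Helper83.IrrCharacter_isCharacter ψ) h1
  have hn : φ.ker.Normal := MonoidHom.normal_ker _
  rcases hn.eq_bot_or_eq_top with h | h
  · exfalso
    apply hnc
    refine ⟨⟨fun a b => ?_⟩⟩
    apply (MonoidHom.ker_eq_bot_iff φ).mp h
    rw [map_mul, map_mul, mul_comm]
  · apply Subtype.ext
    funext g
    have hg : g ∈ φ.ker := by rw [h]; trivial
    rw [MonoidHom.mem_ker] at hg
    have : (ψ : G → ℂ) g = ((φ g : ℂˣ) : ℂ) := by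
      rw [← hφ]; rfl
    rw [this, hg]
    rfl

/-- The arithmetic form of the decomposition of `(1_P - λ)^G`. -/
theorem exceptional_simple.{u} {G : Type u} [Group G] [Finite G] [IsSimpleGroup G]
    (hnc : ¬ IsMulCommutative G) (p : ℕ) [Fact p.Prime] (P : Sylow p G)
    (hP : Nat.card (P : Subgroup G) = p)
    (hCP : Nat.card (Subgroup.centralizer ((P : Subgroup G) : Set G)) = p) (e : ℕ)
    (hN : Nat.card (Subgroup.normalizer ((P : Subgroup G) : Set G)) = p * e) (he1 : 1 < e)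
    (he2 : e * (e + 2) ≤ p - 1) :
    ∃ (ε' : ℤ) (dΛ : ℕ) (ι : Type u) (s : Finset ι) (z : ι → ℤ) (d : ι → ℕ),
      (ε' = 1 ∨ ε' = -1) ∧ 0 < dΛ ∧ dΛ ∣ Nat.card G ∧
      (∀ ψ ∈ s, z ψ ≠ 0 ∧ 1 < d ψ ∧ d ψ ∣ Nat.card G ∧ (d ψ : ℤ) ≡ z ψ [ZMOD p]) ∧
      ∑ ψ ∈ s, z ψ * z ψ = (e : ℤ) - 1 ∧
      1 + ∑ ψ ∈ s, z ψ * (d ψ : ℤ) = ε' * dΛ := by
  classical
  letI : Fintype G := Fintype.ofFinite G
  haveI : Finite (IrrCharacter G) := Cfsg.Agent.Lib.Helper05.finite_irrCharacter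
  letI : Fintype (IrrCharacter G) := Fintype.ofFinite _
  have hp : p.Prime := Fact.out
  -- `P` is self-centralizing
  have hcyc : IsCyclic (P : Subgroup G) := isCyclic_of_prime_card hP
  have hPle : (P : Subgroup G) ≤ Subgroup.centralizer ((P : Subgroup G) : Set G) := by
    intro x hx
    rw [Subgroup.mem_centralizer_iff]
    intro y hy
    have := (IsCyclic.isMulCommutative (α := ↥(P : Subgroup G))).is_comm.comm ⟨y, hy⟩ ⟨x, hx⟩
    exact congrArg Subtype.val this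
  have hCPeq : Subgroup.centralizer ((P : Subgroup G) : Set G) = (P : Subgroup G) :=
    (Subgroup.eq_of_le_of_card_ge hPle (by rw [hP, hCP])).symm
  -- the index of `P` in its normalizer
  have he : ((P : Subgroup G).subgroupOf
      (Subgroup.normalizer ((P : Subgroup G) : Set G))).index = e := by
    have h1 := Subgroup.relIndex_mul_relIndex ⊥ (P : Subgroup G)
      (Subgroup.normalizer ((P : Subgroup G) : Set G)) bot_le Subgroup.le_normalizer
    rw [Subgroup.relIndex_bot_left, Subgroup.relIndex_bot_left, hP, hN] at h1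
    rw [← Subgroup.relIndex]
    have hp0 : 0 < p := hp.pos
    exact Nat.eq_of_mul_eq_mul_left hp0 h1
  obtain ⟨ε', Λ, z, hε', hz1, hzΛ, hΛ1, hsq, hdeg, hcong⟩ :=
    exists_exceptional (P : Subgroup G) p hp hP hCPeq e he he2 he1
      (linear_trivial_of_simple hnc)
  -- degrees as natural numbers
  have hd : ∀ ψ : IrrCharacter G, ∃ d : ℕ, 0 < d ∧ (ψ : G → ℂ) 1 = d ∧ d ∣ Nat.card G :=
    fun ψ => Cfsg.Agent.Lib.Helper05.exists_degree_dvd ψ.2
  choose d hd0 hd1 hddvd using hd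
  set triv := Cfsg.Agent.Lib.Helper83.trivChar G with htriv
  have hdtriv : d triv = 1 := by
    have h := hd1 triv
    have h2 : (triv : G → ℂ) 1 = 1 := rfl
    rw [h2] at h
    exact_mod_cast h.symm
  set s : Finset (IrrCharacter G) :=
    ((Finset.univ.erase triv).erase Λ).filter (fun ψ => z ψ ≠ 0) with hs
  refine ⟨ε', d Λ, IrrCharacter G, s, z, d, hε', hd0 Λ, hddvd Λ, ?_, ?_, ?_⟩
  · intro ψ hψ
    rw [hs, Finset.mem_filter, Finset.mem_erase, Finset.mem_erase] at hψ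
    obtain ⟨⟨hψΛ, hψ1, -⟩, hzψ⟩ := hψ
    refine ⟨hzψ, ?_, hddvd ψ, ?_⟩
    · have h0 := hd0 ψ
      by_contra hle
      have h1 : d ψ = 1 := by omega
      apply hψ1
      apply linear_trivial_of_simple hnc
      rw [hd1 ψ, h1]
      simp
    · obtain ⟨b, hb⟩ := hcong ψ hψΛ hzψ
      rw [hd1 ψ] at hb
      have hb' : (d ψ : ℤ) = (p : ℤ) * b + z ψ := by exact_mod_cast hb
      rw [hb']
      show ((p : ℤ) * b + z ψ) % (p : ℤ) = z ψ % (p : ℤ)
      rw [add_comm, Int.add_mul_emod_self_left]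
  · -- the sum of squares
    have hΛmem : Λ ∈ Finset.univ.erase triv := Finset.mem_erase.mpr ⟨hΛ1, Finset.mem_univ _⟩
    have h1 : ∑ ψ ∈ s, z ψ * z ψ = ∑ ψ ∈ (Finset.univ.erase triv).erase Λ, z ψ * z ψ := by
      rw [hs, Finset.sum_filter]
      apply Finset.sum_congr rfl
      intro ψ _
      by_cases h : z ψ = 0
      · simp [h]
      · simp [h]
    rw [h1]
    have h2 := Finset.add_sum_erase (Finset.univ.erase triv) (fun ψ => z ψ * z ψ) hΛmem
    have h3 := Finset.add_sum_erase Finset.univ (fun ψ => z ψ * z ψ) (Finset.mem_univ triv)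
    rw [hsq] at h3
    rw [hz1] at h3
    rw [hzΛ] at h2
    have hε2 : -ε' * -ε' = 1 := by rcases hε' with h | h <;> rw [h] <;> norm_num
    rw [hε2] at h2
    linarith
  · -- the degree equation
    have hdeg' : ∑ ψ : IrrCharacter G, z ψ * (d ψ : ℤ) = 0 := by
      have : ((∑ ψ : IrrCharacter G, z ψ * (d ψ : ℤ) : ℤ) : ℂ) = 0 := by
        push_cast
        rw [← hdeg]
        apply Finset.sum_congr rfl
        intro ψ _
        rw [hd1 ψ]
      exact_mod_cast this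
    have hΛmem : Λ ∈ Finset.univ.erase triv := Finset.mem_erase.mpr ⟨hΛ1, Finset.mem_univ _⟩
    have h1 : ∑ ψ ∈ s, z ψ * (d ψ : ℤ)
        = ∑ ψ ∈ (Finset.univ.erase triv).erase Λ, z ψ * (d ψ : ℤ) := by
      rw [hs, Finset.sum_filter]
      apply Finset.sum_congr rfl
      intro ψ _
      by_cases h : z ψ = 0
      · simp [h]
      · simp [h]
    rw [h1]
    have h2 := Finset.add_sum_erase (Finset.univ.erase triv) (fun ψ => z ψ * (d ψ : ℤ)) hΛmem
    have h3 := Finset.add_sum_erase Finset.univ (fun ψ => z ψ * (d ψ : ℤ)) (Finset.mem_univ triv)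
    rw [hdeg', hz1, hdtriv] at h3
    rw [hzΛ] at h2
    push_cast at h3
    linarith

/-- nonzero integers whose squares sum to `1` -/
theorem sum_sq_eq_one {ι : Type*} [DecidableEq ι] (s : Finset ι) (z : ι → ℤ)
    (hz : ∀ i ∈ s, z i ≠ 0) (h : ∑ i ∈ s, z i * z i = 1) :
    ∃ i, s = {i} ∧ (z i = 1 ∨ z i = -1) := by
  have hne : s.Nonempty := by
    by_contra hcon
    rw [Finset.not_nonempty_iff_eq_empty] at hcon
    rw [hcon, Finset.sum_empty] at h
    exact zero_ne_one h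
  obtain ⟨i, hi⟩ := hne
  have h1 := Finset.add_sum_erase s (fun i => z i * z i) hi
  rw [h] at h1
  have hnn : 0 ≤ ∑ j ∈ s.erase i, z j * z j := Finset.sum_nonneg (fun j _ => mul_self_nonneg _)
  have hpos : 1 ≤ z i * z i := by
    have := mul_self_pos.mpr (hz i hi)
    omega
  have hzi : z i * z i = 1 := by linarith
  have hrest : ∑ j ∈ s.erase i, z j * z j = 0 := by linarith
  have hempty : s.erase i = ∅ := by
    by_contra hcon
    obtain ⟨j, hj⟩ := Finset.nonempty_iff_ne_empty.mpr hcon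
    have h2 := (Finset.sum_eq_zero_iff_of_nonneg (fun j _ => mul_self_nonneg (z j))).mp hrest j hj
    exact hz j (Finset.mem_of_mem_erase hj) (mul_self_eq_zero.mp h2)
  refine ⟨i, ?_, ?_⟩
  · rw [← Finset.insert_erase hi, hempty]
    rfl
  · have : (z i - 1) * (z i + 1) = 0 := by linarith
    rcases mul_eq_zero.mp this with h' | h'
    · left; linarith
    · right; linarith

/-- nonzero integers whose squares sum to `2` -/
theorem sum_sq_eq_two {ι : Type*} [DecidableEq ι] (s : Finset ι) (z : ι → ℤ)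
    (hz : ∀ i ∈ s, z i ≠ 0) (h : ∑ i ∈ s, z i * z i = 2) :
    ∃ i j, i ≠ j ∧ s = {i, j} ∧ (z i = 1 ∨ z i = -1) ∧ (z j = 1 ∨ z j = -1) := by
  have hne : s.Nonempty := by
    by_contra hcon
    rw [Finset.not_nonempty_iff_eq_empty] at hcon
    rw [hcon, Finset.sum_empty] at h
    norm_num at h
  obtain ⟨i, hi⟩ := hne
  have h1 := Finset.add_sum_erase s (fun i => z i * z i) hi
  rw [h] at h1
  have hnn : 0 ≤ ∑ j ∈ s.erase i, z j * z j := Finset.sum_nonneg (fun j _ => mul_self_nonneg _)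
  have hpos : 1 ≤ z i * z i := by
    have := mul_self_pos.mpr (hz i hi)
    omega
  have hzi : z i = 1 ∨ z i = -1 := by
    have hle : z i * z i ≤ 2 := by linarith
    have h3 : -1 ≤ z i ∧ z i ≤ 1 := by
      constructor <;> nlinarith
    have h0 := hz i hi
    omega
  have hzi2 : z i * z i = 1 := by rcases hzi with h' | h' <;> rw [h'] <;> norm_num
  have hrest : ∑ j ∈ s.erase i, z j * z j = 1 := by linarith
  obtain ⟨j, hj, hzj⟩ := sum_sq_eq_one (s.erase i) z
    (fun j hj => hz j (Finset.mem_of_mem_erase hj)) hrest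
  have hjmem : j ∈ s.erase i := by rw [hj]; exact Finset.mem_singleton_self j
  refine ⟨i, j, (Finset.ne_of_mem_erase hjmem).symm, ?_, hzi, hzj⟩
  rw [← Finset.insert_erase hi, hj]

/-- The case `e = 2`: `1 + δ d = ε' dΛ` with `d ≡ δ (mod p)`. -/
theorem exceptional_two {G : Type*} [Group G] [Finite G] [IsSimpleGroup G]
    (hnc : ¬ IsMulCommutative G) (p : ℕ) [Fact p.Prime] (P : Sylow p G)
    (hP : Nat.card (P : Subgroup G) = p)
    (hCP : Nat.card (Subgroup.centralizer ((P : Subgroup G) : Set G)) = p)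
    (hN : Nat.card (Subgroup.normalizer ((P : Subgroup G) : Set G)) = p * 2)
    (he2 : 9 ≤ p) :
    ∃ (δ ε' : ℤ) (d dΛ : ℕ), (δ = 1 ∨ δ = -1) ∧ (ε' = 1 ∨ ε' = -1) ∧ 1 < d ∧
      d ∣ Nat.card G ∧ (d : ℤ) ≡ δ [ZMOD p] ∧ 0 < dΛ ∧ dΛ ∣ Nat.card G ∧
      1 + δ * (d : ℤ) = ε' * dΛ := by
  classical
  obtain ⟨ε', dΛ, ι, s, z, d, hε', hΛ0, hΛdvd, hs, hsq, hdeg⟩ :=
    exceptional_simple hnc p P hP hCP 2 hN (by norm_num) (by omega)
  have hsq' : ∑ ψ ∈ s, z ψ * z ψ = 1 := by rw [hsq]; norm_num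
  obtain ⟨i, hi, hzi⟩ := sum_sq_eq_one s z (fun ψ hψ => (hs ψ hψ).1) hsq'
  have himem : i ∈ s := by rw [hi]; exact Finset.mem_singleton_self i
  obtain ⟨-, hd1, hddvd, hdcong⟩ := hs i himem
  rw [hi, Finset.sum_singleton] at hdeg
  exact ⟨z i, ε', d i, dΛ, hzi, hε', hd1, hddvd, hdcong, hΛ0, hΛdvd, hdeg⟩

/-- The case `e = 3`: `1 + δ₁ d₁ + δ₂ d₂ = ε' dΛ` with `dᵢ ≡ δᵢ (mod p)`. -/
theorem exceptional_three {G : Type*} [Group G] [Finite G] [IsSimpleGroup G]
    (hnc : ¬ IsMulCommutative G) (p : ℕ) [Fact p.Prime] (P : Sylow p G)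
    (hP : Nat.card (P : Subgroup G) = p)
    (hCP : Nat.card (Subgroup.centralizer ((P : Subgroup G) : Set G)) = p)
    (hN : Nat.card (Subgroup.normalizer ((P : Subgroup G) : Set G)) = p * 3)
    (he2 : 16 ≤ p) :
    ∃ (δ₁ δ₂ ε' : ℤ) (d₁ d₂ dΛ : ℕ), (δ₁ = 1 ∨ δ₁ = -1) ∧ (δ₂ = 1 ∨ δ₂ = -1) ∧
      (ε' = 1 ∨ ε' = -1) ∧ 1 < d₁ ∧ d₁ ∣ Nat.card G ∧ (d₁ : ℤ) ≡ δ₁ [ZMOD p] ∧
      1 < d₂ ∧ d₂ ∣ Nat.card G ∧ (d₂ : ℤ) ≡ δ₂ [ZMOD p] ∧ 0 < dΛ ∧ dΛ ∣ Nat.card G ∧
      1 + δ₁ * (d₁ : ℤ) + δ₂ * (d₂ : ℤ) = ε' * dΛ := by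
  classical
  obtain ⟨ε', dΛ, ι, s, z, d, hε', hΛ0, hΛdvd, hs, hsq, hdeg⟩ :=
    exceptional_simple hnc p P hP hCP 3 hN (by norm_num) (by omega)
  have hsq' : ∑ ψ ∈ s, z ψ * z ψ = 2 := by rw [hsq]; norm_num
  obtain ⟨i, j, hij, hsij, hzi, hzj⟩ := sum_sq_eq_two s z (fun ψ hψ => (hs ψ hψ).1) hsq'
  have himem : i ∈ s := by rw [hsij]; exact Finset.mem_insert_self i _
  have hjmem : j ∈ s := by
    rw [hsij]; exact Finset.mem_insert_of_mem (Finset.mem_singleton_self j)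
  obtain ⟨-, hd1, hddvd, hdcong⟩ := hs i himem
  obtain ⟨-, hd1', hddvd', hdcong'⟩ := hs j hjmem
  rw [hsij, Finset.sum_insert (by simpa using hij), Finset.sum_singleton] at hdeg
  exact ⟨z i, z j, ε', d i, d j, dΛ, hzi, hzj, hε', hd1, hddvd, hdcong, hd1', hddvd', hdcong',
    hΛ0, hΛdvd, by linarith⟩

end Cfsg.Agent.Lib.Helper23.Exceptional
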