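import Mathlib
import Cfsg.Prelude.Def_GeometricClasses
import Cfsg.Agent.Lib.Helper61.AschDefs

/-!
# Shared lemmas for K-S5630-C2 / C3 (forms from a matrix; consequences of `spanAlg X = ⊤`)
-/

set_option autoImplicit false

namespace Cfsg.Agent.Lib.Helper23.Asch

open Cfsg Cfsg.Geo Cfsg.Agent.Lib.Helper61.Asch
open scoped Matrix MatrixGroups

variable {F : Type*} [Field F] {n : ℕ}

local notation "V" => (Fin n → F)
local notation "Mat" => Matrix (Fin n) (Fin n) F

/-- induction principle: a property of matrices holding on `X`, on scalars, and closed under `+` and `*`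
holds for all matrices when `spanAlg X = ⊤`. -/
theorem forall_mat_of_span (X : Subgroup (GL (Fin n) F)) (hX : spanAlg X = ⊤) (p : Mat → Prop)
    (hmem : ∀ x ∈ X, p ((x : GL (Fin n) F) : Mat))
    (halg : ∀ r : F, p (algebraMap F Mat r))
    (hadd : ∀ M N, p M → p N → p (M + N)) (hmul : ∀ M N, p M → p N → p (M * N)) :
    ∀ M : Mat, p M := by
  intro M
  have hM : M ∈ Algebra.adjoin F (matrixSet X) := by
    have : M ∈ spanAlg X := by rw [hX]; exact Algebra.mem_top
    exact this
  induction hM using Algebra.adjoin_induction with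
  | mem x hx =>
    obtain ⟨g, hg, rfl⟩ := hx
    exact hmem g hg
  | algebraMap r => exact halg r
  | add x y _ _ ihx ihy => exact hadd x y ihx ihy
  | mul x y _ _ ihx ihy => exact hmul x y ihx ihy

/-- a matrix commuting with `X` is a scalar. -/
theorem scalar_of_commute (X : Subgroup (GL (Fin n) F)) (hX : spanAlg X = ⊤) (D : Mat)
    (hD : ∀ x ∈ X, D * ((x : GL (Fin n) F) : Mat) = ((x : GL (Fin n) F) : Mat) * D) :
    ∃ c : F, D = c • (1 : Mat) := by
  have hall : ∀ M : Mat, D * M = M * D := by
    apply forall_mat_of_span X hX (fun M => D * M = M * D) hD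
    · intro r; exact (Algebra.commutes r D).symm
    · intro M N hM hN; rw [mul_add, add_mul, hM, hN]
    · intro M N hM hN; rw [← mul_assoc, hM, mul_assoc, hN, ← mul_assoc]
  have hcen : D ∈ Set.center Mat := by
    rw [Semigroup.mem_center_iff]
    intro g
    exact (hall g).symm
  rw [Matrix.center_eq_range] at hcen
  obtain ⟨c, hc⟩ := hcen
  refine ⟨c, ?_⟩
  rw [← hc, Matrix.scalar_apply, Matrix.smul_one_eq_diagonal]

/-- `X` acts irreducibly. -/
theorem irreducible_of_span (X : Subgroup (GL (Fin n) F)) (hX : spanAlg X = ⊤)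
    (W : Submodule F V) (hW : ∀ x ∈ X, ∀ v ∈ W, ((x : GL (Fin n) F) : Mat) *ᵥ v ∈ W) :
    W = ⊥ ∨ W = ⊤ := by
  have hall : ∀ M : Mat, ∀ v ∈ W, M *ᵥ v ∈ W := by
    apply forall_mat_of_span X hX (fun M => ∀ v ∈ W, M *ᵥ v ∈ W) hW
    · intro r v hv
      rw [Algebra.algebraMap_eq_smul_one, Matrix.smul_mulVec, Matrix.one_mulVec]
      exact W.smul_mem r hv
    · intro M N hM hN v hv
      rw [Matrix.add_mulVec]
      exact W.add_mem (hM v hv) (hN v hv)
    · intro M N hM hN v hv
      rw [← Matrix.mulVec_mulVec]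
      exact hM _ (hN v hv)
  by_cases hbot : W = ⊥
  · exact Or.inl hbot
  · right
    obtain ⟨w, hwW, hw0⟩ := (Submodule.ne_bot_iff W).mp hbot
    obtain ⟨i, hi⟩ : ∃ i, w i ≠ 0 := by
      by_contra hcon
      push Not at hcon
      exact hw0 (funext hcon)
    rw [eq_top_iff]
    intro v _
    -- the matrix `a b ↦ v a * u b` with `u = (w i)⁻¹ e_i`
    have key : (Matrix.of fun a b => v a * (Pi.single i (w i)⁻¹ : V) b) *ᵥ w = v := by
      funext a
      simp only [Matrix.mulVec, dotProduct, Matrix.of_apply]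
      rw [Finset.sum_eq_single i]
      · rw [Pi.single_eq_same, mul_assoc, inv_mul_cancel₀ hi, mul_one]
      · intro b _ hb
        rw [Pi.single_eq_of_ne hb, mul_zero, zero_mul]
      · intro h; exact absurd (Finset.mem_univ i) h
    rw [← key]
    exact hall _ w hwW

/-- `(x u) ⬝ w = u ⬝ (xᵀ w)`. -/
theorem dot_mulVec_left (x : Mat) (u w : V) : (x *ᵥ u) ⬝ᵥ w = u ⬝ᵥ (xᵀ *ᵥ w) := by
  rw [dotProduct_comm, Matrix.dotProduct_mulVec, dotProduct_comm, Matrix.mulVec_transpose]

/-- the bilinear form of a matrix. -/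
def formOf (B : Mat) (u v : V) : F := u ⬝ᵥ (B *ᵥ v)

theorem formOf_bilinear (B : Mat) : IsBilinearForm (formOf B) where
  add_left x y v := by simp only [formOf, add_dotProduct]
  smul_left c x v := by simp only [formOf, smul_dotProduct, smul_eq_mul]
  add_right v x y := by simp only [formOf, Matrix.mulVec_add, dotProduct_add]
  smul_right c v x := by simp only [formOf, Matrix.mulVec_smul, dotProduct_smul, smul_eq_mul]

theorem formOf_nondegenerate (B Binv : Mat) (h1 : B * Binv = 1) (h2 : Binv * B = 1) :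
    IsNondegenerateForm (formOf B) := by
  intro v hv
  constructor
  · -- `B v ≠ 0`
    have hBv : B *ᵥ v ≠ 0 := by
      intro h
      apply hv
      have : Binv *ᵥ (B *ᵥ v) = v := by rw [Matrix.mulVec_mulVec, h2, Matrix.one_mulVec]
      rw [← this, h, Matrix.mulVec_zero]
    by_contra hcon
    push Not at hcon
    apply hBv
    apply dotProduct_eq_zero
    intro w
    rw [dotProduct_comm]
    exact hcon w
  · have hvB : v ᵥ* B ≠ 0 := by
      intro h
      apply hv
      have : (v ᵥ* B) ᵥ* Binv = v := by rw [Matrix.vecMul_vecMul, h1, Matrix.vecMul_one]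
      rw [← this, h, Matrix.zero_vecMul]
    by_contra hcon
    push Not at hcon
    apply hvB
    apply dotProduct_eq_zero
    intro w
    have := hcon w
    rw [formOf, Matrix.dotProduct_mulVec] at this
    exact this

/-- `formOf B w v = formOf Bᵀ v w`. -/
theorem formOf_swap (B : Mat) (v w : V) : formOf B w v = formOf Bᵀ v w := by
  rw [formOf, formOf, dotProduct_comm, dot_mulVec_left]

end Cfsg.Agent.Lib.Helper23.Asch
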