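import Mathlib
import Cfsg.Prelude.Def_GeometricClasses
import Cfsg.Agent.Lib.Helper61.AschDefs
import Cfsg.Agent.Lib.Helper04.AschC1
import Cfsg.Agent.Lib.Helper23.AschForm

/-!
# K-S5630-C2 : an absolutely irreducible group with `tr x⁻¹ = tr x` fixes a symplectic or quadratic form
(keystone for S5630, architect helper61)
-/

set_option autoImplicit false

namespace Cfsg.Agent.Lib.Helper23.Asch

open Cfsg Cfsg.Geo Cfsg.Agent.Lib.Helper61.Asch
open scoped Matrix MatrixGroups

variable {F : Type*} [Field F] {n : ℕ}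

local notation "V" => (Fin n → F)
local notation "Mat" => Matrix (Fin n) (Fin n) F

/-- transpose-inverse as a group endomorphism of `GL`. -/
def tinv : GL (Fin n) F →* GL (Fin n) F :=
  MonoidHom.mk'
    (fun g => ⟨(((g⁻¹ : GL (Fin n) F)) : Mat)ᵀ, ((g : GL (Fin n) F) : Mat)ᵀ,
      by rw [← Matrix.transpose_mul, ← Units.val_mul, mul_inv_cancel, Units.val_one,
        Matrix.transpose_one],
      by rw [← Matrix.transpose_mul, ← Units.val_mul, inv_mul_cancel, Units.val_one,
        Matrix.transpose_one]⟩)
    (by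
      intro a b
      apply Units.ext
      show (((a * b)⁻¹ : GL (Fin n) F) : Mat)ᵀ =
        (((a⁻¹ : GL (Fin n) F)) : Mat)ᵀ * (((b⁻¹ : GL (Fin n) F)) : Mat)ᵀ
      rw [mul_inv_rev, Units.val_mul, Matrix.transpose_mul])

theorem tinv_val (g : GL (Fin n) F) :
    ((tinv g : GL (Fin n) F) : Mat) = (((g⁻¹ : GL (Fin n) F)) : Mat)ᵀ := rfl

/-- the transposes of the elements of `X` also span. -/
theorem adjoin_tinv_eq_top (X : Subgroup (GL (Fin n) F)) (hX : spanAlg X = ⊤) :
    Algebra.adjoin F (Set.range fun x : X => (((tinv.comp X.subtype) x : GL (Fin n) F) : Mat)) = ⊤ := by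
  set A₂ := Algebra.adjoin F
    (Set.range fun x : X => (((tinv.comp X.subtype) x : GL (Fin n) F) : Mat)) with hA₂
  have hall : ∀ M : Mat, Mᵀ ∈ A₂ := by
    apply forall_mat_of_span X hX (fun M => Mᵀ ∈ A₂)
    · intro x hx
      apply Algebra.subset_adjoin
      refine ⟨⟨x⁻¹, X.inv_mem hx⟩, ?_⟩
      show ((tinv (x⁻¹) : GL (Fin n) F) : Mat) = _
      rw [tinv_val, inv_inv]
    · intro r
      rw [Algebra.algebraMap_eq_smul_one, Matrix.transpose_smul, Matrix.transpose_one,
        ← Algebra.algebraMap_eq_smul_one]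
      exact A₂.algebraMap_mem r
    · intro M N hM hN
      rw [Matrix.transpose_add]
      exact A₂.add_mem hM hN
    · intro M N hM hN
      rw [Matrix.transpose_mul]
      exact A₂.mul_mem hN hM
  rw [eq_top_iff]
  intro M _
  have := hall Mᵀ
  rwa [Matrix.transpose_transpose] at this

variable [Fintype F]

/-- the basic output of C1: an invertible `B` with `xᵀ B x = B` on `X`, and `Bᵀ = c B`, `c² = 1`. -/
theorem exists_invariant_matrix (X : Subgroup (GL (Fin n) F)) (hn : 2 ≤ n) (hX : spanAlg X = ⊤)
    (htr : ∀ x ∈ X, Matrix.trace (((x⁻¹ : GL (Fin n) F)) : Mat) =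
      Matrix.trace ((x : GL (Fin n) F) : Mat)) :
    ∃ (B Binv : Mat) (c : F), B * Binv = 1 ∧ Binv * B = 1 ∧
      (∀ x ∈ X, ((x : GL (Fin n) F) : Mat)ᵀ * B * ((x : GL (Fin n) F) : Mat) = B) ∧
      Bᵀ = c • B ∧ c * c = 1 := by
  -- apply C1
  have h₁ : Algebra.adjoin F (Set.range fun x : X => ((X.subtype x : GL (Fin n) F) : Mat)) = ⊤ := by
    have hset : (Set.range fun x : X => ((X.subtype x : GL (Fin n) F) : Mat)) = matrixSet X := by
      ext M
      constructor
      · rintro ⟨x, rfl⟩
        exact ⟨x.1, x.2, rfl⟩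
      · rintro ⟨g, hg, rfl⟩
        exact ⟨⟨g, hg⟩, rfl⟩
    rw [hset]
    exact hX
  have h₂ := adjoin_tinv_eq_top X hX
  have htr' : ∀ x : X, Matrix.trace ((X.subtype x : GL (Fin n) F) : Mat) =
      Matrix.trace (((tinv.comp X.subtype) x : GL (Fin n) F) : Mat) := by
    intro x
    show _ = Matrix.trace ((tinv (x : GL (Fin n) F) : GL (Fin n) F) : Mat)
    rw [tinv_val, Matrix.trace_transpose, htr x.1 x.2]
    rfl
  obtain ⟨C, hC⟩ := Cfsg.Agent.Lib.Helper04.Asch.exists_conj_of_trace_eq X.subtype
    (tinv.comp X.subtype) h₁ h₂ htr'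
  set B : Mat := ((C : GL (Fin n) F) : Mat) with hB
  set Binv : Mat := ((C⁻¹ : GL (Fin n) F) : Mat) with hBinv
  have h1 : B * Binv = 1 := by rw [hB, hBinv, ← Units.val_mul, mul_inv_cancel, Units.val_one]
  have h2 : Binv * B = 1 := by rw [hB, hBinv, ← Units.val_mul, inv_mul_cancel, Units.val_one]
  -- the invariance relation
  have hinv : ∀ x ∈ X, ((x : GL (Fin n) F) : Mat)ᵀ * B * ((x : GL (Fin n) F) : Mat) = B := by
    intro x hx
    have hc := congrArg (fun g : GL (Fin n) F => (g : Mat)) (hC ⟨x, hx⟩)
    have hc' : B * ((x : GL (Fin n) F) : Mat) * Binv = (((x⁻¹ : GL (Fin n) F)) : Mat)ᵀ := hc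
    have hxx : ((x : GL (Fin n) F) : Mat)ᵀ * (((x⁻¹ : GL (Fin n) F)) : Mat)ᵀ = 1 := by
      rw [← Matrix.transpose_mul, ← Units.val_mul, inv_mul_cancel, Units.val_one,
        Matrix.transpose_one]
    calc ((x : GL (Fin n) F) : Mat)ᵀ * B * ((x : GL (Fin n) F) : Mat)
        = ((x : GL (Fin n) F) : Mat)ᵀ * (B * ((x : GL (Fin n) F) : Mat) * Binv) * B := by
          simp only [mul_assoc, h2, mul_one]
      _ = B := by rw [hc', hxx, one_mul]
  -- `D = B⁻¹ Bᵀ` commutes with `X`
  have hD : ∀ x ∈ X, (Binv * Bᵀ) * ((x : GL (Fin n) F) : Mat) =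
      ((x : GL (Fin n) F) : Mat) * (Binv * Bᵀ) := by
    intro x hx
    set xm : Mat := ((x : GL (Fin n) F) : Mat) with hxm
    set ym : Mat := (((x⁻¹ : GL (Fin n) F)) : Mat) with hym
    have hxy : xm * ym = 1 := by rw [hxm, hym, ← Units.val_mul, mul_inv_cancel, Units.val_one]
    have hyx' : ymᵀ * xmᵀ = 1 := by rw [← Matrix.transpose_mul, hxy, Matrix.transpose_one]
    have r1 : xmᵀ * B * xm = B := hinv x hx
    have r2 : xmᵀ * Bᵀ * xm = Bᵀ := by
      have := congrArg Matrix.transpose r1
      rw [Matrix.transpose_mul, Matrix.transpose_mul, Matrix.transpose_transpose] at this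
      rw [mul_assoc]
      exact this
    have hBx : B * xm = ymᵀ * B := by
      calc B * xm = (ymᵀ * xmᵀ) * B * xm := by rw [hyx', one_mul]
        _ = ymᵀ * (xmᵀ * B * xm) := by simp only [mul_assoc]
        _ = ymᵀ * B := by rw [r1]
    have hBtx : Bᵀ * xm = ymᵀ * Bᵀ := by
      calc Bᵀ * xm = (ymᵀ * xmᵀ) * Bᵀ * xm := by rw [hyx', one_mul]
        _ = ymᵀ * (xmᵀ * Bᵀ * xm) := by simp only [mul_assoc]
        _ = ymᵀ * Bᵀ := by rw [r2]
    have hxBinv : xm * Binv = Binv * ymᵀ := by
      calc xm * Binv = (Binv * B) * xm * Binv := by rw [h2, one_mul]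
        _ = Binv * (B * xm) * Binv := by simp only [mul_assoc]
        _ = Binv * (ymᵀ * B) * Binv := by rw [hBx]
        _ = Binv * ymᵀ * (B * Binv) := by simp only [mul_assoc]
        _ = Binv * ymᵀ := by rw [h1, mul_one]
    calc (Binv * Bᵀ) * xm = Binv * (Bᵀ * xm) := by rw [mul_assoc]
      _ = Binv * (ymᵀ * Bᵀ) := by rw [hBtx]
      _ = (Binv * ymᵀ) * Bᵀ := by rw [mul_assoc]
      _ = (xm * Binv) * Bᵀ := by rw [hxBinv]
      _ = xm * (Binv * Bᵀ) := by rw [mul_assoc]
  obtain ⟨c, hc⟩ := scalar_of_commute X hX _ hD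
  have hBt : Bᵀ = c • B := by
    calc Bᵀ = (B * Binv) * Bᵀ := by rw [h1, one_mul]
      _ = B * (Binv * Bᵀ) := by rw [mul_assoc]
      _ = B * (c • (1 : Mat)) := by rw [hc]
      _ = c • B := by rw [Matrix.mul_smul, mul_one]
  refine ⟨B, Binv, c, h1, h2, hinv, hBt, ?_⟩
  -- `c² = 1`
  have h3 : B = (c * c) • B := by
    have := congrArg Matrix.transpose hBt
    rw [Matrix.transpose_transpose, Matrix.transpose_smul, hBt, smul_smul] at this
    exact this
  have h4 : (1 : Mat) = (c * c) • (1 : Mat) := by
    calc (1 : Mat) = B * Binv := h1.symm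
      _ = ((c * c) • B) * Binv := by rw [← h3]
      _ = (c * c) • (1 : Mat) := by rw [Matrix.smul_mul, h1]
  have h5 := congrFun (congrFun h4 ⟨0, by omega⟩) ⟨0, by omega⟩
  simp at h5
  exact h5.symm

/-- **K-S5630-C2**. -/
theorem exists_form_of_trace_inv (X : Subgroup (GL (Fin n) F)) (hn : 2 ≤ n) (hX : spanAlg X = ⊤)
    (htr : ∀ x ∈ X, Matrix.trace (((x⁻¹ : GL (Fin n) F)) : Mat) =
      Matrix.trace ((x : GL (Fin n) F) : Mat)) :
    (∃ f : V → V → F, IsSymplecticForm f ∧ FixesForm (matrixSet X) f) ∨
    (Odd (Fintype.card F) ∧ ∃ Q : V → F, IsNondegenerateQuadraticForm Q ∧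
      FixesQuadForm (matrixSet X) Q) := by
  obtain ⟨B, Binv, c, h1, h2, hinv, hBt, hcc⟩ := exists_invariant_matrix X hn hX htr
  have hbil := formOf_bilinear B
  have hnd := formOf_nondegenerate B Binv h1 h2
  -- invariance
  have hfix : FixesForm (matrixSet X) (formOf B) := by
    rintro s ⟨x, hx, rfl⟩ u v
    show (((x : GL (Fin n) F) : Mat) *ᵥ u) ⬝ᵥ (B *ᵥ (((x : GL (Fin n) F) : Mat) *ᵥ v)) =
      u ⬝ᵥ (B *ᵥ v)
    rw [dot_mulVec_left, Matrix.mulVec_mulVec, Matrix.mulVec_mulVec, hinv x hx]
  -- symmetry up to `c`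
  have hsym : ∀ v w : V, formOf B w v = c * formOf B v w := by
    intro v w
    rw [formOf_swap, hBt]
    simp only [formOf, Matrix.smul_mulVec, dotProduct_smul, smul_eq_mul]
  by_cases h20 : (2 : F) = 0
  · -- characteristic two
    left
    have hc1 : c = 1 := by
      have : (c - 1) * (c - 1) = 0 := by
        have : (c - 1) * (c - 1) = c * c - 2 * c + 1 := by ring
        rw [this, hcc, h20]; ring_nf; rw [h20]
      have := mul_self_eq_zero.mp this
      exact sub_eq_zero.mp this
    have hsym' : ∀ v w : V, formOf B w v = formOf B v w := by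
      intro v w; rw [hsym, hc1, one_mul]
    have hxx : ∀ a : F, a + a = 0 := by
      intro a; rw [← two_mul, h20, zero_mul]
    -- `q v = f v v` is additive
    have hqadd : ∀ v w : V, formOf B (v + w) (v + w) = formOf B v v + formOf B w w := by
      intro v w
      rw [hbil.add_left, hbil.add_right, hbil.add_right, hsym' v w]
      have := hxx (formOf B v w)
      linear_combination this
    have hqsmul : ∀ (a : F) (v : V), formOf B (a • v) (a • v) = a * (a * formOf B v v) := by
      intro a v
      rw [hbil.smul_left, hbil.smul_right]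
    -- the subspace of isotropic vectors
    let W : Submodule F V :=
      { carrier := {v | formOf B v v = 0}
        add_mem' := by
          intro v w hv hw
          show formOf B (v + w) (v + w) = 0
          rw [hqadd, hv, hw, add_zero]
        zero_mem' := by
          show formOf B 0 0 = 0
          simp [formOf]
        smul_mem' := by
          intro a v hv
          show formOf B (a • v) (a • v) = 0
          rw [hqsmul, hv, mul_zero, mul_zero] }
    have hWinv : ∀ x ∈ X, ∀ v ∈ W, ((x : GL (Fin n) F) : Mat) *ᵥ v ∈ W := by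
      intro x hx v hv
      show formOf B _ _ = 0
      rw [hfix _ ⟨x, hx, rfl⟩]
      exact hv
    have hWtop : W = ⊤ := by
      rcases irreducible_of_span X hX W hWinv with hbot | htop
      · exfalso
        -- `q` is injective
        have hinj : Function.Injective (fun v : V => formOf B v v) := by
          intro v w hvw
          have hvw' : formOf B v v = formOf B w w := hvw
          have hmem : v + w ∈ W := by
            show formOf B (v + w) (v + w) = 0
            rw [hqadd, hvw']
            exact hxx _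
          rw [hbot, Submodule.mem_bot] at hmem
          have h3 : v = -w := eq_neg_of_add_eq_zero_left hmem
          have h4 : -w = w := by
            have : w + w = 0 := by
              funext i
              exact hxx (w i)
            exact neg_eq_of_add_eq_zero_left this
          rw [h3, h4]
        have hcard := Fintype.card_le_of_injective _ hinj
        rw [Fintype.card_fun, Fintype.card_fin] at hcard
        have hF : 2 ≤ Fintype.card F := Fintype.one_lt_card
        have : Fintype.card F ^ 2 ≤ Fintype.card F ^ n :=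
          Nat.pow_le_pow_right (by omega) hn
        nlinarith
      · exact htop
    have halt : ∀ v : V, formOf B v v = 0 := by
      intro v
      have : v ∈ W := by rw [hWtop]; exact Submodule.mem_top
      exact this
    refine ⟨formOf B, ⟨hbil, ?_, halt, hnd⟩, hfix⟩
    intro v w
    rw [hsym' w v]
    exact (neg_eq_of_add_eq_zero_left (hxx _)).symm
  · -- odd characteristic
    rcases mul_self_eq_one_iff.mp hcc with hc1 | hc1
    · -- symmetric: quadratic form
      right
      have hsym' : ∀ v w : V, formOf B w v = formOf B v w := by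
        intro v w; rw [hsym, hc1, one_mul]
      refine ⟨?_, fun v => formOf B v v * 2⁻¹, ?_, ?_⟩
      · rw [Nat.odd_iff]
        apply FiniteField.odd_card_of_char_ne_two
        intro hchar
        have : CharP F 2 := ringChar.of_eq hchar
        exact h20 (CharTwo.two_eq_zero)
      · have hpolar : QuadraticMap.polar (fun v : V => formOf B v v * 2⁻¹) = formOf B := by
          funext v w
          simp only [QuadraticMap.polar]
          rw [hbil.add_left, hbil.add_right, hbil.add_right, hsym' v w]
          field_simp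
          ring
        refine ⟨?_, ?_, ?_⟩
        · intro a v
          show formOf B (a • v) (a • v) * 2⁻¹ = a ^ 2 * (formOf B v v * 2⁻¹)
          rw [hbil.smul_left, hbil.smul_right]
          ring
        · rw [hpolar]; exact hbil
        · rw [hpolar]; exact hnd
      · rintro s hs v
        show formOf B (s *ᵥ v) (s *ᵥ v) * 2⁻¹ = formOf B v v * 2⁻¹
        rw [hfix s hs]
    · -- skew: symplectic
      left
      have hskew : ∀ v w : V, formOf B v w = - formOf B w v := by
        intro v w
        rw [hsym w v, hc1]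
        ring
      refine ⟨formOf B, ⟨hbil, hskew, ?_, hnd⟩, hfix⟩
      intro v
      have h3 := hskew v v
      have h4 : (2 : F) * formOf B v v = 0 := by linear_combination h3
      rcases mul_eq_zero.mp h4 with h | h
      · exact absurd h h20
      · exact h

end Cfsg.Agent.Lib.Helper23.Asch
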