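import Mathlib
import Cfsg.Prelude.Def_GeometricClasses
import Cfsg.Agent.Lib.Helper61.AschDefs
import Cfsg.Agent.Lib.Helper04.AschC1
import Cfsg.Agent.Lib.Helper23.AschForm
import Cfsg.Agent.Lib.Helper23.AschC2

/-!
# K-S5630-C3 : an absolutely irreducible group with `tr x⁻¹ = σ (tr x)` fixes a unitary form
(keystone for S5630, architect helper61)
-/

set_option autoImplicit false

namespace Cfsg.Agent.Lib.Helper23.Asch

open Cfsg Cfsg.Geo Cfsg.Agent.Lib.Helper61.Asch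
open scoped Matrix MatrixGroups

variable {F : Type*} [Field F] {n : ℕ}

local notation "V" => (Fin n → F)
local notation "Mat" => Matrix (Fin n) (Fin n) F

/-- entrywise application of `σ`. -/
def sm (σ : F ≃+* F) (M : Mat) : Mat := M.map σ

theorem sm_apply (σ : F ≃+* F) (M : Mat) (i j : Fin n) : sm σ M i j = σ (M i j) := rfl

theorem sm_mul (σ : F ≃+* F) (M N : Mat) : sm σ (M * N) = sm σ M * sm σ N := by
  ext i j
  simp [sm_apply, Matrix.mul_apply, map_sum]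

theorem sm_add (σ : F ≃+* F) (M N : Mat) : sm σ (M + N) = sm σ M + sm σ N := by
  ext i j
  simp [sm_apply]

theorem sm_one (σ : F ≃+* F) : sm σ (1 : Mat) = 1 := by
  ext i j
  by_cases h : i = j
  · subst h; simp [sm_apply]
  · simp [sm_apply, Matrix.one_apply_ne h]

theorem sm_smul (σ : F ≃+* F) (r : F) (M : Mat) : sm σ (r • M) = σ r • sm σ M := by
  ext i j
  simp [sm_apply]

theorem sm_transpose (σ : F ≃+* F) (M : Mat) : sm σ Mᵀ = (sm σ M)ᵀ := rfl

theorem sm_sm (σ : F ≃+* F) (hσ2 : ∀ a, σ (σ a) = a) (M : Mat) : sm σ (sm σ M) = M := by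
  ext i j
  simp [sm_apply, hσ2]

theorem sm_mulVec (σ : F ≃+* F) (M : Mat) (v : V) :
    sm σ M *ᵥ (σ ∘ v) = σ ∘ (M *ᵥ v) := by
  funext i
  simp [sm_apply, Matrix.mulVec, dotProduct, map_sum]

theorem sm_dot (σ : F ≃+* F) (u v : V) : σ (u ⬝ᵥ v) = (σ ∘ u) ⬝ᵥ (σ ∘ v) := by
  simp [dotProduct, map_sum]

theorem sm_trace (σ : F ≃+* F) (M : Mat) : Matrix.trace (sm σ M) = σ (Matrix.trace M) := by
  simp [Matrix.trace, sm_apply, map_sum]

/-- `sm σ` as a monoid hom. -/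
def smHom (σ : F ≃+* F) : Mat →* Mat where
  toFun := sm σ
  map_one' := sm_one σ
  map_mul' := sm_mul σ

/-- `x ↦ (σ(x)⁻¹)ᵀ` on `GL`. -/
def tinvσ (σ : F ≃+* F) : GL (Fin n) F →* GL (Fin n) F := tinv.comp (Units.map (smHom σ))

theorem tinvσ_val (σ : F ≃+* F) (g : GL (Fin n) F) :
    ((tinvσ σ g : GL (Fin n) F) : Mat) = (sm σ (((g⁻¹ : GL (Fin n) F)) : Mat))ᵀ := by
  show ((tinv (Units.map (smHom σ) g) : GL (Fin n) F) : Mat) = _
  rw [tinv_val, ← map_inv]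
  rfl

theorem adjoin_tinvσ_eq_top (X : Subgroup (GL (Fin n) F)) (hX : spanAlg X = ⊤) (σ : F ≃+* F)
    (hσ2 : ∀ a, σ (σ a) = a) :
    Algebra.adjoin F
      (Set.range fun x : X => ((((tinvσ σ).comp X.subtype) x : GL (Fin n) F) : Mat)) = ⊤ := by
  set A₂ := Algebra.adjoin F
    (Set.range fun x : X => ((((tinvσ σ).comp X.subtype) x : GL (Fin n) F) : Mat)) with hA₂
  have hall : ∀ M : Mat, (sm σ M)ᵀ ∈ A₂ := by
    apply forall_mat_of_span X hX (fun M => (sm σ M)ᵀ ∈ A₂)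
    · intro x hx
      apply Algebra.subset_adjoin
      refine ⟨⟨x⁻¹, X.inv_mem hx⟩, ?_⟩
      show ((tinvσ σ (x⁻¹) : GL (Fin n) F) : Mat) = _
      rw [tinvσ_val, inv_inv]
    · intro r
      rw [Algebra.algebraMap_eq_smul_one, sm_smul, sm_one, Matrix.transpose_smul,
        Matrix.transpose_one, ← Algebra.algebraMap_eq_smul_one]
      exact A₂.algebraMap_mem _
    · intro M N hM hN
      rw [sm_add, Matrix.transpose_add]
      exact A₂.add_mem hM hN
    · intro M N hM hN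
      rw [sm_mul, Matrix.transpose_mul]
      exact A₂.mul_mem hN hM
  rw [eq_top_iff]
  intro M _
  have := hall (sm σ Mᵀ)
  rwa [sm_sm σ hσ2, Matrix.transpose_transpose] at this

variable [Fintype F]

/-- the matrix of the Hermitian form. -/
theorem exists_sesq_matrix (X : Subgroup (GL (Fin n) F)) (hn : 0 < n) (hX : spanAlg X = ⊤)
    (σ : F ≃+* F) (hσ : σ ≠ RingEquiv.refl F) (hσ2 : ∀ a, σ (σ a) = a)
    (htr : ∀ x ∈ X, Matrix.trace (((x⁻¹ : GL (Fin n) F)) : Mat) =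
      σ (Matrix.trace ((x : GL (Fin n) F) : Mat))) :
    ∃ (B Binv : Mat), B * Binv = 1 ∧ Binv * B = 1 ∧
      (∀ x ∈ X, ((x : GL (Fin n) F) : Mat)ᵀ * B * sm σ ((x : GL (Fin n) F) : Mat) = B) ∧
      (sm σ B)ᵀ = B := by
  -- apply C1
  have h₁ : Algebra.adjoin F (Set.range fun x : X => ((X.subtype x : GL (Fin n) F) : Mat)) = ⊤ := by
    have hset : (Set.range fun x : X => ((X.subtype x : GL (Fin n) F) : Mat)) = matrixSet X := by
      ext M
      constructor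
      · rintro ⟨x, rfl⟩
        exact ⟨x.1, x.2, rfl⟩
      · rintro ⟨g, hg, rfl⟩
        exact ⟨⟨g, hg⟩, rfl⟩
    rw [hset]
    exact hX
  have h₂ := adjoin_tinvσ_eq_top X hX σ hσ2
  have htr' : ∀ x : X, Matrix.trace ((X.subtype x : GL (Fin n) F) : Mat) =
      Matrix.trace ((((tinvσ σ).comp X.subtype) x : GL (Fin n) F) : Mat) := by
    intro x
    show _ = Matrix.trace ((tinvσ σ (x : GL (Fin n) F) : GL (Fin n) F) : Mat)
    rw [tinvσ_val, Matrix.trace_transpose, sm_trace, htr x.1 x.2, hσ2]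
    rfl
  obtain ⟨C, hC⟩ := Cfsg.Agent.Lib.Helper04.Asch.exists_conj_of_trace_eq X.subtype
    ((tinvσ σ).comp X.subtype) h₁ h₂ htr'
  set Cm : Mat := ((C : GL (Fin n) F) : Mat) with hCm
  set Cinv : Mat := ((C⁻¹ : GL (Fin n) F) : Mat) with hCinv
  have hC1 : Cm * Cinv = 1 := by rw [hCm, hCinv, ← Units.val_mul, mul_inv_cancel, Units.val_one]
  have hC2 : Cinv * Cm = 1 := by rw [hCm, hCinv, ← Units.val_mul, inv_mul_cancel, Units.val_one]
  -- relation for `Cm`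
  have hrel0 : ∀ x ∈ X, (sm σ ((x : GL (Fin n) F) : Mat))ᵀ * Cm * ((x : GL (Fin n) F) : Mat) = Cm := by
    intro x hx
    have hc := congrArg (fun g : GL (Fin n) F => (g : Mat)) (hC ⟨x, hx⟩)
    have hc' : Cm * ((x : GL (Fin n) F) : Mat) * Cinv =
        (sm σ (((x⁻¹ : GL (Fin n) F)) : Mat))ᵀ := by
      rw [← tinvσ_val]; exact hc
    have hxx : (sm σ ((x : GL (Fin n) F) : Mat))ᵀ * (sm σ (((x⁻¹ : GL (Fin n) F)) : Mat))ᵀ = 1 := by
      rw [← Matrix.transpose_mul, ← sm_mul, ← Units.val_mul, inv_mul_cancel, Units.val_one, sm_one,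
        Matrix.transpose_one]
    calc (sm σ ((x : GL (Fin n) F) : Mat))ᵀ * Cm * ((x : GL (Fin n) F) : Mat)
        = (sm σ ((x : GL (Fin n) F) : Mat))ᵀ * (Cm * ((x : GL (Fin n) F) : Mat) * Cinv) * Cm := by
          simp only [mul_assoc, hC2, mul_one]
      _ = Cm := by rw [hc', hxx, one_mul]
  -- `B₀ = σ(Cm)`
  set B₀ : Mat := sm σ Cm with hB₀
  set B₀inv : Mat := sm σ Cinv with hB₀inv
  have h1 : B₀ * B₀inv = 1 := by rw [hB₀, hB₀inv, ← sm_mul, hC1, sm_one]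
  have h2 : B₀inv * B₀ = 1 := by rw [hB₀, hB₀inv, ← sm_mul, hC2, sm_one]
  have hinv : ∀ x ∈ X, ((x : GL (Fin n) F) : Mat)ᵀ * B₀ * sm σ ((x : GL (Fin n) F) : Mat) = B₀ := by
    intro x hx
    have := congrArg (sm σ) (hrel0 x hx)
    rw [sm_mul, sm_mul, ← sm_transpose, sm_sm σ hσ2] at this
    exact this
  -- `B* = σ(B₀)ᵀ` satisfies the same relation
  set Bs : Mat := (sm σ B₀)ᵀ with hBs
  have hinvs : ∀ x ∈ X, ((x : GL (Fin n) F) : Mat)ᵀ * Bs * sm σ ((x : GL (Fin n) F) : Mat) = Bs := by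
    intro x hx
    have := congrArg (fun M => (sm σ M)ᵀ) (hinv x hx)
    simp only [sm_mul, Matrix.transpose_mul, sm_sm σ hσ2, ← sm_transpose,
      Matrix.transpose_transpose] at this
    rw [hBs, mul_assoc]
    exact this
  -- `D = B₀⁻¹ B*` commutes with `σ(X)`
  have hD : ∀ x ∈ X, (B₀inv * Bs) * sm σ ((x : GL (Fin n) F) : Mat) =
      sm σ ((x : GL (Fin n) F) : Mat) * (B₀inv * Bs) := by
    intro x hx
    set xm : Mat := ((x : GL (Fin n) F) : Mat) with hxm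
    set ym : Mat := (((x⁻¹ : GL (Fin n) F)) : Mat) with hym
    set xs : Mat := sm σ xm with hxs
    have hxy : xm * ym = 1 := by rw [hxm, hym, ← Units.val_mul, mul_inv_cancel, Units.val_one]
    have hyx' : ymᵀ * xmᵀ = 1 := by rw [← Matrix.transpose_mul, hxy, Matrix.transpose_one]
    have r1 : xmᵀ * B₀ * xs = B₀ := hinv x hx
    have r2 : xmᵀ * Bs * xs = Bs := hinvs x hx
    have hBx : B₀ * xs = ymᵀ * B₀ := by
      calc B₀ * xs = (ymᵀ * xmᵀ) * B₀ * xs := by rw [hyx', one_mul]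
        _ = ymᵀ * (xmᵀ * B₀ * xs) := by simp only [mul_assoc]
        _ = ymᵀ * B₀ := by rw [r1]
    have hBsx : Bs * xs = ymᵀ * Bs := by
      calc Bs * xs = (ymᵀ * xmᵀ) * Bs * xs := by rw [hyx', one_mul]
        _ = ymᵀ * (xmᵀ * Bs * xs) := by simp only [mul_assoc]
        _ = ymᵀ * Bs := by rw [r2]
    have hxBinv : xs * B₀inv = B₀inv * ymᵀ := by
      calc xs * B₀inv = (B₀inv * B₀) * xs * B₀inv := by rw [h2, one_mul]
        _ = B₀inv * (B₀ * xs) * B₀inv := by simp only [mul_assoc]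
        _ = B₀inv * (ymᵀ * B₀) * B₀inv := by rw [hBx]
        _ = B₀inv * ymᵀ * (B₀ * B₀inv) := by simp only [mul_assoc]
        _ = B₀inv * ymᵀ := by rw [h1, mul_one]
    calc (B₀inv * Bs) * xs = B₀inv * (Bs * xs) := by rw [mul_assoc]
      _ = B₀inv * (ymᵀ * Bs) := by rw [hBsx]
      _ = (B₀inv * ymᵀ) * Bs := by rw [mul_assoc]
      _ = (xs * B₀inv) * Bs := by rw [hxBinv]
      _ = xs * (B₀inv * Bs) := by rw [mul_assoc]
  -- so `σ(D)` commutes with `X`, hence is a scalar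
  have hD' : ∀ x ∈ X, sm σ (B₀inv * Bs) * ((x : GL (Fin n) F) : Mat) =
      ((x : GL (Fin n) F) : Mat) * sm σ (B₀inv * Bs) := by
    intro x hx
    calc sm σ (B₀inv * Bs) * ((x : GL (Fin n) F) : Mat)
        = sm σ (B₀inv * Bs) * sm σ (sm σ ((x : GL (Fin n) F) : Mat)) := by rw [sm_sm σ hσ2]
      _ = sm σ ((B₀inv * Bs) * sm σ ((x : GL (Fin n) F) : Mat)) := (sm_mul σ _ _).symm
      _ = sm σ (sm σ ((x : GL (Fin n) F) : Mat) * (B₀inv * Bs)) := by rw [hD x hx]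
      _ = sm σ (sm σ ((x : GL (Fin n) F) : Mat)) * sm σ (B₀inv * Bs) := sm_mul σ _ _
      _ = ((x : GL (Fin n) F) : Mat) * sm σ (B₀inv * Bs) := by rw [sm_sm σ hσ2]
  obtain ⟨c', hc'⟩ := scalar_of_commute X hX _ hD'
  have hDc : B₀inv * Bs = σ c' • (1 : Mat) := by
    have := congrArg (sm σ) hc'
    rw [sm_sm σ hσ2, sm_smul, sm_one] at this
    exact this
  obtain ⟨c, hc⟩ : ∃ c : F, c = σ c' := ⟨_, rfl⟩
  rw [← hc] at hDc
  have hBsc : Bs = c • B₀ := by
    calc Bs = (B₀ * B₀inv) * Bs := by rw [h1, one_mul]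
      _ = B₀ * (B₀inv * Bs) := by rw [mul_assoc]
      _ = B₀ * (c • (1 : Mat)) := by rw [hDc]
      _ = c • B₀ := by rw [Matrix.mul_smul, mul_one]
  -- `c σ(c) = 1`
  have hcc : c * σ c = 1 := by
    have h3 : (sm σ Bs)ᵀ = B₀ := by
      rw [hBs, ← sm_transpose, Matrix.transpose_transpose, sm_sm σ hσ2]
    have h4 : (sm σ Bs)ᵀ = (σ c * c) • B₀ := by
      rw [hBsc, sm_smul, Matrix.transpose_smul, ← hBs, hBsc, smul_smul]
    have h5 : B₀ = (σ c * c) • B₀ := by rw [← h4, h3]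
    have h6 : (1 : Mat) = (σ c * c) • (1 : Mat) := by
      calc (1 : Mat) = B₀ * B₀inv := h1.symm
        _ = ((σ c * c) • B₀) * B₀inv := by rw [← h5]
        _ = (σ c * c) • (1 : Mat) := by rw [Matrix.smul_mul, h1]
    have h7 := congrFun (congrFun h6 ⟨0, hn⟩) ⟨0, hn⟩
    simp at h7
    rw [mul_comm]
    exact h7.symm
  -- Hilbert 90
  obtain ⟨d, hd0, hd⟩ : ∃ d : F, d ≠ 0 ∧ c * σ d = d := by
    by_contra hcon
    push Not at hcon
    have hall : ∀ a : F, a + c * σ a = 0 := by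
      intro a
      by_contra ha
      apply hcon (a + c * σ a) ha
      rw [map_add, map_mul, hσ2, mul_add, ← mul_assoc, hcc, one_mul, add_comm]
    have hc1 : c = -1 := by
      have := hall 1
      rw [map_one, mul_one] at this
      linear_combination this
    apply hσ
    ext a
    have := hall a
    rw [hc1] at this
    show σ a = a
    linear_combination -this
  -- the rescaled matrix
  refine ⟨d • B₀, d⁻¹ • B₀inv, ?_, ?_, ?_, ?_⟩
  · rw [Matrix.smul_mul, Matrix.mul_smul, smul_smul, h1, mul_inv_cancel₀ hd0, one_smul]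
  · rw [Matrix.smul_mul, Matrix.mul_smul, smul_smul, h2, inv_mul_cancel₀ hd0, one_smul]
  · intro x hx
    rw [Matrix.mul_smul, Matrix.smul_mul, hinv x hx]
  · rw [sm_smul, Matrix.transpose_smul, ← hBs, hBsc, smul_smul, mul_comm, hd]

/-- **K-S5630-C3**. -/
theorem exists_unitary_of_trace_inv (X : Subgroup (GL (Fin n) F)) (hX : spanAlg X = ⊤) (σ : F ≃+* F)
    (hσ : σ ≠ RingEquiv.refl F) (hσ2 : ∀ a, σ (σ a) = a)
    (htr : ∀ x ∈ X, Matrix.trace (((x⁻¹ : GL (Fin n) F)) : Mat) =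
      σ (Matrix.trace ((x : GL (Fin n) F) : Mat))) :
    ∃ f : V → V → F, IsUnitaryForm σ f ∧ FixesForm (matrixSet X) f := by
  rcases Nat.eq_zero_or_pos n with hn0 | hn
  · subst hn0
    refine ⟨fun _ _ => 0, ⟨hσ, hσ2, ?_, ?_, ?_, ?_⟩, ?_⟩
    · intro x y v; simp
    · intro c x v; simp
    · intro v w; simp
    · intro v hv
      exact absurd (Subsingleton.elim v 0) hv
    · intro s _ u v; rfl
  obtain ⟨B, Binv, h1, h2, hinv, hherm⟩ := exists_sesq_matrix X hn hX σ hσ hσ2 htr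
  refine ⟨fun u v => u ⬝ᵥ (B *ᵥ (σ ∘ v)), ⟨hσ, hσ2, ?_, ?_, ?_, ?_⟩, ?_⟩
  · intro x y v
    show (x + y) ⬝ᵥ _ = _
    rw [add_dotProduct]
  · intro c x v
    show (c • x) ⬝ᵥ _ = _
    rw [smul_dotProduct, smul_eq_mul]
  · -- Hermitian
    intro v w
    show v ⬝ᵥ (B *ᵥ (σ ∘ w)) = σ (w ⬝ᵥ (B *ᵥ (σ ∘ v)))
    have hvv : σ ∘ (σ ∘ v) = v := by
      funext i; simp [hσ2]
    have hB' : Bᵀ = sm σ B := by
      have := congrArg Matrix.transpose hherm
      rw [Matrix.transpose_transpose] at this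
      exact this.symm
    calc v ⬝ᵥ (B *ᵥ (σ ∘ w)) = (B *ᵥ (σ ∘ w)) ⬝ᵥ v := dotProduct_comm _ _
      _ = (σ ∘ w) ⬝ᵥ (Bᵀ *ᵥ v) := dot_mulVec_left _ _ _
      _ = (σ ∘ w) ⬝ᵥ (sm σ B *ᵥ (σ ∘ (σ ∘ v))) := by rw [hB', hvv]
      _ = (σ ∘ w) ⬝ᵥ (σ ∘ (B *ᵥ (σ ∘ v))) := by rw [sm_mulVec]
      _ = σ (w ⬝ᵥ (B *ᵥ (σ ∘ v))) := (sm_dot σ _ _).symm
  · -- nondegenerate
    intro v hv
    have hσv : (σ ∘ v) ≠ 0 := by
      intro h
      apply hv
      funext i
      have := congrFun h i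
      simpa using this
    constructor
    · have hBv : B *ᵥ (σ ∘ v) ≠ 0 := by
        intro h
        apply hσv
        have : Binv *ᵥ (B *ᵥ (σ ∘ v)) = σ ∘ v := by
          rw [Matrix.mulVec_mulVec, h2, Matrix.one_mulVec]
        rw [← this, h, Matrix.mulVec_zero]
      by_contra hcon
      push Not at hcon
      apply hBv
      apply dotProduct_eq_zero
      intro w
      rw [dotProduct_comm]
      exact hcon w
    · have hvB : v ᵥ* B ≠ 0 := by
        intro h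
        apply hv
        have : (v ᵥ* B) ᵥ* Binv = v := by rw [Matrix.vecMul_vecMul, h1, Matrix.vecMul_one]
        rw [← this, h, Matrix.zero_vecMul]
      by_contra hcon
      push Not at hcon
      apply hvB
      apply dotProduct_eq_zero
      intro w
      have := hcon (σ ∘ w)
      have hww : σ ∘ (σ ∘ w) = w := by
        funext i; simp [hσ2]
      rw [hww, Matrix.dotProduct_mulVec] at this
      exact this
  · -- invariance
    rintro s ⟨x, hx, rfl⟩ u v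
    show (((x : GL (Fin n) F) : Mat) *ᵥ u) ⬝ᵥ (B *ᵥ (σ ∘ (((x : GL (Fin n) F) : Mat) *ᵥ v))) =
      u ⬝ᵥ (B *ᵥ (σ ∘ v))
    rw [← sm_mulVec, dot_mulVec_left, Matrix.mulVec_mulVec, Matrix.mulVec_mulVec, hinv x hx]

end Cfsg.Agent.Lib.Helper23.Asch
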