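import Mathlib
import Cfsg.Agent.Lib.Helper72.A4ODefs

/-!
# K-A4O-L5 (row 406805): involution centralizers in a group whose nonidentity elements have prime order
-/

set_option autoImplicit false

namespace Cfsg.Agent.Lib.Helper23.A4O

open Cfsg.Agent.Lib.Helper72.A4O

universe u

/-- every element commuting with the involution `t` squares to one. -/
theorem sq_eq_one_of_commute_involution {G : Type u} [Group G] [Finite G] (hep : EPO G) (t : G)
    (ht : orderOf t = 2) (y : G) (hc : Commute t y) : y * y = 1 := by
  by_cases hy1 : y = 1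
  · subst hy1; simp
  have hq : (orderOf y).Prime := hep y hy1
  by_cases hq2 : orderOf y = 2
  · have := pow_orderOf_eq_one y
    rw [hq2, pow_two] at this
    exact this
  exfalso
  -- orders coprime
  have hcop : (orderOf t).Coprime (orderOf y) := by
    rw [ht]
    exact (Nat.coprime_primes Nat.prime_two hq).2 (fun h => hq2 h.symm)
  have hord : orderOf (t * y) = orderOf t * orderOf y :=
    hc.orderOf_mul_eq_mul_orderOf_of_coprime hcop
  have hne : t * y ≠ 1 := by
    intro h
    rw [h, orderOf_one, ht] at hord
    have : 0 < orderOf y := hq.pos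
    omega
  have hpr : (orderOf (t * y)).Prime := hep _ hne
  rw [hord, ht] at hpr
  have h2 : (2 : ℕ) ∣ 2 * orderOf y := dvd_mul_right 2 _
  rcases (Nat.dvd_prime hpr).1 h2 with h | h
  · omega
  · have : 1 < orderOf y := hq.one_lt
    omega

theorem comm_centralizer_involution {G : Type u} [Group G] [Finite G] (hep : EPO G) (t : G)
    (ht : orderOf t = 2) : IsMulCommutative ↥(Subgroup.centralizer ({t} : Set G)) := by
  have hsq : ∀ y : ↥(Subgroup.centralizer ({t} : Set G)), y * y = 1 := by
    intro y
    have hy : (y : G) ∈ Subgroup.centralizer ({t} : Set G) := y.2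
    have hc : Commute t (y : G) := by
      have := (Subgroup.mem_centralizer_iff.1 hy) t (Set.mem_singleton t)
      exact this
    have := sq_eq_one_of_commute_involution hep t ht (y : G) hc
    exact Subtype.ext (by simpa using this)
  refine ⟨⟨fun a b => ?_⟩⟩
  have ha : a⁻¹ = a := inv_eq_of_mul_eq_one_left (hsq a)
  have hb : b⁻¹ = b := inv_eq_of_mul_eq_one_left (hsq b)
  have hab : (a * b)⁻¹ = a * b := inv_eq_of_mul_eq_one_left (hsq (a * b))
  calc a * b = (a * b)⁻¹ := hab.symm
    _ = b⁻¹ * a⁻¹ := mul_inv_rev a b
    _ = b * a := by rw [ha, hb]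

end Cfsg.Agent.Lib.Helper23.A4O
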