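import Mathlib
import Cfsg.Agent.Lib.Helper74.NPC
import Cfsg.Agent.Lib.Helper03.NormalPComplement

/-!
# Burnside's transfer theorem inside a subgroup, for an abelian Sylow subgroup
-/

namespace Cfsg.Agent.Lib.Helper23

/-- If `P` is an abelian Sylow `p`-subgroup of `G` contained in `Y`, and every element of `Y`
normalizing `P` lies in `P`, then `Y` has a normal `p`-complement. -/
theorem exists_isNPC_of_abelian {G : Type*} [Group G] [Finite G] {p : ℕ} [Fact p.Prime]
    (Y : Subgroup G) (P : Sylow p G) (hPY : (P : Subgroup G) ≤ Y)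
    (hab : ∀ a ∈ (P : Subgroup G), ∀ b ∈ (P : Subgroup G), a * b = b * a)
    (hfix : ∀ n ∈ Y, n ∈ Subgroup.normalizer ((P : Subgroup G) : Set G) →
      n ∈ (P : Subgroup G)) :
    ∃ L : Subgroup G, Cfsg.Agent.Lib.Helper74.IsNPC p L Y := by
  rw [← Cfsg.Agent.Lib.Helper74.hasNormalPComplement_iff_exists_isNPC]
  apply Cfsg.Agent.Lib.Helper03.hasNormalPComplement_of_normalizer_le_centralizer (P.subtype hPY)
  intro n hn
  have hnN : (n : G) ∈ Subgroup.normalizer ((P : Subgroup G) : Set G) := by
    replace hn : n ∈ Subgroup.normalizer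
      (((P.subtype hPY : Sylow p ↥Y) : Subgroup ↥Y) : Set ↥Y) := hn
    rw [Subgroup.mem_normalizer_iff] at hn ⊢
    intro y
    constructor
    · intro hy
      have := (hn ⟨y, hPY hy⟩).mp
        (by rw [Sylow.coe_subtype, Subgroup.mem_subgroupOf]; exact hy)
      rw [Sylow.coe_subtype, Subgroup.mem_subgroupOf] at this
      simpa using this
    · intro hy
      have hyY : y ∈ Y := by
        have : y = (n : G)⁻¹ * (n * y * (n : G)⁻¹) * n := by group
        rw [this]; exact mul_mem (mul_mem (inv_mem n.2) (hPY hy)) n.2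
      have := (hn ⟨y, hyY⟩).mpr
        (by rw [Sylow.coe_subtype, Subgroup.mem_subgroupOf]; simpa using hy)
      rw [Sylow.coe_subtype, Subgroup.mem_subgroupOf] at this
      exact this
  have hnP := hfix n n.2 hnN
  rw [Subgroup.mem_centralizer_iff]
  intro z hz
  have hzP : (z : G) ∈ (P : Subgroup G) := by
    replace hz : z ∈ ((P.subtype hPY : Sylow p ↥Y) : Subgroup ↥Y) := hz
    rw [Sylow.coe_subtype, Subgroup.mem_subgroupOf] at hz
    exact hz
  apply Subtype.ext
  rw [Subgroup.coe_mul, Subgroup.coe_mul]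
  exact hab z hzP n hnP

end Cfsg.Agent.Lib.Helper23
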