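import Mathlib
import Cfsg.Prelude.Def_GeometricClasses
import Cfsg.Agent.Lib.Helper61.AschDefs
import Cfsg.Agent.Lib.Helper61.AschUDefs
import Cfsg.Agent.Lib.Helper19.Unitary

/-!
# K-S5663-ADJ (keystone 261): `spanAlg N` is adjoint-closed for `N` inside the similarity group of the
Hermitian form.
-/

set_option autoImplicit false

namespace Cfsg.Agent.Lib.Helper23.AschU

open Cfsg Cfsg.Geo Cfsg.Agent.Lib.Helper61.Asch Cfsg.Agent.Lib.Helper61.AschU
open scoped Matrix Kronecker MatrixGroups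

variable {F : Type*} [Field F] [Fintype F] {n q : ℕ}

local notation "V" => (Fin n → F)
local notation "Mat" => Matrix (Fin n) (Fin n) F
local notation "Z" => scalars (Fin n) F
local notation "𝔥" => hermForm n F q
local notation "Δ" => similarityGroup (hermForm n F q)

/-- K-S5663-ADJ. -/
theorem isAdjointClosedFor_spanAlg (hF : Fintype.card F = q ^ 2) (N : Subgroup (GL (Fin n) F)) (hN : N ≤ Δ) :
    IsAdjointClosedFor 𝔥 (spanAlg N) := by
  intro k hk
  unfold spanAlg at hk ⊢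
  induction hk using Algebra.adjoin_induction with
  | mem x hx =>
    obtain ⟨g, hgN, rfl⟩ := hx
    obtain ⟨c, hc⟩ := hN hgN
    have hginv : ((g⁻¹ : GL (Fin n) F) : Mat) ∈ Algebra.adjoin F (matrixSet N) :=
      Algebra.subset_adjoin ⟨g⁻¹, N.inv_mem hgN, rfl⟩
    refine ⟨((c : F) ^ q) • ((g⁻¹ : GL (Fin n) F) : Mat), Subalgebra.smul_mem _ hginv _, ?_⟩
    intro u v
    have h1 := hc u (((g⁻¹ : GL (Fin n) F) : Mat) *ᵥ v)
    rw [Matrix.mulVec_mulVec, ← Units.val_mul, mul_inv_cancel, Units.val_one, Matrix.one_mulVec] at h1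
    rw [h1, Matrix.smul_mulVec, Cfsg.Agent.Lib.Helper19.hermForm_smul_right,
      Cfsg.Agent.Lib.Helper19.pow_q_pow_q hF]
  | algebraMap r =>
    refine ⟨algebraMap F Mat (r ^ q), Subalgebra.algebraMap_mem _ _, ?_⟩
    intro u v
    rw [Algebra.algebraMap_eq_smul_one, Algebra.algebraMap_eq_smul_one, Matrix.smul_mulVec,
      Matrix.smul_mulVec, Matrix.one_mulVec, Matrix.one_mulVec,
      Cfsg.Agent.Lib.Helper19.hermForm_smul_left, Cfsg.Agent.Lib.Helper19.hermForm_smul_right,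
      Cfsg.Agent.Lib.Helper19.pow_q_pow_q hF]
  | add x y _ _ hx hy =>
    obtain ⟨x', hx', hxa⟩ := hx
    obtain ⟨y', hy', hya⟩ := hy
    refine ⟨x' + y', Subalgebra.add_mem _ hx' hy', ?_⟩
    intro u v
    rw [Matrix.add_mulVec, Matrix.add_mulVec, Cfsg.Agent.Lib.Helper19.hermForm_add_left,
      Cfsg.Agent.Lib.Helper19.hermForm_add_right hF, hxa, hya]
  | mul x y _ _ hx hy =>
    obtain ⟨x', hx', hxa⟩ := hx
    obtain ⟨y', hy', hya⟩ := hy
    refine ⟨y' * x', Subalgebra.mul_mem _ hy' hx', ?_⟩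
    intro u v
    rw [← Matrix.mulVec_mulVec, hxa, hya, Matrix.mulVec_mulVec]

end Cfsg.Agent.Lib.Helper23.AschU
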