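import Mathlib
import Cfsg.Agent.S1448
import Cfsg.Agent.Lib.Helper58.BG1435P13c

/-!
# Pack K-1383 (S1383), leaf D: `card_eq_cube_of_pRankLE_two`
-/

set_option autoImplicit false

namespace Cfsg.Agent.Lib.Helper23.BG1383

open Cfsg
open scoped Pointwise commutatorElement

/-- if `A` conjugates `H` into itself elementwise then `A ≤ N(H)` -/
theorem d_le_normalizer {G : Type*} [Group G] {A H : Subgroup G}
    (h : ∀ x ∈ A, ∀ y ∈ H, x * y * x⁻¹ ∈ H) : A ≤ Subgroup.normalizer (H : Set G) := by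
  intro x hx
  rw [Subgroup.mem_normalizer_iff]
  intro y
  constructor
  · exact h x hx y
  · intro hy
    have := h x⁻¹ (A.inv_mem hx) _ hy
    simpa [mul_assoc] using this

/-- a subgroup of `P` that is commutative of exponent `p` has order at most `p ^ 2` -/
theorem d_card_le {G : Type*} [Group G] (p : ℕ) (P : Subgroup G) (hr : PRankLE p 2 P)
    (A : Subgroup G) (hAP : A ≤ P) (hAc : ∀ a ∈ A, ∀ b ∈ A, a * b = b * a)
    (hAe : ∀ a ∈ A, a ^ p = 1) : Nat.card A ≤ p ^ 2 := by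
  have h1 : IsMulCommutative ↥(A.subgroupOf P) :=
    ⟨⟨fun a b => Subtype.ext (Subtype.ext (hAc _ (Subgroup.mem_subgroupOf.1 a.2) _
      (Subgroup.mem_subgroupOf.1 b.2)))⟩⟩
  have h2 : ∀ a ∈ A.subgroupOf P, a ^ p = 1 := by
    intro a ha
    apply Subtype.ext
    rw [Subgroup.coe_pow]
    exact hAe _ (Subgroup.mem_subgroupOf.1 ha)
  have h3 := hr (A.subgroupOf P) h1 h2
  rwa [Nat.card_congr (Subgroup.subgroupOfEquivOfLe hAP).toEquiv] at h3

/-- K-1383-D -/
theorem card_eq_cube_of_pRankLE_two {G : Type*} [Group G] [Finite G] (p : ℕ) [Fact p.Prime] (hp : p ≠ 2)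
    (P K : Subgroup G) (hP : IsPGroup p P) (hPna : ¬ IsMulCommutative P) (hr : PRankLE p 2 P)
    (hKP : K ≤ Subgroup.normalizer (P : Set G)) (hcop : (Nat.card K).Coprime p)
    (hodd : Odd (Nat.card K)) (hPK : ⁅P, K⁆ = P)
    (hZ : Nat.card ↥(P ⊓ Subgroup.centralizer (K : Set G)) = p)
    (hZ' : P ⊓ Subgroup.centralizer (K : Set G) ≤ ⁅P, P⁆) :
    Nat.card P = p ^ 3 := by
  classical
  have hpp : p.Prime := Fact.out
  have hP1 : P ≠ ⊥ := by
    rintro rfl
    exact hPna ⟨⟨fun a b => Subsingleton.elim _ _⟩⟩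
  obtain ⟨h3p, hcase⟩ := Cfsg.Agent.S1448.result p hp P K hP hP1 hr hKP hcop hodd hPK
  rcases hcase with hab | ⟨R₁, R₂, hsup, hcomm, hR1na, hR1card, hR1exp, hR2cyc, hW⟩
  · exact absurd hab hPna
  have hR1P : R₁ ≤ P := hsup ▸ le_sup_left
  have hR2P : R₂ ≤ P := hsup ▸ le_sup_right
  -- `R₂` is commutative
  have hR2c : ∀ a ∈ R₂, ∀ b ∈ R₂, a * b = b * a := by
    intro a ha b hb
    let _ := IsCyclic.commGroup (α := ↥R₂)
    exact congrArg Subtype.val (mul_comm (⟨a, ha⟩ : ↥R₂) ⟨b, hb⟩)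
  -- `R₂` is central in `P`
  have hR2Z : ∀ b ∈ R₂, ∀ g ∈ P, b * g = g * b := by
    intro b hb g hg
    have hle : R₁ ⊔ R₂ ≤ Subgroup.centralizer ({b} : Set G) := by
      apply sup_le
      · intro a ha
        rw [Subgroup.mem_centralizer_iff]
        intro h hh
        rw [Set.mem_singleton_iff] at hh
        subst hh
        exact (hcomm a ha h hb).symm
      · intro a ha
        rw [Subgroup.mem_centralizer_iff]
        intro h hh
        rw [Set.mem_singleton_iff] at hh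
        subst hh
        exact hR2c h hb a ha
    rw [hsup] at hle
    have := hle hg
    rw [Subgroup.mem_centralizer_iff] at this
    exact this b rfl
  -- decomposition `P = R₁ R₂`
  have hR1N : R₁ ≤ Subgroup.normalizer (R₂ : Set G) := by
    apply d_le_normalizer
    intro a ha b hb
    have : a * b * a⁻¹ = b := by rw [hcomm a ha b hb, mul_inv_cancel_right]
    rw [this]; exact hb
  have hdec : ∀ x ∈ P, ∃ a ∈ R₁, ∃ b ∈ R₂, a * b = x := by
    intro x hx
    rw [← hsup, ← SetLike.mem_coe, Subgroup.coe_mul_of_left_le_normalizer_right R₁ R₂ hR1N] at hx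
    obtain ⟨a, ha, b, hb, hab⟩ := Set.mem_mul.1 hx
    exact ⟨a, ha, b, hb, hab⟩
  -- `[P, P] ≤ [R₁, R₁]`
  have hPP : ⁅P, P⁆ ≤ ⁅R₁, R₁⁆ := by
    rw [Subgroup.commutator_le]
    intro x hx y hy
    obtain ⟨a, ha, b, hb, rfl⟩ := hdec x hx
    obtain ⟨a', ha', b', hb', rfl⟩ := hdec y hy
    have e1 : a * b * (a' * b') = a * a' * (b * b') := by
      rw [mul_assoc a b, ← mul_assoc b a' b', hR2Z b hb a' (hR1P ha'), mul_assoc a' b b', mul_assoc]
    have e2 : a' * b' * (a * b) = a' * a * (b * b') := by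
      rw [mul_assoc a' b', ← mul_assoc b' a b, hR2Z b' hb' a (hR1P ha), mul_assoc a b' b,
        hR2c b' hb' b hb, mul_assoc]
    have e3 : (⁅(a * b : G), (a' * b' : G)⁆ : G) = (⁅a, a'⁆ : G) := by
      have : (⁅(a * b : G), (a' * b' : G)⁆ : G) = (a * b * (a' * b')) * (a' * b' * (a * b))⁻¹ := by
        rw [commutatorElement_def]; group
      rw [this, e1, e2, commutatorElement_def]; group
    rw [e3]
    exact Subgroup.commutator_mem_commutator ha ha'
  have hWR2 : ⁅R₁, R₁⁆ ≤ R₂ := by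
    rw [← hW, Subgroup.closure_le]
    intro x hx
    exact hx.1
  have hWR1 : ⁅R₁, R₁⁆ ≤ R₁ := by
    rw [Subgroup.commutator_le]
    intro x hx y hy
    rw [commutatorElement_def]
    exact R₁.mul_mem (R₁.mul_mem (R₁.mul_mem hx hy) (R₁.inv_mem hx)) (R₁.inv_mem hy)
  -- the centre of `P`
  set ZP : Subgroup G := P ⊓ Subgroup.centralizer (P : Set G) with hZPdef
  have hZPP : ZP ≤ P := inf_le_left
  have hZPc : ∀ a ∈ ZP, ∀ g ∈ P, g * a = a * g := by
    intro a ha g hg
    have : a ∈ Subgroup.centralizer (P : Set G) := ha.2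
    rw [Subgroup.mem_centralizer_iff] at this
    exact this g hg
  have hZPab : ∀ a ∈ ZP, ∀ b ∈ ZP, a * b = b * a := fun a ha b hb => hZPc b hb a ha.1
  have hR2ZP : R₂ ≤ ZP := by
    intro b hb
    refine ⟨hR2P hb, ?_⟩
    change b ∈ Subgroup.centralizer (P : Set G)
    rw [Subgroup.mem_centralizer_iff]
    intro g hg
    exact (hR2Z b hb g hg).symm
  have hKZP : K ≤ Subgroup.normalizer (ZP : Set G) := by
    apply d_le_normalizer
    intro k hk z hz
    have hkP := hKP hk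
    rw [Subgroup.mem_normalizer_iff] at hkP
    refine ⟨(hkP z).1 hz.1, ?_⟩
    change k * z * k⁻¹ ∈ Subgroup.centralizer (P : Set G)
    rw [Subgroup.mem_centralizer_iff]
    intro g hg
    -- `g' := k⁻¹ g k ∈ P`
    have hg' : k⁻¹ * g * k ∈ P := by
      have := (hkP (k⁻¹ * g * k)).2 (by simpa [mul_assoc] using hg)
      exact this
    have hc := hZPc z hz (k⁻¹ * g * k) hg'
    calc g * (k * z * k⁻¹) = k * ((k⁻¹ * g * k) * z) * k⁻¹ := by group
      _ = k * (z * (k⁻¹ * g * k)) * k⁻¹ := by rw [hc]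
      _ = k * z * k⁻¹ * g := by group
  set Z0 : Subgroup G := P ⊓ Subgroup.centralizer (K : Set G) with hZ0def
  have hZ0ZP : Z0 ≤ ZP := (hZ'.trans hPP).trans (hWR2.trans hR2ZP)
  have hZPpg : IsPGroup p ZP := hP.to_le hZPP
  -- `[ZP, K] = ⊥`
  have hcomZP : ⁅ZP, K⁆ ≤ ZP := by
    rw [Subgroup.commutator_le]
    intro z hz k hk
    have hkz := hKZP hk
    rw [Subgroup.mem_normalizer_iff] at hkz
    rw [commutatorElement_def]
    have : z * k * z⁻¹ * k⁻¹ = z * (k * z⁻¹ * k⁻¹) := by group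
    rw [this]
    exact ZP.mul_mem hz ((hkz z⁻¹).1 (ZP.inv_mem hz))
  have hbot : ⁅ZP, K⁆ = ⊥ := by
    by_contra hne
    have hpg : IsPGroup p ↥⁅ZP, K⁆ := hZPpg.to_le hcomZP
    obtain ⟨n, hn⟩ := IsPGroup.iff_card.1 hpg
    have hn0 : n ≠ 0 := by
      rintro rfl
      rw [pow_zero] at hn
      exact hne (Subgroup.card_eq_one.1 hn)
    have hdvd : p ∣ Nat.card ↥⁅ZP, K⁆ := by rw [hn]; exact dvd_pow_self p hn0
    obtain ⟨x, hx⟩ := exists_prime_orderOf_dvd_card' (G := ↥⁅ZP, K⁆) p hdvd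
    have hx1 : (x : G) ≠ 1 := by
      intro h
      have : x = 1 := Subtype.ext h
      rw [this, orderOf_one] at hx
      exact hpp.one_lt.ne hx
    have hxp : (x : G) ^ p = 1 := by
      have := pow_orderOf_eq_one x
      rw [hx] at this
      exact congrArg Subtype.val this
    have hxZP : (x : G) ∈ ZP := hcomZP x.2
    -- `x ∉ Z0`
    have hcopZP : (Nat.card K).Coprime (Nat.card ZP) := by
      obtain ⟨m, hm⟩ := IsPGroup.iff_card.1 hZPpg
      rw [hm]; exact Nat.Coprime.pow_right m hcop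
    have hdisj := Cfsg.Agent.Lib.Helper58.BG1435.cent_inf_comm_eq_bot_of_coprime ZP K hZPab hKZP hcopZP
    have hxZ0 : (x : G) ∉ Z0 := by
      intro h
      have : (x : G) ∈ ZP ⊓ Subgroup.centralizer (K : Set G) ⊓ ⁅ZP, K⁆ := ⟨⟨hxZP, h.2⟩, x.2⟩
      rw [hdisj] at this
      exact hx1 (Subgroup.mem_bot.1 this)
    -- the subgroup `E = Ω₁(ZP)`
    let E : Subgroup G :=
      { carrier := {z | z ∈ ZP ∧ z ^ p = 1}
        one_mem' := ⟨ZP.one_mem, one_pow p⟩
        mul_mem' := by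
          rintro a b ⟨ha, hap⟩ ⟨hb, hbp⟩
          refine ⟨ZP.mul_mem ha hb, ?_⟩
          have hc : Commute a b := hZPab a ha b hb
          rw [hc.mul_pow, hap, hbp, one_mul]
        inv_mem' := by
          rintro a ⟨ha, hap⟩
          exact ⟨ZP.inv_mem ha, by rw [inv_pow, hap, inv_one]⟩ }
    have hEmem : ∀ z, z ∈ E ↔ z ∈ ZP ∧ z ^ p = 1 := fun z => Iff.rfl
    have hEZP : E ≤ ZP := fun z hz => hz.1
    have hEP : E ≤ P := hEZP.trans hZPP
    have hEc : ∀ a ∈ E, ∀ b ∈ E, a * b = b * a := fun a ha b hb => hZPab a ha.1 b hb.1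
    have hEe : ∀ a ∈ E, a ^ p = 1 := fun a ha => ha.2
    have hEle : Nat.card E ≤ p ^ 2 := d_card_le p P hr E hEP hEc hEe
    have hZ0E : Z0 ≤ E := by
      intro z hz
      refine ⟨hZ0ZP hz, ?_⟩
      have := pow_card_eq_one' (G := ↥Z0) (x := ⟨z, hz⟩)
      rw [hZ] at this
      exact congrArg Subtype.val this
    have hxE : (x : G) ∈ E := ⟨hxZP, hxp⟩
    have hEpg : IsPGroup p E := hP.to_le hEP
    obtain ⟨k, hk⟩ := IsPGroup.iff_card.1 hEpg
    have hlt : Nat.card Z0 < Nat.card E := by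
      by_contra hnot
      have hge : Nat.card E ≤ Nat.card Z0 := not_lt.1 hnot
      have hEq : Z0 = E := Subgroup.eq_of_le_of_card_ge hZ0E hge
      exact hxZ0 (hEq ▸ hxE)
    have hk2 : 2 ≤ k := by
      by_contra hk2
      have hk1 : k ≤ 1 := by omega
      have h1 : p ^ k ≤ p ^ 1 := Nat.pow_le_pow_right hpp.pos hk1
      rw [pow_one] at h1
      rw [hZ, hk] at hlt
      omega
    have hEcard : Nat.card E = p ^ 2 := by
      apply le_antisymm hEle
      rw [hk]
      exact Nat.pow_le_pow_right hpp.pos hk2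
    -- every `y ∈ R₁` lies in `E`
    have hR1E : R₁ ≤ E := by
      intro y hy
      have hyp : y ^ p = 1 := by
        have := Monoid.pow_exponent_eq_one (⟨y, hy⟩ : ↥R₁)
        rw [hR1exp] at this
        exact congrArg Subtype.val this
      have hyP : y ∈ P := hR1P hy
      -- `A = ⟨E, y⟩`
      have hgen : ∀ a ∈ (E : Set G) ∪ {y}, ∀ b ∈ (E : Set G) ∪ {y}, a * b = b * a := by
        rintro a (ha | ha) b (hb | hb)
        · exact hEc a ha b hb
        · rw [Set.mem_singleton_iff] at hb; subst hb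
          exact (hZPc a ha.1 b hyP).symm
        · rw [Set.mem_singleton_iff] at ha; subst ha
          exact hZPc b hb.1 a hyP
        · rw [Set.mem_singleton_iff] at ha hb; subst ha; subst hb; rfl
      set A : Subgroup G := Subgroup.closure ((E : Set G) ∪ {y}) with hAdef
      have hAmc : IsMulCommutative ↥A := Subgroup.isMulCommutative_closure hgen
      have hAc : ∀ a ∈ A, ∀ b ∈ A, a * b = b * a := by
        intro a ha b hb
        exact congrArg Subtype.val (hAmc.is_comm.comm (⟨a, ha⟩ : ↥A) ⟨b, hb⟩)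
      have hAe : ∀ a ∈ A, a ^ p = 1 := by
        intro a ha
        induction ha using Subgroup.closure_induction with
        | mem z hz =>
          rcases hz with hz | hz
          · exact hz.2
          · rw [Set.mem_singleton_iff] at hz; subst hz; exact hyp
        | one => exact one_pow p
        | mul a b ha hb iha ihb =>
          have hc : Commute a b := hAc a ha b hb
          rw [hc.mul_pow, iha, ihb, one_mul]
        | inv a ha iha => rw [inv_pow, iha, inv_one]
      have hAP : A ≤ P := by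
        rw [hAdef, Subgroup.closure_le]
        rintro z (hz | hz)
        · exact hEP hz
        · rw [Set.mem_singleton_iff] at hz; subst hz; exact hyP
      have hAle : Nat.card A ≤ p ^ 2 := d_card_le p P hr A hAP hAc hAe
      have hEA : E ≤ A := by
        intro z hz
        exact Subgroup.subset_closure (Or.inl hz)
      have hEAeq : E = A := Subgroup.eq_of_le_of_card_ge hEA (by rw [hEcard]; exact hAle)
      rw [hEAeq]
      exact Subgroup.subset_closure (Or.inr rfl)
    -- so `R₁` is abelian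
    apply hR1na
    refine ⟨⟨fun a b => Subtype.ext ?_⟩⟩
    exact (hZPc a (hEZP (hR1E a.2)) b (hR1P b.2)).symm
  -- `ZP ≤ C(K)`, so `ZP ≤ Z0`
  have hZPK : ZP ≤ Subgroup.centralizer (K : Set G) :=
    Subgroup.commutator_eq_bot_iff_le_centralizer.1 hbot
  have hZPZ0 : ZP ≤ Z0 := le_inf hZPP hZPK
  -- `[R₁, R₁] = Z0`
  have hWne : ⁅R₁, R₁⁆ ≠ ⊥ := by
    intro h
    have hle := Subgroup.commutator_eq_bot_iff_le_centralizer.1 h
    apply hR1na
    refine ⟨⟨fun a b => Subtype.ext ?_⟩⟩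
    have := hle a.2
    rw [Subgroup.mem_centralizer_iff] at this
    exact (this b b.2).symm
  have hWZ0 : ⁅R₁, R₁⁆ ≤ Z0 := (hWR2.trans hR2ZP).trans hZPZ0
  have hWcard : Nat.card ↥⁅R₁, R₁⁆ = p := by
    have hd : Nat.card ↥⁅R₁, R₁⁆ ∣ p := hZ ▸ Subgroup.card_dvd_of_le hWZ0
    rcases (Nat.dvd_prime hpp).1 hd with h | h
    · exact absurd (Subgroup.card_eq_one.1 h) hWne
    · exact h
  have hWeq : ⁅R₁, R₁⁆ = Z0 := Subgroup.eq_of_le_of_card_ge hWZ0 (by rw [hWcard, hZ])
  have hR2R1 : R₂ ≤ R₁ := ((hR2ZP.trans hZPZ0).trans (le_of_eq hWeq.symm)).trans hWR1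
  have hPR1 : P = R₁ := by rw [← hsup]; exact sup_eq_left.2 hR2R1
  rw [hPR1, hR1card]

end Cfsg.Agent.Lib.Helper23.BG1383
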