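import Cfsg.Agent.Lib.Helper15.BG142Defs2
import Cfsg.Agent.Lib.Helper13.BG12B
import Cfsg.Agent.Lib.Helper31.FittingHall
import Cfsg.Agent.Lib.Helper31.Transitivity
import Cfsg.Agent.Lib.Helper71.BG11a
import Cfsg.Agent.Lib.Helper86.BG142D1
import Cfsg.Agent.Lib.Helper82.BG142D2
import Cfsg.Agent.Lib.Helper93.BG142D3
import Cfsg.Agent.Lib.Helper57.BG142D4
import Cfsg.Agent.S1350

set_option autoImplicit false
set_option linter.unusedSectionVars false
set_option linter.unusedVariables false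

/-!
# K-D5 (keystone 143031, S1430 pack, architect helper15): `ks_nonregular`

Assembly of the nonregular case `κ(M) ⊄ τ₁(M)` of BG 14.2 from Lemma D (`HD G`): `K = E` is a complement of `M_σ`,
`U = 1`.
-/

namespace Cfsg.Agent.Lib.Helper23.BG142

open Cfsg Cfsg.Agent.Lib.Helper55 Cfsg.Agent.Lib.Helper31.BG134 Cfsg.Agent.Lib.Helper15.BG139
  Cfsg.Agent.Lib.Helper15.BG142

variable {G : Type*} [Group G] [Finite G]

/-- a subgroup of prime order has a non-identity element -/
theorem exists_ne_one_of_card_prime {X : Subgroup G} (hX : (Nat.card X).Prime) : ∃ x ∈ X, x ≠ 1 := by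
  by_contra h
  push Not at h
  have : X = ⊥ := by
    rw [eq_bot_iff]
    intro x hx
    rw [Subgroup.mem_bot]
    exact h x hx
  rw [this, Subgroup.card_bot] at hX
  exact Nat.not_prime_one hX

/-- a Sylow `r`-subgroup is cyclic when `r` does not divide the order -/
theorem sylow_cyclic_of_not_dvd {E : Subgroup G} (r : ℕ) [Fact r.Prime] (R : Sylow r E)
    (hr : ¬ r ∣ Nat.card E) : IsCyclic (R : Subgroup E) := by
  have h1 : Nat.card (R : Subgroup E) = 1 := by
    rw [Sylow.card_eq_multiplicity, Nat.factorization_eq_zero_of_not_dvd hr, pow_zero]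
  have : Subsingleton (R : Subgroup E) := (Nat.card_eq_one_iff_unique.mp h1).1
  exact isCyclic_of_subsingleton

theorem ks_nonregular (hG : IsMinSimpleOddOrder G) (hD : HD G) {M K : Subgroup G} (hM : IsCoatom M)
    (hK : IsPiHallOf (kappa M) K M) (hK1 : K ≠ ⊥)
    (hκ : ¬ ∀ p : ℕ, p ∈ kappa M → p ∈ tau1 M) : ∃ E : Subgroup G, KS M K E := by
  have hHall := (Cfsg.Agent.S1350.result hG M hM).1
  have hKσ : ∀ p : ℕ, p.Prime → p ∣ Nat.card K → p ∉ sigma M := fun p hp hpd =>
    (hK.2.1 p hp hpd).2.2.1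
  obtain ⟨E, hE, hKE⟩ := Cfsg.Agent.Lib.Helper13.BG12.exists_complIn_ge hG hM hHall hK.1 hKσ
  obtain ⟨hD1, hD2, hD3⟩ := hD M E hM hE hκ
  have hKeq : K = E := Cfsg.Agent.Lib.Helper86.BG142.compl_eq_of_hall_kappa hE.1 hKE hK hD1
  subst hKeq
  have hMn : M ≤ Subgroup.normalizer (sigmaCore M : Set G) :=
    Cfsg.Agent.Lib.Helper31.le_normalizer_piCoreOf (sigma M) M
  -- primes of subgroups of `K`
  have hκX : ∀ X : Subgroup G, X ≤ K → (Nat.card X).Prime → Nat.card X ∈ kappa M := by
    intro X hX hXp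
    exact hK.2.1 _ hXp (Subgroup.card_dvd_of_le hX)
  -- `hpa`
  have hpa : ∀ k ∈ K, k ≠ 1 →
      sigmaCore M ⊓ Subgroup.centralizer ({k} : Set G) = KStar M K := by
    intro k hk hk1
    apply le_antisymm
    · exact le_inf inf_le_left (hD2 k hk hk1)
    · exact inf_le_inf le_rfl (Subgroup.centralizer_le (Set.singleton_subset_iff.mpr hk))
  -- the centralizer in `M_σ` of a subgroup of prime order
  have hCX : ∀ X : Subgroup G, X ≤ K → (Nat.card X).Prime → CP M X = KStar M K := by
    intro X hX hXp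
    obtain ⟨x, hx, hx1⟩ := exists_ne_one_of_card_prime hXp
    apply le_antisymm
    · rw [← hpa x (hX hx) hx1]
      exact inf_le_inf le_rfl (Subgroup.centralizer_le (Set.singleton_subset_iff.mpr hx))
    · exact inf_le_inf le_rfl (Subgroup.centralizer_le hX)
  refine ⟨K, ?_⟩
  refine
    { hE := hE
      hKE := le_rfl
      hK1 := hK1
      hfac := fun x hx => ⟨1, Subgroup.one_mem _, x, hx, (one_mul x).symm⟩
      hpa := hpa
      hKs := ?_
      h13 := ?_
      huniq := ?_
      hN := ?_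
      hNK := ?_
      hU := ?_ }
  · -- `KStar ≠ ⊥`
    have hcard : Nat.card K ≠ 1 := by
      intro h
      exact hK1 (Subgroup.card_eq_one.mp h)
    obtain ⟨p, hp, hpd⟩ := Nat.exists_prime_and_dvd hcard
    haveI : Fact p.Prime := ⟨hp⟩
    obtain ⟨x, hx⟩ := exists_prime_orderOf_dvd_card' (G := K) p hpd
    set P : Subgroup G := Subgroup.zpowers (x : G) with hP
    have hPK : P ≤ K := by
      rw [hP, Subgroup.zpowers_le]
      exact x.2
    have hPc : Nat.card P = p := by
      rw [hP, Nat.card_zpowers, Subgroup.orderOf_coe, hx]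
    have hpκ : p ∈ kappa M := hK.2.1 p hp hpd
    have h1 := (Cfsg.Agent.Lib.Helper57.BG142.kappa_facts hM hpκ).2.1 P (le_trans hPK hK.1) hPc
    rw [hCX P hPK (by rw [hPc]; exact hp)] at h1
    exact h1
  · intro X hX hXp
    exact (Cfsg.Agent.Lib.Helper57.BG142.kappa_facts hM (hκX X hX hXp)).1
  · apply Cfsg.Agent.Lib.Helper82.BG142.uniq_prime_sub_of_normal
    · intro r hr R
      by_cases hrd : r ∣ Nat.card K
      · have hrκ : r ∈ kappa M := hK.2.1 r hr.out hrd
        exact (Cfsg.Agent.Lib.Helper57.BG142.kappa_facts hM hrκ).2.2 K hK.1 R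
      · exact sylow_cyclic_of_not_dvd r R hrd
    · exact hD3
  · intro X hX hXp
    rw [Cfsg.Agent.Lib.Helper93.BG142.normalizer_inf_eq_of_normal hE hMn hX (hD3 X hX hXp)]
    have := hCX X hX hXp
    unfold CP at this
    rw [this]
  · rw [Cfsg.Agent.Lib.Helper93.BG142.normalizer_inf_eq_of_normal hE hMn le_rfl
      Subgroup.le_normalizer]
  · refine ⟨⊥, ?_, ⟨bot_le, ?_, ?_⟩, ?_, ?_⟩
    · exact ⟨⟨fun a b => Subsingleton.elim _ _⟩⟩
    · intro p hp hpd
      rw [Subgroup.card_bot] at hpd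
      exact absurd (Nat.dvd_one.mp hpd) hp.one_lt.ne'
    · intro p hp hpπ hpd
      rw [Subgroup.relIndex_bot_left] at hpd
      rw [← Cfsg.Agent.Lib.Helper31.IsComplIn.card_mul hE] at hpd
      rcases (Nat.Prime.dvd_mul hp).mp hpd with h | h
      · exact hpπ.2.1 (hD1 p hp h)
      · exact hpπ.2.2 (Cfsg.Agent.Lib.Helper71.BG11.sigmaCore_pi hG hM hp h)
    · intro k _
      rw [Subgroup.mem_normalizer_iff]
      intro h
      simp [Subgroup.mem_bot]
    · intro k _ _
      exact bot_inf_eq _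

end Cfsg.Agent.Lib.Helper23.BG142
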