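import Mathlib
import Cfsg.Agent.Lib.Helper16.BG1363Defs
import Cfsg.Agent.Lib.Helper55.Basic
import Cfsg.Agent.Lib.Helper55.Uniq2
import Cfsg.Agent.Lib.Helper03.FrobSub
import Cfsg.Agent.Lib.Helper71.BG11a
import Cfsg.Agent.Lib.Helper29.Sup

/-!
# Pack K-1435 (S1435), leaf P2: `frob_centralizes` (Frobenius-Wielandt)
-/

set_option autoImplicit false

namespace Cfsg.Agent.Lib.Helper23.BG1435

open Cfsg Subgroup Cfsg.Agent.Lib.Helper55 Cfsg.Agent.Lib.Helper11.BG14D
  Cfsg.Agent.Lib.Helper16.BG1363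

variable {G : Type*} [Group G] [Finite G]

/-- KEYSTONE 143504  K-1435-P2. -/
theorem frob_centralizes (hG : IsMinSimpleOddOrder G) {H K T : Subgroup G} (hH : IsCoatom H)
    (hKH : K ≤ H) (hp : (Nat.card K).Prime) (hpH : Nat.card K ∉ sigma H)
    (hfpf : sigmaCore H ⊓ centralizer (K : Set G) = ⊥)
    (hTH : T ≤ H) (hKT : K ≤ normalizer (T : Set G)) (hTnil : Group.IsNilpotent T)
    (hTcop : (Nat.card T).Coprime (Nat.card (sigmaCore H)))
    (hTK : ∀ x ∈ K, x ≠ 1 → T ⊓ centralizer ({x} : Set G) = ⊥) :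
    T ≤ centralizer (sigmaCore H : Set G) := by
  classical
  have hUn : ∀ e ∈ K, ∀ u ∈ T, e * u * e⁻¹ ∈ T := by
    intro e he u hu
    exact (Subgroup.mem_normalizer_iff.mp (hKT he) u).mp hu
  have hfpf' : ∀ e ∈ K, e ≠ 1 → ∀ u ∈ T, e * u = u * e → u = 1 := by
    intro e he he1 u hu hcomm
    have h1 : u ∈ T ⊓ centralizer ({e} : Set G) := by
      refine ⟨hu, ?_⟩
      show u ∈ centralizer ({e} : Set G)
      rw [Subgroup.mem_centralizer_iff]
      intro g hg
      rw [Set.mem_singleton_iff] at hg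
      subst hg
      exact hcomm
    rw [hTK e he he1] at h1
    exact Subgroup.mem_bot.mp h1
  have hHne : H ≠ ⊤ := hH.1
  have hσH : sigmaCore H ≤ H := Cfsg.Agent.Lib.Helper71.BG11.sigmaCore_le H
  have hHnσ : H ≤ normalizer (sigmaCore H : Set G) :=
    Cfsg.Agent.Lib.Helper71.BG11.le_normalizer_sigmaCore H
  have hTKH : T ⊔ K ≤ H := sup_le hTH hKH
  have hHn : ∀ x ∈ T ⊔ K, ∀ h ∈ sigmaCore H, x * h * x⁻¹ ∈ sigmaCore H := by
    intro x hx h hh
    exact (Subgroup.mem_normalizer_iff.mp (hHnσ (hTKH hx)) h).mp hh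
  have hsolvH : Group.IsSolvable H := ms_solvable hG hHne
  have hsolv : Group.IsSolvable (sigmaCore H) :=
    Group.isSolvable_of_isSolvable_injective (f := Subgroup.inclusion hσH)
      (Subgroup.inclusion_injective hσH)
  have hdvd : Nat.card ↥(T ⊔ K) ∣ Nat.card T * Nat.card K :=
    Cfsg.Agent.Lib.Helper29.card_sup_dvd_of_le_normalizer T K hKT
  have hcop2 : (Nat.card (sigmaCore H)).Coprime (Nat.card K) := by
    rw [Nat.coprime_comm]
    rw [Nat.Prime.coprime_iff_not_dvd hp]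
    intro hd
    exact hpH (Cfsg.Agent.Lib.Helper71.BG11.sigmaCore_pi hG hH hp hd)
  have hcop : Nat.Coprime (Nat.card (sigmaCore H)) (Nat.card ↥(T ⊔ K)) :=
    Nat.Coprime.coprime_dvd_right hdvd (Nat.Coprime.mul_right hTcop.symm hcop2)
  have hW := Cfsg.Agent.Lib.Helper03.FrobSub.wielandt_sub T K (sigmaCore H) hUn hfpf' hTnil hHn
    hsolv hcop
  have hd1 : Nat.card ↥(sigmaCore H ⊓ centralizer (K : Set G)) = 1 := by
    rw [hfpf]; exact Subgroup.card_bot
  have hc1 : Nat.card ↥(sigmaCore H ⊓ centralizer ((T ⊔ K : Subgroup G) : Set G)) = 1 := by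
    have hle : sigmaCore H ⊓ centralizer ((T ⊔ K : Subgroup G) : Set G) ≤
        sigmaCore H ⊓ centralizer (K : Set G) :=
      inf_le_inf_left _ (Subgroup.centralizer_le (by
        intro x hx; exact (le_sup_right : K ≤ T ⊔ K) hx))
    rw [hfpf] at hle
    rw [le_bot_iff.mp hle]; exact Subgroup.card_bot
  rw [hd1, hc1, one_pow, one_mul, one_mul] at hW
  have heq : sigmaCore H ⊓ centralizer (T : Set G) = sigmaCore H :=
    Subgroup.eq_of_le_of_card_ge inf_le_left (le_of_eq hW)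
  have hle : sigmaCore H ≤ centralizer (T : Set G) := by
    rw [← heq]; exact inf_le_right
  intro u hu
  rw [Subgroup.mem_centralizer_iff]
  intro h hh
  have h1 := hle hh
  rw [Subgroup.mem_centralizer_iff] at h1
  exact (h1 u hu).symm

end Cfsg.Agent.Lib.Helper23.BG1435
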