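import Mathlib
import Cfsg.Agent.S1350
import Cfsg.Agent.S1414
import Cfsg.Agent.S1417
import Cfsg.Agent.S1423
import Cfsg.Agent.Lib.Helper71.BG11a
import Cfsg.Agent.Lib.Helper55.CoprimeGen
import Cfsg.Agent.Lib.Helper13.BG12B
import Cfsg.Agent.Lib.Helper81.Cores

/-!
# Pack K-1436 (S1436), leaf D: `mem_beta` (BG 14.4(d))
-/

set_option autoImplicit false

namespace Cfsg.Agent.Lib.Helper23.BG1436

open Cfsg Subgroup

variable {G : Type*} [Group G]

/-- if `A` conjugates `H` into itself elementwise then `A ≤ N(H)` -/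
theorem dm_le_normalizer {A H : Subgroup G}
    (h : ∀ x ∈ A, ∀ y ∈ H, x * y * x⁻¹ ∈ H) : A ≤ normalizer (H : Set G) := by
  intro x hx
  rw [mem_normalizer_iff]
  intro y
  constructor
  · exact h x hx y
  · intro hy
    have := h x⁻¹ (A.inv_mem hx) _ hy
    simpa [mul_assoc] using this

/-- the image in `G` of a normal subgroup of `↥M` is normalized by `M` -/
theorem dm_le_normalizer_map {M : Subgroup G} (H : Subgroup ↥M) (hH : H.Normal) :
    M ≤ normalizer ((H.map M.subtype : Subgroup G) : Set G) := by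
  apply dm_le_normalizer
  rintro m hm _ ⟨h, hh, rfl⟩
  refine ⟨⟨m, hm⟩ * h * ⟨m, hm⟩⁻¹, hH.conj_mem h hh ⟨m, hm⟩, ?_⟩
  simp

/-- an element of a `p`-group lying in a subgroup of order prime to `p` is trivial -/
theorem dm_eq_one {p : ℕ} (hp : p.Prime) {T V : Subgroup G} (hT : IsPGroup p T)
    (hV : ¬ p ∣ Nat.card V) {c : G} (hcT : c ∈ T) (hcV : c ∈ V) : c = 1 := by
  obtain ⟨k, hk⟩ := hT ⟨c, hcT⟩
  have hk' : c ^ p ^ k = 1 := by simpa using congrArg Subtype.val hk
  have hdvd : orderOf c ∣ p ^ k := orderOf_dvd_of_pow_eq_one hk'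
  obtain ⟨j, -, hjeq⟩ := (Nat.dvd_prime_pow hp).1 hdvd
  rcases Nat.eq_zero_or_pos j with rfl | hjpos
  · rw [pow_zero] at hjeq
    exact orderOf_eq_one_iff.1 hjeq
  · exfalso
    apply hV
    have h1 : p ∣ orderOf c := by rw [hjeq]; exact dvd_pow_self p hjpos.ne'
    exact h1.trans (Subgroup.orderOf_dvd_natCard V hcV)

/-- Bezout: `a ^ m ∈ W`, `a ^ n ∈ W`, `m`, `n` coprime, then `a ∈ W` -/
theorem dm_mem_of_coprime {H : Type*} [Group H] (W : Subgroup H) {m n : ℕ} (hmn : Nat.Coprime m n)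
    {a : H} (hm : a ^ m ∈ W) (hn : a ^ n ∈ W) : a ∈ W := by
  have h := Nat.gcd_eq_gcd_ab m n
  rw [Nat.Coprime.gcd_eq_one hmn] at h
  have h2 : a = (a ^ m) ^ (Nat.gcdA m n) * (a ^ n) ^ (Nat.gcdB m n) := by
    rw [← zpow_natCast, ← zpow_natCast, ← zpow_mul, ← zpow_mul, ← zpow_add, ← h]
    simp
  rw [h2]
  exact W.mul_mem (W.zpow_mem hm _) (W.zpow_mem hn _)

variable [Finite G]

/-- a `q`-group `Q` normalizing the `q'`-group `Y` normalizes a nontrivial `p`-subgroup of `Y`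
when `p ∣ |Y|` -/
theorem dm_exists_invariant {q p : ℕ} [Fact q.Prime] [Fact p.Prime] {Q Y : Subgroup G}
    (hQ : IsPGroup q Q) (hQY : Q ≤ normalizer (Y : Set G)) (hY : (Nat.card Y).Coprime q)
    (hpY : p ∣ Nat.card Y) :
    ∃ T : Subgroup G, T ≤ Y ∧ T ≠ ⊥ ∧ IsPGroup p T ∧ Q ≤ normalizer (T : Set G) := by
  obtain ⟨T, hT, hQT⟩ := Cfsg.Agent.Lib.Helper55.exists_invariant_isSylowIn (p := q) hQ hQY hY p
  refine ⟨T, hT.1, ?_, hT.2.1, hQT⟩
  intro hTbot
  obtain ⟨y, hy⟩ := exists_prime_orderOf_dvd_card' (G := ↥Y) p hpY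
  have hyG : orderOf (y : G) = p := by rw [Subgroup.orderOf_coe]; exact hy
  have hz : IsPGroup p (zpowers (y : G)) :=
    IsPGroup.of_card (n := 1) (by rw [Nat.card_zpowers, hyG, pow_one])
  have hle : zpowers (y : G) ≤ Y := by rw [zpowers_le]; exact y.2
  have hmax := hT.2.2 _ hle hz (by rw [hTbot]; exact bot_le)
  have hy1 : (y : G) = 1 := by
    have hmem : (y : G) ∈ zpowers (y : G) := mem_zpowers _
    rw [hmax, hTbot] at hmem
    exact Subgroup.mem_bot.1 hmem
  rw [hy1, orderOf_one] at hyG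
  exact (Fact.out : p.Prime).one_lt.ne hyG

/-- K-1436-D  (BG 14.4(d)) -/
theorem mem_beta (hG : IsMinSimpleOddOrder G) {M N : Subgroup G} (hM : IsCoatom M) (hN : IsCoatom N) {x : G}
    (hx : x ∈ sigmaCore M) (hx1 : x ≠ 1) (hxM : ¬ centralizer ({x} : Set G) ≤ M) (hxN : centralizer ({x} : Set G) ≤ N)
    (hnil : Group.IsNilpotent (sigmaCore N)) (hcompl : IsComplIn (M ⊓ N) (sigmaCore N) N)
    (hdisj : ∀ p : ℕ, p ∈ sigma N → p ∉ sigma M)
    (hq : (orderOf x).Prime) (hqN : orderOf x ∈ tau2 N)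
    {p : ℕ} (hp : p ∈ sigma N) (hpM : p ∣ Nat.card M) : p ∈ beta N := by
  classical
  by_contra hpβ
  have : Fact (orderOf x).Prime := ⟨hq⟩
  have : Fact p.Prime := ⟨hp.1⟩
  have hxMem : x ∈ M := Cfsg.Agent.Lib.Helper71.BG11.sigmaCore_le M hx
  -- `q ∈ σ(M)`
  have hqσM : orderOf x ∈ sigma M :=
    Cfsg.Agent.Lib.Helper71.BG11.sigmaCore_pi hG hM hq (Subgroup.orderOf_dvd_natCard _ hx)
  have hqp : orderOf x ≠ p := by
    intro h
    exact hdisj p hp (h ▸ hqσM)
  -- `q ∉ β(M)`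
  have hqβ : orderOf x ∉ beta M := by
    intro hβ
    have hXM : zpowers x ≤ M := by rw [zpowers_le]; exact hxMem
    have hXc : Nat.card (zpowers x) = orderOf x := Nat.card_zpowers x
    obtain ⟨P⟩ : Nonempty (Sylow (orderOf x) ↥(sigmaCore M)) := inferInstance
    have h := (Cfsg.Agent.S1423.result hG M hM (orderOf x) hqσM (zpowers x) hXM hXc P (Or.inl hβ)).1.1
    apply hxM
    refine le_trans ?_ h
    intro g hg
    rw [mem_centralizer_iff] at hg ⊢
    intro y hy
    obtain ⟨k, rfl⟩ := mem_zpowers_iff.1 (SetLike.mem_coe.1 hy)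
    have hc : Commute x g := hg x rfl
    exact (hc.zpow_left k).eq
  -- the elementary abelian subgroup `A ≤ N` of order `q ^ 2`
  obtain ⟨A, hAN, hAel, hAcard⟩ := Cfsg.Agent.Lib.Helper13.BG12.exists_elemAb_sq_of_tau2 hqN
  have hd := (Cfsg.Agent.S1417.result hG N hN (orderOf x) hqN A ⟨hAN, hAel, hAcard⟩).2.2.2.1
  have hAq : IsPGroup (orderOf x) A := IsPGroup.of_card hAcard
  have hqσN : orderOf x ∉ sigma N := hqN.2.1
  have hcopNσ : (Nat.card (sigmaCore N)).Coprime (orderOf x) := by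
    apply Nat.Coprime.symm
    rw [Nat.Prime.coprime_iff_not_dvd hq]
    intro hd'
    exact hqσN (Cfsg.Agent.Lib.Helper71.BG11.sigmaCore_pi hG hN hq hd')
  have hrel := Cfsg.Agent.Lib.Helper13.BG12.relIndex_eq_card_of_complIn hcompl
  have hpE : ¬ p ∣ Nat.card ↥(M ⊓ N) := by
    rw [← hrel]
    exact (Cfsg.Agent.S1350.result hG N hN).1.2.2 p hp.1 hp
  have hcardN := Cfsg.Agent.Lib.Helper31.IsComplIn.card_mul hcompl
  have hpNσ : p ∣ Nat.card (sigmaCore N) := by
    have h0 : p ∣ Nat.card ↥(M ⊓ N) * Nat.card (sigmaCore N) := by rw [hcardN]; exact hp.2.1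
    rcases (Nat.Prime.dvd_mul hp.1).1 h0 with h | h
    · exact absurd h hpE
    · exact h
  -- `q ≤ p`
  have hS1414N := (Cfsg.Agent.S1414.result hG N hN).2.2.2.2 p hp.1 hp.2.1 hpβ
  have hqlep : orderOf x ≤ p := by
    by_contra hnot
    have hqidx : ¬ orderOf x ∣ (pPrimeCore p ↥N).index := fun h => hnot (hS1414N.2.2 (orderOf x) hq h)
    have hWn : (pPrimeCore p ↥N).Normal := Cfsg.Agent.Lib.Helper81.pPrimeCore_normal p
    have hWcop : (Nat.card (pPrimeCore p ↥N)).Coprime p :=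
      Cfsg.Agent.Lib.Helper81.card_pPrimeCore_coprime p
    have hAW : A ≤ (pPrimeCore p ↥N).map N.subtype := by
      intro a ha
      have haN : a ∈ N := hAN ha
      refine ⟨⟨a, haN⟩, ?_, rfl⟩
      have hcop : Nat.Coprime (orderOf x ^ 2) (pPrimeCore p ↥N).index :=
        Nat.Coprime.pow_left 2 ((Nat.Prime.coprime_iff_not_dvd hq).2 hqidx)
      apply dm_mem_of_coprime _ hcop
      · have h1 : a ^ (orderOf x ^ 2) = 1 := by
          have := pow_card_eq_one' (G := ↥A) (x := ⟨a, ha⟩)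
          rw [hAcard] at this
          exact congrArg Subtype.val this
        have h2 : (⟨a, haN⟩ : ↥N) ^ (orderOf x ^ 2) = 1 := Subtype.ext (by simpa using h1)
        rw [h2]
        exact Subgroup.one_mem _
      · have := hWn
        exact Subgroup.pow_index_mem _ _
    have hANσ : A ≤ normalizer (sigmaCore N : Set G) :=
      hAN.trans (Cfsg.Agent.Lib.Helper71.BG11.le_normalizer_sigmaCore N)
    obtain ⟨S, hSle, hSne, hSp, hAS⟩ :=
      dm_exists_invariant (q := orderOf x) (p := p) hAq hANσ hcopNσ hpNσ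
    have hW'card : ¬ p ∣ Nat.card ↥((pPrimeCore p ↥N).map N.subtype) := by
      rw [Subgroup.card_map_of_injective N.subtype_injective]
      exact (Nat.Prime.coprime_iff_not_dvd hp.1).1 hWcop.symm
    have hNW : N ≤ normalizer (((pPrimeCore p ↥N).map N.subtype : Subgroup G) : Set G) :=
      dm_le_normalizer_map _ hWn
    have hScent : S ≤ sigmaCore N ⊓ centralizer (A : Set G) := by
      intro s hs
      refine Subgroup.mem_inf.2 ⟨hSle hs, ?_⟩
      rw [mem_centralizer_iff]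
      intro a ha
      have hsN : s ∈ N := Cfsg.Agent.Lib.Helper71.BG11.sigmaCore_le N (hSle hs)
      have hc1 : a * s * a⁻¹ * s⁻¹ ∈ S := by
        have hn := hAS ha
        rw [mem_normalizer_iff] at hn
        exact S.mul_mem ((hn s).1 hs) (S.inv_mem hs)
      have hc2 : a * s * a⁻¹ * s⁻¹ ∈ (pPrimeCore p ↥N).map N.subtype := by
        have h1 : s * a⁻¹ * s⁻¹ ∈ (pPrimeCore p ↥N).map N.subtype := by
          have hn := hNW hsN
          rw [mem_normalizer_iff] at hn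
          exact (hn a⁻¹).1 (inv_mem (hAW ha))
        have h2 : a * s * a⁻¹ * s⁻¹ = a * (s * a⁻¹ * s⁻¹) := by group
        rw [h2]
        exact mul_mem (hAW ha) h1
      have hc := dm_eq_one hp.1 hSp hW'card hc1 hc2
      calc a * s = (a * s * a⁻¹ * s⁻¹) * (s * a) := by group
        _ = s * a := by rw [hc, one_mul]
    rw [hd] at hScent
    exact hSne (le_bot_iff.1 hScent)
  have hqltp : orderOf x < p := lt_of_le_of_ne hqlep hqp
  -- S1414 for `(M, q)`
  have hqM : orderOf x ∣ Nat.card M := Subgroup.orderOf_dvd_natCard M hxMem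
  have hS1414M := (Cfsg.Agent.S1414.result hG M hM).2.2.2.2 (orderOf x) hq hqM hqβ
  have hpidx : ¬ p ∣ (pPrimeCore (orderOf x) ↥M).index :=
    fun h => absurd (hS1414M.2.2 p hp.1 h) (not_le.2 hqltp)
  have hWn : (pPrimeCore (orderOf x) ↥M).Normal := Cfsg.Agent.Lib.Helper81.pPrimeCore_normal _
  have hWcop : (Nat.card (pPrimeCore (orderOf x) ↥M)).Coprime (orderOf x) :=
    Cfsg.Agent.Lib.Helper81.card_pPrimeCore_coprime _
  have hpW : p ∣ Nat.card (pPrimeCore (orderOf x) ↥M) := by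
    have h := Subgroup.card_mul_index (pPrimeCore (orderOf x) ↥M)
    have h0 : p ∣ Nat.card (pPrimeCore (orderOf x) ↥M) * (pPrimeCore (orderOf x) ↥M).index := by
      rw [h]; exact hpM
    rcases (Nat.Prime.dvd_mul hp.1).1 h0 with h | h
    · exact h
    · exact absurd h hpidx
  have hW'card : Nat.card ↥((pPrimeCore (orderOf x) ↥M).map M.subtype) =
      Nat.card (pPrimeCore (orderOf x) ↥M) :=
    Subgroup.card_map_of_injective M.subtype_injective
  have hMW' : M ≤ normalizer (((pPrimeCore (orderOf x) ↥M).map M.subtype : Subgroup G) : Set G) :=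
    dm_le_normalizer_map _ hWn
  have hW'M : (pPrimeCore (orderOf x) ↥M).map M.subtype ≤ M := Subgroup.map_subtype_le _
  have hxq : IsPGroup (orderOf x) (zpowers x) :=
    IsPGroup.of_card (n := 1) (by rw [Nat.card_zpowers, pow_one])
  have hxW' : zpowers x ≤
      normalizer (((pPrimeCore (orderOf x) ↥M).map M.subtype : Subgroup G) : Set G) := by
    rw [zpowers_le]; exact hMW' hxMem
  obtain ⟨T, hTle, hTne, hTp, hxT⟩ :=
    dm_exists_invariant (q := orderOf x) (p := p) hxq hxW' (hW'card ▸ hWcop) (hW'card ▸ hpW)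
  have hxT' : x ∈ normalizer (T : Set G) := hxT (mem_zpowers x)
  have hpMσ : ¬ p ∣ Nat.card (sigmaCore M) :=
    fun h => hdisj p hp (Cfsg.Agent.Lib.Helper71.BG11.sigmaCore_pi hG hM hp.1 h)
  have hTcent : T ≤ centralizer ({x} : Set G) := by
    intro t ht
    rw [mem_centralizer_iff]
    intro y hy
    rw [Set.mem_singleton_iff] at hy
    rw [hy]
    have htM : t ∈ M := hW'M (hTle ht)
    have hc1 : x * t * x⁻¹ * t⁻¹ ∈ T := by
      have hn := hxT'
      rw [mem_normalizer_iff] at hn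
      exact T.mul_mem ((hn t).1 ht) (T.inv_mem ht)
    have hc2 : x * t * x⁻¹ * t⁻¹ ∈ sigmaCore M := by
      have hn := Cfsg.Agent.Lib.Helper71.BG11.le_normalizer_sigmaCore M htM
      rw [mem_normalizer_iff] at hn
      have h1 : t * x⁻¹ * t⁻¹ ∈ sigmaCore M := (hn x⁻¹).1 (inv_mem hx)
      have h2 : x * t * x⁻¹ * t⁻¹ = x * (t * x⁻¹ * t⁻¹) := by group
      rw [h2]
      exact mul_mem hx h1
    have hc := dm_eq_one hp.1 hTp hpMσ hc1 hc2
    calc x * t = (x * t * x⁻¹ * t⁻¹) * (t * x) := by group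
      _ = t * x := by rw [hc, one_mul]
  have hTMN : T ≤ M ⊓ N := le_inf (hTle.trans hW'M) (hTcent.trans hxN)
  apply hpE
  obtain ⟨k, hk⟩ := IsPGroup.iff_card.1 hTp
  have hk0 : k ≠ 0 := by
    rintro rfl
    rw [pow_zero] at hk
    exact hTne (Subgroup.card_eq_one.1 hk)
  have hpT : p ∣ Nat.card T := by rw [hk]; exact dvd_pow_self p hk0
  exact hpT.trans (Subgroup.card_dvd_of_le hTMN)

end Cfsg.Agent.Lib.Helper23.BG1436
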