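import Mathlib
import Cfsg.Agent.Lib.Helper13.BG16Q

/-!
# Pack K-1537 (S1537), leaf E: `mem_of_conj_typeA0`
-/

set_option autoImplicit false

namespace Cfsg.Agent.Lib.Helper23.BG1537

open Cfsg Subgroup

variable {G : Type*} [Group G] [Finite G]

/-- the `Ẑ`-part of `A₀(M)` lies in `M` -/
theorem e_zhat_mem {M W₁ U' W₂ : Subgroup G} (hP : IsTypePWith M W₁ U' W₂) {m w : G}
    (hm : m ∈ M) (hw : w ∈ W₁ ⊔ W₂) : m * w * m⁻¹ ∈ M := by
  have hW1 : W₁ ≤ M := hP.W₁_compl.2.1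
  have hW2 : W₂ ≤ M := by
    refine (hP.W₂_le.trans inf_le_left).trans ?_
    unfold fittingHallOf
    exact Subgroup.map_subtype_le _
  have hwM : w ∈ M := (sup_le hW1 hW2) hw
  exact M.mul_mem (M.mul_mem hm hwM) (M.inv_mem hm)

/-- **L-E** -/
theorem mem_of_conj_typeA0 (hG : IsMinSimpleOddOrder G) {M K U : Subgroup G} (hM : IsCoatom M)
    (hKU : IsSigmaDecomposition M K U) (hB2 : typeA M ⊆ sigmaA M U \ {1})
    (hD : ∀ a g : G, a ∈ sigmaA M U → a ∉ sigmaCore M → g * a * g⁻¹ ∈ sigmaA M U → g ∈ M)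
    {v g : G} (hv : v ∈ typeA0 M) (hvσ : v ∉ sigmaCore M) (hb : g * v * g⁻¹ ∈ typeA0 M) : g ∈ M := by
  have hAM : ∀ x ∈ typeA M, x ∈ M := fun x hx => (hB2 hx).1.1.1
  rcases hv with hv | ⟨-, W₁, U', W₂, hP, m, hm, w, hw, hw1, hw2, rfl⟩
  · rcases hb with hb | ⟨-, W₁, U', W₂, hP, m, hm, w, hw, hw1, hw2, hgv⟩
    · exact hD v g (hB2 hv).1 hvσ (hB2 hb).1
    · have hK1 : K ≠ ⊥ :=
        Cfsg.Agent.Lib.Helper13.BG16.kappaHall_ne_bot_of_typeP hG hM hP hKU.hall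
      have hvM : v ∈ M := hAM v hv
      have h : g⁻¹ * (m * w * m⁻¹) * g⁻¹⁻¹ ∈ M := by
        rw [← hgv]
        have e : g⁻¹ * (g * v * g⁻¹) * g⁻¹⁻¹ = v := by group
        rw [e]; exact hvM
      have hg' := Cfsg.Agent.Lib.Helper13.BG16.mem_of_conj_zhat_mem hG hM hP hKU hK1 hm hw hw1 hw2 h
      have := M.inv_mem hg'
      rwa [inv_inv] at this
  · have hK1 : K ≠ ⊥ :=
      Cfsg.Agent.Lib.Helper13.BG16.kappaHall_ne_bot_of_typeP hG hM hP hKU.hall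
    have h : g * (m * w * m⁻¹) * g⁻¹ ∈ M := by
      rcases hb with hb | ⟨-, W₁', U'', W₂', hP', m', hm', w', hw', -, -, hgv⟩
      · exact hAM _ hb
      · rw [hgv]; exact e_zhat_mem hP' hm' hw'
    exact Cfsg.Agent.Lib.Helper13.BG16.mem_of_conj_zhat_mem hG hM hP hKU hK1 hm hw hw1 hw2 h

end Cfsg.Agent.Lib.Helper23.BG1537
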