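import Mathlib
import Cfsg.Agent.Lib.Helper80.DetChar
import Cfsg.Agent.Lib.Helper83.Abelian
import Cfsg.Agent.Lib.Helper83.SecondOrth
import Cfsg.Agent.Lib.Helper83.Decompose
import Cfsg.Agent.Lib.Helper05.CharDecomp

/-!
# Additivity of the determinantal character; the determinant of a multiple of the regular
character of a cyclic group of even order at a generator
-/

set_option autoImplicit false
set_option linter.unusedSectionVars false
set_option linter.style.haveILetI false

namespace Cfsg.Agent.Lib.Helper23.DetAdd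

open Cfsg Cfsg.Agent.Lib.Helper80

section Add

variable {G : Type*} [Group G] [Finite G]

/-- the determinantal character of a sum of two characters -/
theorem detChar_add {χ ψ : G → ℂ} (hχ : IsCharacter G χ) (hψ : IsCharacter G ψ) :
    detChar (χ + ψ) = fun g => detChar χ g * detChar ψ g := by
  obtain ⟨n, ρ, rfl⟩ := hχ
  obtain ⟨m, σ, rfl⟩ := hψ
  have h : (ρ.prod σ).character = ρ.character + σ.character := by
    funext g
    show LinearMap.trace ℂ _ ((ρ g).prodMap (σ g)) = LinearMap.trace ℂ _ (ρ g) + LinearMap.trace ℂ _ (σ g)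
    exact LinearMap.trace_prodMap' _ _
  rw [← h, detChar_character, detChar_character, detChar_character]
  funext g
  show LinearMap.det ((ρ g).prodMap (σ g)) = LinearMap.det (ρ g) * LinearMap.det (σ g)
  exact LinearMap.det_prodMap _ _

/-- the determinantal character of the zero character -/
theorem detChar_zero : detChar (0 : G → ℂ) = fun _ => 1 := by
  have h0 : (Representation.trivial ℂ G (Fin 0 → ℂ)).character = 0 := by
    funext g
    simp [Representation.character]
  rw [← h0, detChar_character]
  funext g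
  exact LinearMap.det_eq_one_of_subsingleton _

/-- the determinantal character of a finite sum of characters -/
theorem detChar_sum {ι : Type*} (s : Finset ι) (f : ι → G → ℂ)
    (h : ∀ i ∈ s, IsCharacter G (f i)) :
    detChar (∑ i ∈ s, f i) = fun g => ∏ i ∈ s, detChar (f i) g := by
  classical
  induction s using Finset.induction_on with
  | empty =>
    rw [Finset.sum_empty, detChar_zero]
    funext g
    rw [Finset.prod_empty]
  | insert a s ha ih =>
    rw [Finset.sum_insert ha, detChar_add (h a (Finset.mem_insert_self a s))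
      (Cfsg.Agent.Lib.Helper83.isCharacter_sum s f
        (fun i hi => h i (Finset.mem_insert_of_mem hi))),
      ih (fun i hi => h i (Finset.mem_insert_of_mem hi))]
    funext g
    rw [Finset.prod_insert ha]

end Add

/-- the product of all `q`-th roots of unity, `q` even -/
theorem prod_nthRootsFinset (q : ℕ) (hq : 0 < q) (heven : Even q) :
    ∏ ζ ∈ Polynomial.nthRootsFinset q (1 : ℂ), ζ = -1 := by
  have hprim := Complex.isPrimitiveRoot_exp q hq.ne'
  have h := Polynomial.X_pow_sub_one_eq_prod hq hprim
  have h0 := congrArg (Polynomial.eval 0) h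
  rw [Polynomial.eval_prod] at h0
  simp only [Polynomial.eval_sub, Polynomial.eval_pow, Polynomial.eval_X, Polynomial.eval_one,
    Polynomial.eval_C, zero_sub, zero_pow hq.ne'] at h0
  rw [Finset.prod_neg, hprim.card_nthRootsFinset, heven.neg_one_pow, one_mul] at h0
  exact h0.symm

section Cyclic

variable {C : Type*} [Group C] [Fintype C] [Fintype (IrrCharacter C)]

theorem comm_of_generator (y : C) (hy : ∀ c : C, c ∈ Subgroup.zpowers y) (a b : C) :
    a * b = b * a := by
  obtain ⟨i, rfl⟩ := Subgroup.mem_zpowers_iff.mp (hy a)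
  obtain ⟨j, rfl⟩ := Subgroup.mem_zpowers_iff.mp (hy b)
  rw [← zpow_add, ← zpow_add, add_comm]

theorem irr_degree_one_of_generator (y : C) (hy : ∀ c : C, c ∈ Subgroup.zpowers y)
    (μ : IrrCharacter C) : (μ : C → ℂ) 1 = 1 :=
  Cfsg.Agent.Lib.Helper83.irr_degree_one_of_comm (comm_of_generator y hy) μ

/-- the regular character of a cyclic group is the sum of its irreducible characters -/
theorem sum_irr_apply (y : C) (hy : ∀ c : C, c ∈ Subgroup.zpowers y) (c : C) [Decidable (c = 1)] :
    ∑ μ : IrrCharacter C, (μ : C → ℂ) c = if c = 1 then (Nat.card C : ℂ) else 0 := by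
  rw [← Cfsg.Agent.Lib.Helper83.sum_irr_degree_mul (G := C) c]
  apply Finset.sum_congr rfl
  intro μ _
  rw [irr_degree_one_of_generator y hy μ, one_mul]

/-- the product of the values at a generator of all irreducible characters of a cyclic group of
even order is `-1` -/
theorem prod_irr_generator (y : C) (hy : ∀ c : C, c ∈ Subgroup.zpowers y)
    (heven : Even (Nat.card C)) : ∏ μ : IrrCharacter C, (μ : C → ℂ) y = -1 := by
  classical
  have hdeg1 := irr_degree_one_of_generator y hy
  have hhom : ∀ μ : IrrCharacter C, ∃ φ : C →* ℂˣ,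
      Cfsg.Agent.Lib.Helper20.homFun φ = (μ : C → ℂ) := fun μ =>
    Cfsg.Agent.Lib.Helper20.exists_hom_of_linear
      (Cfsg.Agent.Lib.Helper83.IrrCharacter_isCharacter μ) (hdeg1 μ)
  choose φ hφ using hhom
  set q := Nat.card C with hq
  have hqpos : 0 < q := Nat.card_pos
  have hyq : y ^ q = 1 := pow_card_eq_one'
  have hval : ∀ (μ : IrrCharacter C) (c : C), (μ : C → ℂ) c = ((φ μ c : ℂˣ) : ℂ) := fun μ c => by
    rw [← hφ μ]
    rfl
  have hmem : ∀ μ : IrrCharacter C, (μ : C → ℂ) y ∈ Polynomial.nthRootsFinset q (1 : ℂ) := by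
    intro μ
    rw [Polynomial.mem_nthRootsFinset hqpos, hval]
    have h1 : (φ μ y) ^ q = 1 := by rw [← map_pow, hyq, map_one]
    have h2 := congrArg (fun u : ℂˣ => (u : ℂ)) h1
    simpa using h2
  have hinj : Function.Injective (fun μ : IrrCharacter C => (μ : C → ℂ) y) := by
    intro μ ν h
    have h' : (μ : C → ℂ) y = (ν : C → ℂ) y := h
    rw [hval, hval] at h'
    have h1 : φ μ y = φ ν y := Units.ext h'
    have h2 : ∀ c : C, φ μ c = φ ν c := by
      intro c
      obtain ⟨i, rfl⟩ := Subgroup.mem_zpowers_iff.mp (hy c)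
      rw [map_zpow, map_zpow, h1]
    apply Subtype.ext
    funext c
    rw [hval, hval, h2 c]
  have hcard : Fintype.card (IrrCharacter C) = q := by
    have h := sum_irr_apply y hy (1 : C)
    rw [if_pos rfl] at h
    simp only [hdeg1, Finset.sum_const, Finset.card_univ, nsmul_eq_mul, mul_one] at h
    exact_mod_cast h
  have himage : (Finset.univ : Finset (IrrCharacter C)).image (fun μ : IrrCharacter C => (μ : C → ℂ) y)
      = Polynomial.nthRootsFinset q (1 : ℂ) := by
    apply Finset.eq_of_subset_of_card_le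
    · intro z hz
      obtain ⟨μ, _, rfl⟩ := Finset.mem_image.mp hz
      exact hmem μ
    · rw [Finset.card_image_of_injective _ hinj, Finset.card_univ, hcard,
        (Complex.isPrimitiveRoot_exp q hqpos.ne').card_nthRootsFinset]
  rw [← prod_nthRootsFinset q hqpos heven, ← himage,
    Finset.prod_image (fun a _ b _ h => hinj h)]

end Cyclic

/-- if `y` has even order `q`, `χ 1 = m q` with `m` odd, and `χ` vanishes on `⟨y⟩ ∖ 1`, then
`det χ (y) = -1` -/
theorem detChar_eq_neg_one {G : Type*} [Group G] [Finite G] {χ : G → ℂ} (hχ : IsCharacter G χ)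
    (y : G) (q m : ℕ) (hy : orderOf y = q) (hq : Even q) (hm : Odd m)
    (h1 : χ 1 = ((m * q : ℕ) : ℂ))
    (hvan : ∀ g ∈ Subgroup.zpowers y, g ≠ 1 → χ g = 0) : detChar χ y = -1 := by
  classical
  letI : Fintype ↥(Subgroup.zpowers y) := Fintype.ofFinite _
  haveI : Finite (IrrCharacter ↥(Subgroup.zpowers y)) :=
    Cfsg.Agent.Lib.Helper05.finite_irrCharacter
  letI : Fintype (IrrCharacter ↥(Subgroup.zpowers y)) := Fintype.ofFinite _
  set y' : ↥(Subgroup.zpowers y) := ⟨y, Subgroup.mem_zpowers y⟩ with hy'
  have hgen : ∀ c : ↥(Subgroup.zpowers y), c ∈ Subgroup.zpowers y' := by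
    intro c
    obtain ⟨i, hi⟩ := Subgroup.mem_zpowers_iff.mp c.2
    refine Subgroup.mem_zpowers_iff.mpr ⟨i, Subtype.ext ?_⟩
    rw [Subgroup.coe_zpow]
    exact hi
  have hcardC : Nat.card ↥(Subgroup.zpowers y) = q := by rw [Nat.card_zpowers, hy]
  have hdeg1 := irr_degree_one_of_generator y' hgen
  set ψ : ↥(Subgroup.zpowers y) → ℂ := fun c => χ (c : G) with hψdef
  have hres : detChar ψ = fun c : ↥(Subgroup.zpowers y) => detChar χ (c : G) :=
    detChar_restrict (Subgroup.zpowers y) hχ
  have hψ : ψ = ∑ x ∈ (Finset.univ : Finset (IrrCharacter ↥(Subgroup.zpowers y)))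
      ×ˢ Finset.range m, ((x.1 : IrrCharacter ↥(Subgroup.zpowers y)) : ↥(Subgroup.zpowers y) → ℂ) := by
    funext c
    rw [Finset.sum_apply, Finset.sum_product]
    simp only [Finset.sum_const, Finset.card_range, nsmul_eq_mul]
    rw [← Finset.mul_sum, sum_irr_apply y' hgen c]
    by_cases hc : c = 1
    · rw [if_pos hc, hc, hcardC]
      show χ ((1 : ↥(Subgroup.zpowers y)) : G) = _
      rw [Subgroup.coe_one, h1]
      push_cast
      ring
    · rw [if_neg hc, mul_zero]
      exact hvan c c.2 (fun h => hc (Subtype.ext h))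
  have hdet : detChar ψ y' = ∏ x ∈ (Finset.univ : Finset (IrrCharacter ↥(Subgroup.zpowers y)))
      ×ˢ Finset.range m, ((x.1 : IrrCharacter ↥(Subgroup.zpowers y)) : ↥(Subgroup.zpowers y) → ℂ) y' := by
    rw [hψ, detChar_sum _ _
      (fun x _ => Cfsg.Agent.Lib.Helper83.IrrCharacter_isCharacter x.1)]
    apply Finset.prod_congr rfl
    intro x _
    rw [detChar_of_linear (Cfsg.Agent.Lib.Helper83.IrrCharacter_isCharacter x.1) (hdeg1 x.1)]
  have h2 : detChar χ y = detChar ψ y' := (congrFun hres y').symm
  rw [h2, hdet, Finset.prod_product]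
  simp only [Finset.prod_const, Finset.card_range]
  rw [Finset.prod_pow, prod_irr_generator y' hgen (by rw [hcardC]; exact hq), hm.neg_one_pow]

end Cfsg.Agent.Lib.Helper23.DetAdd
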