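import Mathlib
import Cfsg.Agent.Lib.Helper23.Exceptional
import Cfsg.Agent.Lib.Helper05.CharDegree

/-!
# Exceptional characters: the boundary case `m = e + 1`

The decomposition of `(1_K - φ)^G` of `Exceptional.lean` still has the standard shape when the
number `m` of relevant characters equals `e + 1` (instead of `m ≥ e + 2`), as long as `e ≥ 2`:
the only other solution of the norm equation is excluded by its degree.
-/

set_option autoImplicit false
set_option linter.unusedSectionVars false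
set_option linter.style.haveILetI false

namespace Cfsg.Agent.Lib.Helper23.Exceptional

open Cfsg Cfsg.Agent.Lib.Helper34
open scoped ComplexConjugate

section Main

variable {G : Type*} [Group G] [Fintype G] (N : Subgroup G) [Fintype N] (KN : Subgroup N)
  [hKN : KN.Normal]
  (hC : ∀ k ∈ KN, k ≠ 1 → Subgroup.centralizer ({k} : Set N) ≤ KN)
  (hab : ∀ a ∈ KN, ∀ b ∈ KN, a * b = b * a)
  (hiso : ∀ α β : N → ℂ, IsClassFunction N α → IsClassFunction N β →
    (∀ x : N, x ∉ KN → α x = 0) → (∀ x : N, x ∉ KN → β x = 0) → α 1 = 0 →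
    classInner (indFun N α) (indFun N β) = classInner α β)

variable [Fintype (IrrCharacter G)] (ε : ℂ) (f : Rel N KN → IrrCharacter G)
  (hε : ε = 1 ∨ ε = -1) (hf : Function.Injective f)
  (hfε : ∀ χ ξ, indFun N ((χ.1 : N → ℂ) - (ξ.1 : N → ℂ)) = ε • ((f χ : G → ℂ) - (f ξ : G → ℂ)))
  (a : Rel N KN) (z : IrrCharacter G → ℤ)
  (hz : alph N KN a = ∑ ψ : IrrCharacter G, (z ψ : ℂ) • (ψ : G → ℂ))

include hC hab hiso hε hf hfε hz in
theorem exc_coeff'
    (hperf : ∀ ψ : IrrCharacter G, (ψ : G → ℂ) 1 = 1 → ψ = Cfsg.Agent.Lib.Helper83.trivChar G)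
    (hcard : KN.index + 1 ≤ Nat.card (Rel N KN)) (he2 : 2 ≤ KN.index) :
    ∃ ε' : ℤ, (ε' = 1 ∨ ε' = -1) ∧ z (f a) = -ε' ∧ ∀ ξ, ξ ≠ a → z (f ξ) = 0 := by
  classical
  haveI : Finite (Rel N KN) := inferInstance
  letI : Fintype (Rel N KN) := Fintype.ofFinite _
  obtain ⟨ε', hε'1, hε'⟩ : ∃ ε' : ℤ, (ε' = 1 ∨ ε' = -1) ∧ (ε' : ℂ) = ε := by
    rcases hε with h | h
    · exact ⟨1, Or.inl rfl, by rw [h]; simp⟩
    · exact ⟨-1, Or.inr rfl, by rw [h]; simp⟩
  have hsq : ε' * ε' = 1 := by rcases hε'1 with h | h <;> rw [h] <;> norm_num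
  have hξ : ∀ ξ, ξ ≠ a → z (f ξ) = z (f a) + ε' := by
    intro ξ hξa
    have h := coeff_diff N KN hC hab hiso ε f hε hfε a z hz ε' hε' a ξ
    rw [if_neg (Ne.symm hξa), if_pos rfl] at h
    have h' : ε' * (ε' * (z (f a) - z (f ξ))) = ε' * (0 - 1) := by rw [h]
    rw [← mul_assoc, hsq, one_mul] at h'
    linarith
  have hsum := sum_sq_coeff N KN hC hab hiso a z hz
  have h1 := coeff_triv N KN hC a z hz
  have h2card : 2 ≤ Nat.card (Rel N KN) := by omega
  have htriv : Cfsg.Agent.Lib.Helper83.trivChar G ∉ Finset.univ.image f := by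
    intro hmem
    obtain ⟨χ₀, _, hχ₀⟩ := Finset.mem_image.mp hmem
    exact triv_notMem_range N KN hC hab ε f hε hf hfε hperf h2card χ₀ hχ₀
  set T : Finset (IrrCharacter G) :=
    insert (Cfsg.Agent.Lib.Helper83.trivChar G) (Finset.univ.image f) with hT
  have hsplit : ∑ ψ ∈ T, z ψ * z ψ + ∑ ψ ∈ Finset.univ \ T, z ψ * z ψ
      = ∑ ψ : IrrCharacter G, z ψ * z ψ := by
    rw [add_comm]
    exact Finset.sum_sdiff (Finset.subset_univ T)
  have hrestnn : 0 ≤ ∑ ψ ∈ Finset.univ \ T, z ψ * z ψ :=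
    Finset.sum_nonneg (fun _ _ => mul_self_nonneg _)
  have hcpos : 1 ≤ Fintype.card (Rel N KN) := Fintype.card_pos_iff.mpr ⟨a⟩
  have hR : ∑ χ : Rel N KN, z (f χ) * z (f χ)
      = z (f a) * z (f a) + ((Fintype.card (Rel N KN) : ℤ) - 1)
          * ((z (f a) + ε') * (z (f a) + ε')) := by
    rw [← Finset.add_sum_erase Finset.univ _ (Finset.mem_univ a)]
    congr 1
    rw [Finset.sum_congr rfl (fun ξ hξ' => by rw [hξ ξ (Finset.ne_of_mem_erase hξ')])]
    rw [Finset.sum_const, Finset.card_erase_of_mem (Finset.mem_univ a), Finset.card_univ,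
      nsmul_eq_mul, Nat.cast_sub hcpos]
    push_cast
    ring
  have hTsum : ∑ ψ ∈ T, z ψ * z ψ = 1 + (z (f a) * z (f a)
      + ((Fintype.card (Rel N KN) : ℤ) - 1) * ((z (f a) + ε') * (z (f a) + ε'))) := by
    rw [hT, Finset.sum_insert htriv, Finset.sum_image (fun x _ y _ h => hf h), h1, hR]
    ring
  have hcard' : ((KN.index : ℤ) + 1) ≤ (Fintype.card (Rel N KN) : ℤ) := by
    rw [Nat.card_eq_fintype_card] at hcard
    exact_mod_cast hcard
  have he2' : (2 : ℤ) ≤ (KN.index : ℤ) := by exact_mod_cast he2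
  have hzero : z (f a) + ε' = 0 := by
    by_contra hne
    have hq : 1 ≤ (z (f a) + ε') * (z (f a) + ε') := by
      have := mul_self_pos.mpr hne
      omega
    set q := (z (f a) + ε') * (z (f a) + ε') with hq_def
    set w := z (f a) with hw
    set m := (Fintype.card (Rel N KN) : ℤ) with hm
    -- the norm equation forces `q = 1`, `w = 0`, `m = e + 1` and the vanishing of the rest
    have hwnn : 0 ≤ w * w := mul_self_nonneg w
    have hineq : 1 + (w * w + (m - 1) * q) + ∑ ψ ∈ Finset.univ \ T, z ψ * z ψ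
        = (KN.index : ℤ) + 1 := by
      rw [← hTsum, hsplit, hsum]
    have hmq : (KN.index : ℤ) * 1 ≤ (m - 1) * q :=
      mul_le_mul (by linarith) hq (by norm_num) (by linarith)
    have hw0 : w * w = 0 := by linarith
    have hrest0 : ∑ ψ ∈ Finset.univ \ T, z ψ * z ψ = 0 := by linarith
    have hmq' : (m - 1) * q = (KN.index : ℤ) := by linarith
    have hw0' : w = 0 := mul_self_eq_zero.mp hw0
    have hqε : z (f a) + ε' = ε' := by rw [← hw, hw0']; ring
    have hzout : ∀ ψ, ψ ∉ T → z ψ = 0 := by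
      intro ψ hψ
      have := (Finset.sum_eq_zero_iff_of_nonneg (fun ψ _ => mul_self_nonneg (z ψ))).mp hrest0 ψ
        (Finset.mem_sdiff.mpr ⟨Finset.mem_univ ψ, hψ⟩)
      exact mul_self_eq_zero.mp this
    -- degrees as natural numbers
    have hd : ∀ ψ : IrrCharacter G, ∃ d : ℕ, 0 < d ∧ (ψ : G → ℂ) 1 = d ∧ d ∣ Nat.card G :=
      fun ψ => Cfsg.Agent.Lib.Helper05.exists_degree_dvd ψ.2
    choose d hd0 hd1 _ using hd
    have hdeg := sum_coeff_degree N KN hC hab a z hz
    have hdeg' : ∑ ψ : IrrCharacter G, z ψ * (d ψ : ℤ) = 0 := by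
      have : ((∑ ψ : IrrCharacter G, z ψ * (d ψ : ℤ) : ℤ) : ℂ) = 0 := by
        push_cast
        rw [← hdeg]
        apply Finset.sum_congr rfl
        intro ψ _
        rw [hd1 ψ]
      exact_mod_cast this
    have hdegT : ∑ ψ ∈ T, z ψ * (d ψ : ℤ) = 0 := by
      rw [← hdeg']
      apply Finset.sum_subset (Finset.subset_univ T)
      intro ψ _ hψ
      rw [hzout ψ hψ, zero_mul]
    have hdtriv : d (Cfsg.Agent.Lib.Helper83.trivChar G) = 1 := by
      have h := hd1 (Cfsg.Agent.Lib.Helper83.trivChar G)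
      have h2 : ((Cfsg.Agent.Lib.Helper83.trivChar G : IrrCharacter G) : G → ℂ) 1 = 1 := rfl
      rw [h2] at h
      exact_mod_cast h.symm
    rw [hT, Finset.sum_insert htriv, Finset.sum_image (fun x _ y _ h => hf h), h1, hdtriv,
      ← Finset.add_sum_erase Finset.univ _ (Finset.mem_univ a), ← hw, hw0'] at hdegT
    have hsumξ : ∑ ξ ∈ Finset.univ.erase a, z (f ξ) * (d (f ξ) : ℤ)
        = ε' * ∑ ξ ∈ Finset.univ.erase a, (d (f ξ) : ℤ) := by
      rw [Finset.mul_sum]
      apply Finset.sum_congr rfl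
      intro ξ hξ'
      rw [hξ ξ (Finset.ne_of_mem_erase hξ'), hqε]
    rw [hsumξ] at hdegT
    have hDge : (m - 1) ≤ ∑ ξ ∈ Finset.univ.erase a, (d (f ξ) : ℤ) := by
      have : ∑ ξ ∈ Finset.univ.erase a, (1 : ℤ) ≤ ∑ ξ ∈ Finset.univ.erase a, (d (f ξ) : ℤ) :=
        Finset.sum_le_sum (fun ξ _ => by exact_mod_cast hd0 (f ξ))
      rw [Finset.sum_const, Finset.card_erase_of_mem (Finset.mem_univ a), Finset.card_univ,
        nsmul_eq_mul, mul_one, Nat.cast_sub hcpos] at this
      push_cast at this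
      rw [hm]
      exact this
    have hD2 : 2 ≤ ∑ ξ ∈ Finset.univ.erase a, (d (f ξ) : ℤ) := by linarith
    rcases hε'1 with h | h <;> rw [h] at hdegT <;> push_cast at hdegT <;> nlinarith
  refine ⟨ε', hε'1, by linarith, fun ξ hξa => ?_⟩
  rw [hξ ξ hξa, hzero]

end Main

end Cfsg.Agent.Lib.Helper23.Exceptional
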