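import Mathlib
import Cfsg.Agent.Lib.Helper23.Exceptional2
import Cfsg.Agent.Lib.Helper23.ExceptionalSimple
import Cfsg.Agent.Lib.Helper22.InvolutionConv
import Cfsg.Agent.Lib.Helper22.KleinFourBlock

/-!
# Exceptional characters for `e = 2`: the class multiplication constant of the involutions

In the setting of `Exceptional.lean` with `[N : K] = 2`: pairing the decomposition
`(1_K - φ)^G = 1 + δ χ - ε' Λ` with the number of ways of writing an element as a product of two
involutions gives `ε' δ (d t - S)² = |K| |G| d dΛ`, where `d = χ(1)`, `dΛ = Λ(1)`, `t` is the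
number of involutions and `S` the sum of `χ` over the involutions.
-/

set_option autoImplicit false
set_option linter.unusedSectionVars false
set_option linter.style.haveILetI false

namespace Cfsg.Agent.Lib.Helper23.Exceptional

open Cfsg Cfsg.Agent.Lib.Helper34
open Cfsg.Agent.Lib.Helper22 (invInd invConv isClassFunction_invConv classInner_invConv)
open scoped ComplexConjugate

section Two

variable {G : Type*} [Group G] [Fintype G] (N : Subgroup G) [Fintype N] (KN : Subgroup N)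
  [hKN : KN.Normal]
  (hC : ∀ k ∈ KN, k ≠ 1 → Subgroup.centralizer ({k} : Set N) ≤ KN)
  (hab : ∀ a ∈ KN, ∀ b ∈ KN, a * b = b * a)

variable [Fintype (IrrCharacter G)] (a : Rel N KN) (z : IrrCharacter G → ℤ)
  (hz : alph N KN a = ∑ ψ : IrrCharacter G, (z ψ : ℂ) • (ψ : G → ℂ))

include hC in
/-- `α` vanishes at the involutions when `K` has none -/
theorem alph_apply_involution (hord : ∀ k : N, k ∈ KN → orderOf k ≠ 2) (v : G)
    (hv : orderOf v = 2) : alph N KN a v = 0 := by
  unfold alph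
  rw [Cfsg.Agent.Lib.Helper04.indFun_apply]
  apply mul_eq_zero_of_right
  apply Finset.sum_eq_zero
  intro x _
  by_cases hx : x⁻¹ * v * x ∈ N
  · rw [Cfsg.Agent.Lib.Helper04.extendByZero_apply_of_mem N _ _ hx]
    apply gam_vanish N KN hC a
    intro hmem
    apply hord _ hmem
    rw [← Subgroup.orderOf_coe]
    show orderOf (x⁻¹ * v * x) = 2
    have := Cfsg.Agent.Lib.Helper22.orderOf_conj_eq x⁻¹ v
    rw [inv_inv] at this
    rw [this, hv]
  · exact Cfsg.Agent.Lib.Helper04.extendByZero_apply_not_mem N _ _ hx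

include hC hz in
theorem sum_coeff_invSum (hord : ∀ k : N, k ∈ KN → orderOf k ≠ 2) :
    ∑ ψ : IrrCharacter G, (z ψ : ℂ) * (∑ v : G, invInd v * (ψ : G → ℂ) v) = 0 := by
  classical
  have h0 : ∑ v : G, invInd v * alph N KN a v = 0 := by
    apply Finset.sum_eq_zero
    intro v _
    by_cases h : orderOf v = 2
    · rw [alph_apply_involution N KN hC a hord v h, mul_zero]
    · unfold invInd
      rw [if_neg h, zero_mul]
  rw [hz] at h0
  simp only [Finset.sum_apply, Pi.smul_apply, smul_eq_mul, Finset.mul_sum] at h0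
  rw [Finset.sum_comm] at h0
  rw [← h0]
  apply Finset.sum_congr rfl
  intro ψ _
  rw [Finset.mul_sum]
  apply Finset.sum_congr rfl
  intro v _
  ring

include hC hab in
theorem classInner_alph_invConv
    (hinvK : ∀ k : N, k ∈ KN → k ≠ 1 → invConv ((k : N) : G) = (Nat.card KN : ℂ)) :
    classInner (alph N KN a) (invConv (G := G)) = (Nat.card KN : ℂ) := by
  have h1 : classInner (gam N KN a) (fun _ : N => (1 : ℂ)) = 1 := by
    have := inner_alph_one N KN hC a
    unfold alph at this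
    rwa [classInner_indFun_left N _ _ (fun _ _ => rfl)] at this
  unfold alph
  rw [classInner_indFun_left N _ _ isClassFunction_invConv]
  have h2 : classInner (gam N KN a) (fun x : N => invConv (x : G))
      = (Nat.card KN : ℂ) * classInner (gam N KN a) (fun _ : N => (1 : ℂ)) := by
    simp only [classInner_def]
    have hs : ∑ x : N, gam N KN a x * conj (invConv ((x : N) : G))
        = (Nat.card KN : ℂ) * ∑ x : N, gam N KN a x * conj (1 : ℂ) := by
      rw [Finset.mul_sum]
      apply Finset.sum_congr rfl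
      intro x _
      by_cases hx : x ∈ KN ∧ x ≠ 1
      · rw [hinvK x hx.1 hx.2]
        simp
        ring
      · have : gam N KN a x = 0 := by
          by_cases hxK : x ∈ KN
          · have : x = 1 := by
              by_contra h
              exact hx ⟨hxK, h⟩
            rw [this]
            exact gam_one N KN hC hab a
          · exact gam_vanish N KN hC a hxK
        rw [this]
        ring
    rw [hs]
    ring
  rw [h2, h1, mul_one]

include hC hab hz in
theorem sum_coeff_invSq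
    (hinvK : ∀ k : N, k ∈ KN → k ≠ 1 → invConv ((k : N) : G) = (Nat.card KN : ℂ)) :
    ∑ ψ : IrrCharacter G, (z ψ : ℂ) * ((∑ v : G, invInd v * (ψ : G → ℂ) v) *
        (∑ v : G, invInd v * (ψ : G → ℂ) v) / (ψ : G → ℂ) 1)
      = (Nat.card G : ℂ) * (Nat.card KN : ℂ) := by
  have h := classInner_alph_invConv N KN hC hab a hinvK
  rw [hz, classInner_sum_left] at h
  have hG0 : (Nat.card G : ℂ) ≠ 0 := by exact_mod_cast Nat.card_pos.ne'
  have h2 : ∀ ψ : IrrCharacter G, classInner ((z ψ : ℂ) • (ψ : G → ℂ)) (invConv (G := G))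
      = (Nat.card G : ℂ)⁻¹ * ((z ψ : ℂ) * ((∑ v : G, invInd v * (ψ : G → ℂ) v) *
        (∑ v : G, invInd v * (ψ : G → ℂ) v) / (ψ : G → ℂ) 1)) := by
    intro ψ
    rw [classInner_smul_left, ← Cfsg.Agent.Lib.Helper83.classInner_conj_symm,
      classInner_invConv ψ, map_mul, Complex.conj_conj, map_inv₀, Complex.conj_natCast]
    ring
  rw [Finset.sum_congr rfl (fun ψ _ => h2 ψ), ← Finset.mul_sum] at h
  rw [← h]
  field_simp

include hC hab hz in
/-- the class multiplication constant of the involutions against `α = 1 + δ χ - ε' Λ` -/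
theorem two_square
    (hord : ∀ k : N, k ∈ KN → orderOf k ≠ 2)
    (hinvK : ∀ k : N, k ∈ KN → k ≠ 1 → invConv ((k : N) : G) = (Nat.card KN : ℂ))
    (X L : IrrCharacter G) (hXT : X ≠ Cfsg.Agent.Lib.Helper83.trivChar G)
    (hLT : L ≠ Cfsg.Agent.Lib.Helper83.trivChar G) (hXL : X ≠ L)
    (δ ε' : ℤ) (hδ : δ = 1 ∨ δ = -1) (hε' : ε' = 1 ∨ ε' = -1)
    (hzT : z (Cfsg.Agent.Lib.Helper83.trivChar G) = 1) (hzX : z X = δ) (hzL : z L = -ε')
    (hz0 : ∀ ψ, ψ ≠ Cfsg.Agent.Lib.Helper83.trivChar G → ψ ≠ X → ψ ≠ L → z ψ = 0)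
    (d dΛ : ℕ) (hd : (X : G → ℂ) 1 = d) (hdΛ : (L : G → ℂ) 1 = dΛ) (hd0 : 0 < d) (hdΛ0 : 0 < dΛ)
    (hdeg : 1 + δ * (d : ℤ) = ε' * dΛ) :
    ∃ s : ℤ, ε' * δ * (s * s) = (Nat.card KN : ℤ) * (Nat.card G : ℤ) * d * dΛ := by
  classical
  set T := Cfsg.Agent.Lib.Helper83.trivChar G with hT
  have hT1 : ∀ v : G, (T : G → ℂ) v = 1 := fun _ => rfl
  -- only three coefficients are nonzero
  have hcol : ∀ F : IrrCharacter G → ℂ,
      ∑ ψ : IrrCharacter G, (z ψ : ℂ) * F ψ = F T + δ * F X - ε' * F L := by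
    intro F
    have hsub : ∑ ψ ∈ ({T, X, L} : Finset (IrrCharacter G)), (z ψ : ℂ) * F ψ
        = ∑ ψ : IrrCharacter G, (z ψ : ℂ) * F ψ :=
      Finset.sum_subset (Finset.subset_univ _) (fun ψ _ hψ => by
        simp only [Finset.mem_insert, Finset.mem_singleton, not_or] at hψ
        rw [hz0 ψ hψ.1 hψ.2.1 hψ.2.2]
        simp)
    rw [← hsub, Finset.sum_insert (by simp [hXT.symm, hLT.symm]),
      Finset.sum_insert (by simp [hXL]), Finset.sum_singleton, hzT, hzX, hzL]
    push_cast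
    ring
  -- integrality of the sums over the involutions
  obtain ⟨t, ht⟩ : ∃ t : ℤ, ∑ v : G, invInd v * (T : G → ℂ) v = t := by
    refine ⟨((Finset.univ.filter (fun v : G => orderOf v = 2)).card : ℤ), ?_⟩
    have : ∀ v : G, invInd v * (T : G → ℂ) v = if orderOf v = 2 then 1 else 0 := by
      intro v
      unfold invInd
      rw [hT1 v, mul_one]
    rw [Finset.sum_congr rfl (fun v _ => this v), Finset.sum_boole]
    push_cast
    rfl
  obtain ⟨S, hS⟩ : ∃ S : ℤ, ∑ v : G, invInd v * (X : G → ℂ) v = S := by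
    have : ∀ v : G, ∃ n : ℤ, invInd v * (X : G → ℂ) v = n := by
      intro v
      by_cases h : orderOf v = 2
      · obtain ⟨n, hn⟩ := Cfsg.Agent.Lib.Helper22.exists_int_char_of_orderOf_two
          (Cfsg.Agent.Lib.Helper83.IrrCharacter_isCharacter X) v h
        exact ⟨n, by unfold invInd; rw [if_pos h, one_mul, hn]⟩
      · exact ⟨0, by unfold invInd; rw [if_neg h, zero_mul]; simp⟩
    choose n hn using this
    exact ⟨∑ v, n v, by rw [Finset.sum_congr rfl (fun v _ => hn v)]; push_cast; rfl⟩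
  set SL := ∑ v : G, invInd v * (L : G → ℂ) v with hSLdef
  have e1 := sum_coeff_invSum N KN hC a z hz hord
  rw [hcol (fun ψ => ∑ v : G, invInd v * (ψ : G → ℂ) v)] at e1
  rw [ht, hS] at e1
  have e2 := sum_coeff_invSq N KN hC hab a z hz hinvK
  rw [hcol (fun ψ => (∑ v : G, invInd v * (ψ : G → ℂ) v) *
        (∑ v : G, invInd v * (ψ : G → ℂ) v) / (ψ : G → ℂ) 1)] at e2
  rw [ht, hS, hd, hdΛ, hT1 1, ← hSLdef] at e2
  have hε2 : (ε' : ℂ) * ε' = 1 := by rcases hε' with h | h <;> rw [h] <;> norm_num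
  have hδ2 : (δ : ℂ) * δ = 1 := by rcases hδ with h | h <;> rw [h] <;> norm_num
  have hSL : SL = ε' * (t + δ * S) := by
    linear_combination (-(ε' : ℂ)) * e1 - SL * hε2
  have hdegC : (1 : ℂ) + δ * d = ε' * dΛ := by exact_mod_cast congrArg (Int.cast : ℤ → ℂ) hdeg
  have hdΛC : (dΛ : ℂ) = ε' * (1 + δ * d) := by
    linear_combination (-(ε' : ℂ)) * hdegC - (dΛ : ℂ) * hε2
  have hd0C : (d : ℂ) ≠ 0 := by exact_mod_cast hd0.ne'
  have hdΛ0C : (dΛ : ℂ) ≠ 0 := by exact_mod_cast hdΛ0.ne'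
  have e3 : (t : ℂ) * t * d * dΛ + δ * (S * S) * dΛ - ε' * (SL * SL) * d
      = (Nat.card G : ℂ) * (Nat.card KN : ℂ) * d * dΛ := by
    rw [← e2]
    field_simp
  refine ⟨d * t - S, ?_⟩
  have hfin : ((ε' * δ * (((d : ℤ) * t - S) * ((d : ℤ) * t - S)) : ℤ) : ℂ)
      = (((Nat.card KN : ℤ) * (Nat.card G : ℤ) * d * dΛ : ℤ) : ℂ) := by
    push_cast
    rw [hSL] at e3
    have key : (ε' : ℂ) * δ * (((d : ℂ) * t - S) * ((d : ℂ) * t - S))
        = (t : ℂ) * t * d * dΛ + δ * (S * S) * dΛ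
          - ε' * ((ε' * (t + δ * S)) * (ε' * (t + δ * S))) * d := by
      rw [hdΛC]
      linear_combination ((ε' : ℂ) * d * (((t : ℂ) + δ * S) * ((t : ℂ) + δ * S))) * hε2
    rw [key, e3]
    ring
  exact_mod_cast hfin

end Two

end Cfsg.Agent.Lib.Helper23.Exceptional
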