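import Mathlib
import Cfsg.Agent.Lib.Helper23.ExceptionalTwo
import Cfsg.Agent.Lib.Helper23.SylowPerm

/-!
# The square identity for a Sylow subgroup of prime order with dihedral normalizer

For a non-abelian simple group `G` with a self-centralizing Sylow `p`-subgroup `P` of order
`p ≥ 7` whose normalizer has order `2p`: there are a sign `δ` and degrees `d ≡ δ (mod p)`,
`dΛ = d + δ` of irreducible characters such that `p |G| d dΛ` is a perfect square.
-/

set_option autoImplicit false
set_option linter.unusedSectionVars false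
set_option linter.style.haveILetI false

namespace Cfsg.Agent.Lib.Helper23.Exceptional

open Cfsg Cfsg.Agent.Lib.Helper34
open Cfsg.Agent.Lib.Helper22 (invInd invConv)

/-- In a group where the subgroup `P` of odd prime order `p` is self-centralizing with normalizer
of order `2p`, a non-identity element of `P` is a product of two involutions in exactly `p`
ways. -/
theorem invConv_eq_of_dihedral {G : Type*} [Group G] [Fintype G] (P : Subgroup G) (p : ℕ)
    [Fact p.Prime] (hp2 : p ≠ 2) (hP : Nat.card P = p)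
    (hCP : Subgroup.centralizer (P : Set G) = P)
    (hN : Nat.card (Subgroup.normalizer (P : Set G)) = p * 2) (k : G) (hk : k ∈ P) (hk1 : k ≠ 1) :
    invConv k = (p : ℂ) := by
  classical
  have hp : p.Prime := Fact.out
  have hPfin : Finite P := inferInstance
  have hordk : orderOf k = p := by
    have h1 : orderOf k ∣ p := by
      rw [← hP]
      have := orderOf_dvd_natCard (⟨k, hk⟩ : P)
      rwa [Subgroup.orderOf_mk] at this
    rcases (Nat.dvd_prime hp).mp h1 with h | h
    · exact absurd (orderOf_eq_one_iff.mp h) hk1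
    · exact h
  have hgen : Subgroup.zpowers k = P := by
    apply Subgroup.eq_of_le_of_card_ge (Subgroup.zpowers_le.mpr hk)
    rw [hP, Nat.card_zpowers, hordk]
  have hab : ∀ a ∈ P, ∀ b ∈ P, a * b = b * a := by
    intro a ha b hb
    have : a ∈ Subgroup.centralizer (P : Set G) := by rw [hCP]; exact ha
    exact (Subgroup.mem_centralizer_iff.mp this b hb).symm
  have hidx : (P.subgroupOf (Subgroup.normalizer (P : Set G))).index = 2 := by
    have h1 := Subgroup.relIndex_mul_relIndex ⊥ P
      (Subgroup.normalizer (P : Set G)) bot_le Subgroup.le_normalizer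
    rw [Subgroup.relIndex_bot_left, Subgroup.relIndex_bot_left, hP, hN] at h1
    rw [← Subgroup.relIndex]
    exact Nat.eq_of_mul_eq_mul_left hp.pos h1
  have hsq : ∀ u ∈ Subgroup.normalizer (P : Set G), u ^ 2 ∈ P := by
    intro u hu
    have := Subgroup.sq_mem_of_index_two hidx (⟨u, hu⟩ : ↥(Subgroup.normalizer (P : Set G)))
    rw [Subgroup.mem_subgroupOf] at this
    exact this
  have hpowP : ∀ w ∈ P, w ^ p = 1 := by
    intro w hw
    have := pow_card_eq_one' (G := ↥P) (x := ⟨w, hw⟩)
    rw [hP] at this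
    exact congrArg Subtype.val this
  have h2p : Nat.Coprime 2 p := by
    rw [Nat.coprime_primes Nat.prime_two hp]
    exact fun h => hp2 h.symm
  have key : ∀ u : G, (orderOf u = 2 ∧ orderOf (u⁻¹ * k) = 2) ↔
      (u ∈ Subgroup.normalizer (P : Set G) ∧ u ∉ P) := by
    intro u
    constructor
    · rintro ⟨ho, ho'⟩
      have hu2 : u * u = 1 := by
        have := pow_orderOf_eq_one u
        rwa [ho, pow_two] at this
      have huinv : u⁻¹ = u := inv_eq_of_mul_eq_one_left hu2
      have h2 : u * k * (u * k) = 1 := by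
        have := pow_orderOf_eq_one (u⁻¹ * k)
        rwa [ho', pow_two, huinv] at this
      have hconj : u * k * u⁻¹ = k⁻¹ := by
        rw [huinv]
        have : u * k * u * k = 1 := by rw [← h2]; group
        exact eq_inv_of_mul_eq_one_left this
      refine ⟨?_, ?_⟩
      · apply mem_normalizer_of_conj_mem P u
        intro x hx
        have hx' : x ∈ Subgroup.zpowers k := by rw [hgen]; exact hx
        obtain ⟨m, rfl⟩ := Subgroup.mem_zpowers_iff.mp hx'
        have : u * k ^ m * u⁻¹ = (u * k * u⁻¹) ^ m := (conj_zpow (a := u) (b := k) (i := m)).symm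
        rw [this, hconj]
        exact Subgroup.zpow_mem _ (Subgroup.inv_mem _ hk) m
      · intro huP
        have hc := hab u huP k hk
        have hkk : k = k⁻¹ := by
          rw [← hconj, hc, mul_inv_cancel_right]
        have hk2 : k ^ 2 = 1 := by
          rw [pow_two]
          nth_rewrite 1 [hkk]
          exact inv_mul_cancel k
        have := orderOf_dvd_of_pow_eq_one hk2
        rw [hordk] at this
        have := (Nat.prime_dvd_prime_iff_eq hp Nat.prime_two).mp this
        exact hp2 this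
    · rintro ⟨huN, huP⟩
      have hu2C : u ^ 2 ∈ Subgroup.centralizer (P : Set G) := by rw [hCP]; exact hsq u huN
      have hinv : ∀ x ∈ P, u * x * u⁻¹ = x⁻¹ := by
        rcases SylowPerm.mem_centralizer_or_inverts p P hP u huN hu2C with h | h
        · rw [hCP] at h
          exact absurd h huP
        · exact h
      have hw := hinv (u ^ 2) (hsq u huN)
      have hw' : u * u ^ 2 * u⁻¹ = u ^ 2 := by group
      rw [hw'] at hw
      have hw4 : (u ^ 2) ^ 2 = 1 := by
        rw [pow_two]
        nth_rewrite 1 [hw]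
        exact inv_mul_cancel _
      have hu2 : u ^ 2 = 1 := by
        have h1 := orderOf_dvd_of_pow_eq_one hw4
        have h2 := orderOf_dvd_of_pow_eq_one (hpowP _ (hsq u huN))
        have := Nat.dvd_gcd h1 h2
        rw [h2p] at this
        exact orderOf_eq_one_iff.mp (Nat.dvd_one.mp this)
      have hu1 : u ≠ 1 := fun h => huP (by rw [h]; exact P.one_mem)
      have huu : u * u = 1 := by rwa [pow_two] at hu2
      have huinv : u⁻¹ = u := inv_eq_of_mul_eq_one_left huu
      refine ⟨orderOf_eq_prime hu2 hu1, orderOf_eq_prime ?_ ?_⟩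
      · rw [pow_two, huinv]
        have hk' := hinv k hk
        calc u * k * (u * k) = (u * k * u⁻¹) * (u * u) * k := by group
          _ = 1 := by rw [hk', huu]; group
      · intro h
        apply huP
        rw [inv_mul_eq_one.mp h]
        exact hk
  unfold invConv
  have hterm : ∀ u : G, invInd u * invInd (u⁻¹ * k)
      = if (u ∈ Subgroup.normalizer (P : Set G) ∧ u ∉ P) then 1 else 0 := by
    intro u
    unfold invInd
    by_cases h : u ∈ Subgroup.normalizer (P : Set G) ∧ u ∉ P
    · rw [if_pos h, if_pos ((key u).mpr h).1, if_pos ((key u).mpr h).2, mul_one]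
    · rw [if_neg h]
      by_cases h1 : orderOf u = 2
      · have h2 : ¬ orderOf (u⁻¹ * k) = 2 := fun h2 => h ((key u).mp ⟨h1, h2⟩)
        rw [if_neg h2, mul_zero]
      · rw [if_neg h1, zero_mul]
  rw [Finset.sum_congr rfl (fun u _ => hterm u), Finset.sum_boole]
  have hcardN : (Finset.univ.filter (fun u : G => u ∈ Subgroup.normalizer (P : Set G))).card
      = p * 2 := by
    rw [← hN, Nat.card_eq_fintype_card, Fintype.card_subtype]
  have hcardP : (Finset.univ.filter (fun u : G => u ∈ P)).card = p := by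
    rw [← hP, Nat.card_eq_fintype_card, Fintype.card_subtype]
  have hsplit := Finset.card_filter_add_card_filter_not
    (s := Finset.univ.filter (fun u : G => u ∈ Subgroup.normalizer (P : Set G)))
    (fun u : G => u ∈ P)
  rw [Finset.filter_filter, Finset.filter_filter, hcardN] at hsplit
  have h1 : (Finset.univ.filter
      (fun u : G => u ∈ Subgroup.normalizer (P : Set G) ∧ u ∈ P)).card = p := by
    rw [← hcardP]
    congr 1
    ext u
    simp only [Finset.mem_filter, Finset.mem_univ, true_and]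
    exact ⟨fun h => h.2, fun h => ⟨Subgroup.le_normalizer h, h⟩⟩
  rw [h1] at hsplit
  have : (Finset.univ.filter
      (fun u : G => u ∈ Subgroup.normalizer (P : Set G) ∧ u ∉ P)).card = p := by omega
  rw [this]

/-- a sum against coefficients supported on three characters -/
theorem sum_coeff_three {G : Type*} [Group G] [Fintype (IrrCharacter G)] (z : IrrCharacter G → ℤ)
    (T X L : IrrCharacter G) (hXT : X ≠ T) (hLT : L ≠ T) (hXL : X ≠ L) (δ ε' : ℤ)
    (hzT : z T = 1) (hzX : z X = δ) (hzL : z L = -ε')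
    (hz0 : ∀ ψ, ψ ≠ T → ψ ≠ X → ψ ≠ L → z ψ = 0) (F : IrrCharacter G → ℂ) :
    ∑ ψ : IrrCharacter G, (z ψ : ℂ) * F ψ = F T + δ * F X - ε' * F L := by
  classical
  have hsub : ∑ ψ ∈ ({T, X, L} : Finset (IrrCharacter G)), (z ψ : ℂ) * F ψ
      = ∑ ψ : IrrCharacter G, (z ψ : ℂ) * F ψ :=
    Finset.sum_subset (Finset.subset_univ _) (fun ψ _ hψ => by
      simp only [Finset.mem_insert, Finset.mem_singleton, not_or] at hψ
      rw [hz0 ψ hψ.1 hψ.2.1 hψ.2.2]
      simp)
  rw [← hsub, Finset.sum_insert (by simp [hXT.symm, hLT.symm]),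
    Finset.sum_insert (by simp [hXL]), Finset.sum_singleton, hzT, hzX, hzL]
  push_cast
  ring

theorem exists_exceptional_two_square {G : Type*} [Group G] [Fintype G]
    [Fintype (IrrCharacter G)] (P : Subgroup G) (p : ℕ) [Fact p.Prime] (hP : Nat.card P = p)
    (hCP : Subgroup.centralizer (P : Set G) = P)
    (hN : Nat.card (Subgroup.normalizer (P : Set G)) = p * 2) (hp7 : 7 ≤ p)
    (hperf : ∀ ψ : IrrCharacter G, (ψ : G → ℂ) 1 = 1 → ψ = Cfsg.Agent.Lib.Helper83.trivChar G) :
    ∃ (δ : ℤ) (d dΛ : ℕ) (s : ℤ), (δ = 1 ∨ δ = -1) ∧ 1 < d ∧ d ∣ Nat.card G ∧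
      (d : ℤ) ≡ δ [ZMOD p] ∧ 0 < dΛ ∧ dΛ ∣ Nat.card G ∧ (dΛ : ℤ) = d + δ ∧
      s * s = (p : ℤ) * (Nat.card G : ℤ) * d * dΛ := by
  classical
  have hp : p.Prime := Fact.out
  have hp2 : p ≠ 2 := by omega
  have hPfin : Finite P := inferInstance
  have he : (P.subgroupOf (Subgroup.normalizer (P : Set G))).index = 2 := by
    have h1 := Subgroup.relIndex_mul_relIndex ⊥ P
      (Subgroup.normalizer (P : Set G)) bot_le Subgroup.le_normalizer
    rw [Subgroup.relIndex_bot_left, Subgroup.relIndex_bot_left, hP, hN] at h1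
    rw [← Subgroup.relIndex]
    exact Nat.eq_of_mul_eq_mul_left hp.pos h1
  -- `P` is generated by each of its non-identity elements
  have hgen : ∀ k ∈ P, k ≠ 1 → Subgroup.zpowers k = P := by
    intro k hk hk1
    apply Subgroup.eq_of_le_of_card_ge (Subgroup.zpowers_le.mpr hk)
    rw [hP, Nat.card_zpowers]
    have h1 : orderOf k ∣ p := by
      rw [← hP]
      have := orderOf_dvd_natCard (⟨k, hk⟩ : P)
      rwa [Subgroup.orderOf_mk] at this
    rcases (Nat.dvd_prime hp).mp h1 with h | h
    · exact absurd (orderOf_eq_one_iff.mp h) hk1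
    · exact h.ge
  have hab : ∀ a ∈ P, ∀ b ∈ P, a * b = b * a := by
    intro a ha b hb
    have : a ∈ Subgroup.centralizer (P : Set G) := by rw [hCP]; exact ha
    exact (Subgroup.mem_centralizer_iff.mp this b hb).symm
  have hC : ∀ k ∈ P, k ≠ 1 → Subgroup.centralizer ({k} : Set G) ≤ P := by
    intro k hk hk1 x hx
    rw [← hCP, Subgroup.mem_centralizer_iff]
    intro y hy
    have hy' : y ∈ Subgroup.zpowers k := by rw [hgen k hk hk1]; exact hy
    obtain ⟨m, rfl⟩ := Subgroup.mem_zpowers_iff.mp hy'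
    have hkx : k * x = x * k := Subgroup.mem_centralizer_iff.mp hx k (Set.mem_singleton k)
    have : Commute x k := hkx.symm
    exact (this.zpow_right m).eq.symm
  have hTI : ∀ g : G, g ∉ Subgroup.normalizer (P : Set G) → ∀ k ∈ P, g * k * g⁻¹ ∈ P → k = 1 := by
    intro g hg k hk hgk
    by_contra hk1
    apply hg
    apply mem_normalizer_of_conj_mem P g
    intro x hx
    have hx' : x ∈ Subgroup.zpowers k := by rw [hgen k hk hk1]; exact hx
    obtain ⟨m, rfl⟩ := Subgroup.mem_zpowers_iff.mp hx'
    have : g * k ^ m * g⁻¹ = (g * k * g⁻¹) ^ m := (conj_zpow (a := g) (b := k) (i := m)).symm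
    rw [this]
    exact Subgroup.zpow_mem _ hgk m
  have hlt : P < Subgroup.normalizer (P : Set G) := by
    refine lt_of_le_of_ne Subgroup.le_normalizer ?_
    intro h
    have h1 : P.subgroupOf (Subgroup.normalizer (P : Set G)) = ⊤ := by
      rw [Subgroup.subgroupOf_eq_top]
      exact h.ge
    rw [h1, Subgroup.index_top] at he
    omega
  letI : Fintype ↥(Subgroup.normalizer (P : Set G)) := Fintype.ofFinite _
  haveI : (P.subgroupOf (Subgroup.normalizer (P : Set G))).Normal := Subgroup.normal_in_normalizer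
  have hcardK : Nat.card (P.subgroupOf (Subgroup.normalizer (P : Set G))) = p := by
    rw [Nat.card_congr (Subgroup.subgroupOfEquivOfLe Subgroup.le_normalizer).toEquiv, hP]
  rcases Cfsg.Agent.S0851.result P hTI hlt hC hab with ⟨-, q, -, -, hcard⟩ | ⟨ε, f, hε, hf, hfε⟩
  · exfalso
    rw [hP, he] at hcard
    omega
  have hC' := frobTI_hC P hC
  have hab' : ∀ a ∈ P.subgroupOf (Subgroup.normalizer (P : Set G)),
      ∀ b ∈ P.subgroupOf (Subgroup.normalizer (P : Set G)), a * b = b * a := by
    intro a ha b hb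
    exact Subtype.ext (hab (a : G) ha (b : G) hb)
  have hiso : ∀ α β : ↥(Subgroup.normalizer (P : Set G)) → ℂ,
      Cfsg.IsClassFunction ↥(Subgroup.normalizer (P : Set G)) α →
      Cfsg.IsClassFunction ↥(Subgroup.normalizer (P : Set G)) β →
      (∀ x : ↥(Subgroup.normalizer (P : Set G)),
        x ∉ P.subgroupOf (Subgroup.normalizer (P : Set G)) → α x = 0) →
      (∀ x : ↥(Subgroup.normalizer (P : Set G)),
        x ∉ P.subgroupOf (Subgroup.normalizer (P : Set G)) → β x = 0) → α 1 = 0 →
      Cfsg.classInner (Cfsg.indFun (Subgroup.normalizer (P : Set G)) α)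
        (Cfsg.indFun (Subgroup.normalizer (P : Set G)) β) = Cfsg.classInner α β := by
    intro α β hα hβ hαoff hβoff hα1
    exact Cfsg.Agent.Lib.Helper04.indFun_isometry_on_ti (P : Set G) hTI
      (fun x hx => Subgroup.le_normalizer hx) α β hα hβ (fun x hx => hαoff x hx)
      (fun x hx => hβoff x hx) hα1
  -- the number of relevant characters
  have hcr := card_rel (Subgroup.normalizer (P : Set G))
    (P.subgroupOf (Subgroup.normalizer (P : Set G))) hC' hab'
  rw [hcardK, he] at hcr
  have hcr' : Nat.card (Rel (Subgroup.normalizer (P : Set G))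
      (P.subgroupOf (Subgroup.normalizer (P : Set G)))) * 2 + 1 = p := by exact_mod_cast hcr
  have hcardR : (P.subgroupOf (Subgroup.normalizer (P : Set G))).index + 1
      ≤ Nat.card (Rel (Subgroup.normalizer (P : Set G))
        (P.subgroupOf (Subgroup.normalizer (P : Set G)))) := by
    rw [he]
    omega
  have hne : Nonempty (Rel (Subgroup.normalizer (P : Set G))
      (P.subgroupOf (Subgroup.normalizer (P : Set G)))) := by
    by_contra hcon
    rw [not_nonempty_iff] at hcon
    have : Nat.card (Rel (Subgroup.normalizer (P : Set G))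
      (P.subgroupOf (Subgroup.normalizer (P : Set G)))) = 0 := Nat.card_of_isEmpty
    omega
  obtain ⟨a⟩ := hne
  obtain ⟨z, hz⟩ := exists_int_coeff (alph_isGeneralizedCharacter
    (Subgroup.normalizer (P : Set G)) (P.subgroupOf (Subgroup.normalizer (P : Set G))) a)
  obtain ⟨ε', hε', hza, hzξ⟩ :=
    exc_coeff' (Subgroup.normalizer (P : Set G)) (P.subgroupOf (Subgroup.normalizer (P : Set G)))
      hC' hab' hiso ε f hε hf hfε a z hz hperf hcardR (by rw [he])
  set T := Cfsg.Agent.Lib.Helper83.trivChar G with hT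
  have hzT : z T = 1 := coeff_triv (Subgroup.normalizer (P : Set G))
    (P.subgroupOf (Subgroup.normalizer (P : Set G))) hC' a z hz
  have hLT : f a ≠ T := triv_notMem_range (Subgroup.normalizer (P : Set G))
    (P.subgroupOf (Subgroup.normalizer (P : Set G))) hC' hab' ε f hε hf hfε hperf (by omega) a
  have hsq := sum_sq_coeff (Subgroup.normalizer (P : Set G))
    (P.subgroupOf (Subgroup.normalizer (P : Set G))) hC' hab' hiso a z hz
  rw [he] at hsq
  -- the third constituent
  set s : Finset (IrrCharacter G) :=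
    ((Finset.univ.erase T).erase (f a)).filter (fun ψ => z ψ ≠ 0) with hs
  have hssum : ∑ ψ ∈ s, z ψ * z ψ = 1 := by
    have hΛmem : f a ∈ Finset.univ.erase T := Finset.mem_erase.mpr ⟨hLT, Finset.mem_univ _⟩
    have h1 : ∑ ψ ∈ s, z ψ * z ψ = ∑ ψ ∈ (Finset.univ.erase T).erase (f a), z ψ * z ψ := by
      rw [hs, Finset.sum_filter]
      apply Finset.sum_congr rfl
      intro ψ _
      by_cases h : z ψ = 0
      · simp [h]
      · simp [h]
    rw [h1]
    have h2 := Finset.add_sum_erase (Finset.univ.erase T) (fun ψ => z ψ * z ψ) hΛmem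
    have h3 := Finset.add_sum_erase Finset.univ (fun ψ => z ψ * z ψ) (Finset.mem_univ T)
    rw [hsq, hzT] at h3
    simp only [hza] at h2
    have hε2 : -ε' * -ε' = 1 := by rcases hε' with h | h <;> rw [h] <;> norm_num
    rw [hε2] at h2
    push_cast at h3
    linarith
  obtain ⟨X, hsX, hzX⟩ := sum_sq_eq_one s z (fun ψ hψ => (Finset.mem_filter.mp hψ).2) hssum
  have hXmem : X ∈ s := by rw [hsX]; exact Finset.mem_singleton_self X
  rw [hs, Finset.mem_filter, Finset.mem_erase, Finset.mem_erase] at hXmem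
  obtain ⟨⟨hXL, hXT, -⟩, hzX0⟩ := hXmem
  have hz0 : ∀ ψ, ψ ≠ T → ψ ≠ X → ψ ≠ f a → z ψ = 0 := by
    intro ψ h1 h2 h3
    by_contra h
    have : ψ ∈ s := by
      rw [hs, Finset.mem_filter, Finset.mem_erase, Finset.mem_erase]
      exact ⟨⟨h3, h1, Finset.mem_univ _⟩, h⟩
    rw [hsX, Finset.mem_singleton] at this
    exact h2 this
  have hXf : ∀ χ, f χ ≠ X := by
    intro χ hχ
    by_cases hχa : χ = a
    · exact hXL (by rw [← hχ, hχa])
    · exact hzX0 (by rw [← hχ]; exact hzξ χ hχa)
  -- degrees
  obtain ⟨d, hd0, hd1, hddvd⟩ := Cfsg.Agent.Lib.Helper05.exists_degree_dvd X.2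
  obtain ⟨dΛ, hdΛ0, hdΛ1, hdΛdvd⟩ := Cfsg.Agent.Lib.Helper05.exists_degree_dvd (f a).2
  have hdeg := sum_coeff_degree (Subgroup.normalizer (P : Set G))
    (P.subgroupOf (Subgroup.normalizer (P : Set G))) hC' hab' a z hz
  rw [sum_coeff_three z T X (f a) hXT hLT hXL (z X) ε' hzT rfl hza hz0
    (fun ψ => (ψ : G → ℂ) 1), hd1, hdΛ1] at hdeg
  have hT1 : (T : G → ℂ) 1 = 1 := rfl
  rw [hT1] at hdeg
  have hdegZ : 1 + z X * (d : ℤ) = ε' * dΛ := by
    have : ((1 + z X * (d : ℤ) : ℤ) : ℂ) = ((ε' * dΛ : ℤ) : ℂ) := by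
      push_cast
      linear_combination hdeg
    exact_mod_cast this
  -- the congruence
  have hcong : (d : ℤ) ≡ z X [ZMOD p] := by
    obtain ⟨b, hb⟩ := degree_congr (Subgroup.normalizer (P : Set G))
      (P.subgroupOf (Subgroup.normalizer (P : Set G))) hC' hab' ε f hε hfε a z hz X hXf
    rw [hcardK, hd1] at hb
    have hb' : (d : ℤ) = (p : ℤ) * b + z X := by exact_mod_cast hb
    rw [hb']
    show ((p : ℤ) * b + z X) % (p : ℤ) = z X % (p : ℤ)
    rw [add_comm, Int.add_mul_emod_self_left]
  -- the square identity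
  have hord : ∀ k : ↥(Subgroup.normalizer (P : Set G)),
      k ∈ P.subgroupOf (Subgroup.normalizer (P : Set G)) → orderOf k ≠ 2 := by
    intro k hk h2
    rw [Subgroup.mem_subgroupOf] at hk
    have h1 : orderOf (k : G) ∣ p := by
      rw [← hP]
      have := orderOf_dvd_natCard (⟨(k : G), hk⟩ : P)
      rwa [Subgroup.orderOf_mk] at this
    rw [Subgroup.orderOf_coe, h2] at h1
    exact hp2 ((Nat.prime_dvd_prime_iff_eq Nat.prime_two hp).mp h1).symm
  have hinvK : ∀ k : ↥(Subgroup.normalizer (P : Set G)),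
      k ∈ P.subgroupOf (Subgroup.normalizer (P : Set G)) → k ≠ 1 →
      invConv ((k : ↥(Subgroup.normalizer (P : Set G))) : G)
        = (Nat.card (P.subgroupOf (Subgroup.normalizer (P : Set G))) : ℂ) := by
    intro k hk hk1
    rw [hcardK]
    rw [Subgroup.mem_subgroupOf] at hk
    exact invConv_eq_of_dihedral P p hp2 hP hCP hN (k : G) hk
      (fun h => hk1 (Subtype.ext h))
  obtain ⟨s', hs'⟩ := two_square (Subgroup.normalizer (P : Set G))
    (P.subgroupOf (Subgroup.normalizer (P : Set G))) hC' hab' a z hz hord hinvK X (f a) hXT hLT hXL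
    (z X) ε' hzX hε' hzT rfl hza hz0 d dΛ hd1 hdΛ1 hd0 hdΛ0 hdegZ
  rw [hcardK] at hs'
  have hpos : (0 : ℤ) < (p : ℤ) * (Nat.card G : ℤ) * d * dΛ := by
    have h1 : (0 : ℤ) < (p : ℤ) := by exact_mod_cast hp.pos
    have h2 : (0 : ℤ) < (Nat.card G : ℤ) := by exact_mod_cast Nat.card_pos
    have h3 : (0 : ℤ) < (d : ℤ) := by exact_mod_cast hd0
    have h4 : (0 : ℤ) < (dΛ : ℤ) := by exact_mod_cast hdΛ0
    positivity
  have hεδ : ε' = z X := by
    rcases hε' with h | h <;> rcases hzX with h' | h' <;> rw [h, h'] at hs' ⊢ <;>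
      first | rfl | (exfalso; nlinarith [mul_self_nonneg s'])
  refine ⟨z X, d, dΛ, s', hzX, ?_, hddvd, hcong, hdΛ0, hdΛdvd, ?_, ?_⟩
  · by_contra hle
    have h1 : d = 1 := by omega
    apply hXT
    apply hperf
    rw [hd1, h1]
    simp
  · rw [hεδ] at hdegZ
    rcases hzX with h | h <;> rw [h] at hdegZ ⊢ <;> linarith
  · rw [← hs', hεδ]
    rcases hzX with h | h <;> rw [h] <;> ring

/-- The square identity in a non-abelian simple group: for a Sylow `p`-subgroup `P` of order
`p ≥ 7` with `|C_G(P)| = p`, `|N_G(P)| = 2p`, there are a sign `δ` and degrees `d ≡ δ (mod p)`,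
`dΛ = d + δ` dividing `|G|` with `p |G| d dΛ` a perfect square. -/
theorem exceptional_two_square {G : Type*} [Group G] [Finite G] [IsSimpleGroup G]
    (hnc : ¬ IsMulCommutative G) (p : ℕ) [Fact p.Prime] (P : Sylow p G)
    (hP : Nat.card (P : Subgroup G) = p)
    (hCP : Nat.card (Subgroup.centralizer ((P : Subgroup G) : Set G)) = p)
    (hN : Nat.card (Subgroup.normalizer ((P : Subgroup G) : Set G)) = p * 2)
    (hp7 : 7 ≤ p) :
    ∃ (δ : ℤ) (d dΛ : ℕ) (s : ℤ), (δ = 1 ∨ δ = -1) ∧ 1 < d ∧ d ∣ Nat.card G ∧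
      (d : ℤ) ≡ δ [ZMOD p] ∧ 0 < dΛ ∧ dΛ ∣ Nat.card G ∧ (dΛ : ℤ) = d + δ ∧
      s * s = (p : ℤ) * (Nat.card G : ℤ) * d * dΛ := by
  classical
  letI : Fintype G := Fintype.ofFinite G
  haveI : Finite (IrrCharacter G) := Cfsg.Agent.Lib.Helper05.finite_irrCharacter
  letI : Fintype (IrrCharacter G) := Fintype.ofFinite _
  have hcyc : IsCyclic (P : Subgroup G) := isCyclic_of_prime_card hP
  have hPle : (P : Subgroup G) ≤ Subgroup.centralizer ((P : Subgroup G) : Set G) := by
    intro x hx
    rw [Subgroup.mem_centralizer_iff]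
    intro y hy
    have := (IsCyclic.isMulCommutative (α := ↥(P : Subgroup G))).is_comm.comm ⟨y, hy⟩ ⟨x, hx⟩
    exact congrArg Subtype.val this
  have hCPeq : Subgroup.centralizer ((P : Subgroup G) : Set G) = (P : Subgroup G) :=
    (Subgroup.eq_of_le_of_card_ge hPle (by rw [hP, hCP])).symm
  exact exists_exceptional_two_square (P : Subgroup G) p hP hCPeq hN hp7
    (linear_trivial_of_simple hnc)

end Cfsg.Agent.Lib.Helper23.Exceptional
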