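import Mathlib
import Cfsg.Agent.Lib.Helper23.ExceptionalTwoMain

/-!
# Exceptional characters for a self-centralizing Sylow subgroup of prime order with dihedral
normalizer: the characters themselves

A version of `exists_exceptional_two_square` exporting the characters: a non-exceptional character
`X`, the set `E` of exceptional characters (all of the same degree), and the fact that every other
non-principal irreducible character has degree divisible by `p`.
-/

set_option autoImplicit false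
set_option linter.unusedSectionVars false
set_option linter.style.haveILetI false

namespace Cfsg.Agent.Lib.Helper23.Exceptional

open Cfsg Cfsg.Agent.Lib.Helper34
open Cfsg.Agent.Lib.Helper22 (invInd invConv)

theorem exists_exceptional_two_chars {G : Type*} [Group G] [Fintype G]
    [Fintype (IrrCharacter G)] (P : Subgroup G) (p : ℕ) [Fact p.Prime] (hP : Nat.card P = p)
    (hCP : Subgroup.centralizer (P : Set G) = P)
    (hN : Nat.card (Subgroup.normalizer (P : Set G)) = p * 2) (hp7 : 7 ≤ p)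
    (hperf : ∀ ψ : IrrCharacter G, (ψ : G → ℂ) 1 = 1 → ψ = Cfsg.Agent.Lib.Helper83.trivChar G) :
    ∃ (X : IrrCharacter G) (E : Set (IrrCharacter G)) (δ : ℤ) (d dΛ : ℕ) (s : ℤ),
      (X : G → ℂ) 1 = d ∧ (∀ L ∈ E, (L : G → ℂ) 1 = dΛ) ∧
      (∀ ψ : IrrCharacter G, ψ = Cfsg.Agent.Lib.Helper83.trivChar G ∨ ψ = X ∨ ψ ∈ E ∨
        ∃ b : ℤ, (ψ : G → ℂ) 1 = (p : ℂ) * b) ∧
      (δ = 1 ∨ δ = -1) ∧ 1 < d ∧ d ∣ Nat.card G ∧
      (d : ℤ) ≡ δ [ZMOD p] ∧ 0 < dΛ ∧ dΛ ∣ Nat.card G ∧ (dΛ : ℤ) = d + δ ∧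
      s * s = (p : ℤ) * (Nat.card G : ℤ) * d * dΛ := by
  classical
  have hp : p.Prime := Fact.out
  have hp2 : p ≠ 2 := by omega
  have hPfin : Finite P := inferInstance
  have he : (P.subgroupOf (Subgroup.normalizer (P : Set G))).index = 2 := by
    have h1 := Subgroup.relIndex_mul_relIndex ⊥ P
      (Subgroup.normalizer (P : Set G)) bot_le Subgroup.le_normalizer
    rw [Subgroup.relIndex_bot_left, Subgroup.relIndex_bot_left, hP, hN] at h1
    rw [← Subgroup.relIndex]
    exact Nat.eq_of_mul_eq_mul_left hp.pos h1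
  -- `P` is generated by each of its non-identity elements
  have hgen : ∀ k ∈ P, k ≠ 1 → Subgroup.zpowers k = P := by
    intro k hk hk1
    apply Subgroup.eq_of_le_of_card_ge (Subgroup.zpowers_le.mpr hk)
    rw [hP, Nat.card_zpowers]
    have h1 : orderOf k ∣ p := by
      rw [← hP]
      have := orderOf_dvd_natCard (⟨k, hk⟩ : P)
      rwa [Subgroup.orderOf_mk] at this
    rcases (Nat.dvd_prime hp).mp h1 with h | h
    · exact absurd (orderOf_eq_one_iff.mp h) hk1
    · exact h.ge
  have hab : ∀ a ∈ P, ∀ b ∈ P, a * b = b * a := by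
    intro a ha b hb
    have : a ∈ Subgroup.centralizer (P : Set G) := by rw [hCP]; exact ha
    exact (Subgroup.mem_centralizer_iff.mp this b hb).symm
  have hC : ∀ k ∈ P, k ≠ 1 → Subgroup.centralizer ({k} : Set G) ≤ P := by
    intro k hk hk1 x hx
    rw [← hCP, Subgroup.mem_centralizer_iff]
    intro y hy
    have hy' : y ∈ Subgroup.zpowers k := by rw [hgen k hk hk1]; exact hy
    obtain ⟨m, rfl⟩ := Subgroup.mem_zpowers_iff.mp hy'
    have hkx : k * x = x * k := Subgroup.mem_centralizer_iff.mp hx k (Set.mem_singleton k)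
    have : Commute x k := hkx.symm
    exact (this.zpow_right m).eq.symm
  have hTI : ∀ g : G, g ∉ Subgroup.normalizer (P : Set G) → ∀ k ∈ P, g * k * g⁻¹ ∈ P → k = 1 := by
    intro g hg k hk hgk
    by_contra hk1
    apply hg
    apply mem_normalizer_of_conj_mem P g
    intro x hx
    have hx' : x ∈ Subgroup.zpowers k := by rw [hgen k hk hk1]; exact hx
    obtain ⟨m, rfl⟩ := Subgroup.mem_zpowers_iff.mp hx'
    have : g * k ^ m * g⁻¹ = (g * k * g⁻¹) ^ m := (conj_zpow (a := g) (b := k) (i := m)).symm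
    rw [this]
    exact Subgroup.zpow_mem _ hgk m
  have hlt : P < Subgroup.normalizer (P : Set G) := by
    refine lt_of_le_of_ne Subgroup.le_normalizer ?_
    intro h
    have h1 : P.subgroupOf (Subgroup.normalizer (P : Set G)) = ⊤ := by
      rw [Subgroup.subgroupOf_eq_top]
      exact h.ge
    rw [h1, Subgroup.index_top] at he
    omega
  letI : Fintype ↥(Subgroup.normalizer (P : Set G)) := Fintype.ofFinite _
  haveI : (P.subgroupOf (Subgroup.normalizer (P : Set G))).Normal := Subgroup.normal_in_normalizer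
  have hcardK : Nat.card (P.subgroupOf (Subgroup.normalizer (P : Set G))) = p := by
    rw [Nat.card_congr (Subgroup.subgroupOfEquivOfLe Subgroup.le_normalizer).toEquiv, hP]
  rcases Cfsg.Agent.S0851.result P hTI hlt hC hab with ⟨-, q, -, -, hcard⟩ | ⟨ε, f, hε, hf, hfε⟩
  · exfalso
    rw [hP, he] at hcard
    omega
  have hC' := frobTI_hC P hC
  have hab' : ∀ a ∈ P.subgroupOf (Subgroup.normalizer (P : Set G)),
      ∀ b ∈ P.subgroupOf (Subgroup.normalizer (P : Set G)), a * b = b * a := by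
    intro a ha b hb
    exact Subtype.ext (hab (a : G) ha (b : G) hb)
  have hiso : ∀ α β : ↥(Subgroup.normalizer (P : Set G)) → ℂ,
      Cfsg.IsClassFunction ↥(Subgroup.normalizer (P : Set G)) α →
      Cfsg.IsClassFunction ↥(Subgroup.normalizer (P : Set G)) β →
      (∀ x : ↥(Subgroup.normalizer (P : Set G)),
        x ∉ P.subgroupOf (Subgroup.normalizer (P : Set G)) → α x = 0) →
      (∀ x : ↥(Subgroup.normalizer (P : Set G)),
        x ∉ P.subgroupOf (Subgroup.normalizer (P : Set G)) → β x = 0) → α 1 = 0 →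
      Cfsg.classInner (Cfsg.indFun (Subgroup.normalizer (P : Set G)) α)
        (Cfsg.indFun (Subgroup.normalizer (P : Set G)) β) = Cfsg.classInner α β := by
    intro α β hα hβ hαoff hβoff hα1
    exact Cfsg.Agent.Lib.Helper04.indFun_isometry_on_ti (P : Set G) hTI
      (fun x hx => Subgroup.le_normalizer hx) α β hα hβ (fun x hx => hαoff x hx)
      (fun x hx => hβoff x hx) hα1
  -- the number of relevant characters
  have hcr := card_rel (Subgroup.normalizer (P : Set G))
    (P.subgroupOf (Subgroup.normalizer (P : Set G))) hC' hab'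
  rw [hcardK, he] at hcr
  have hcr' : Nat.card (Rel (Subgroup.normalizer (P : Set G))
      (P.subgroupOf (Subgroup.normalizer (P : Set G)))) * 2 + 1 = p := by exact_mod_cast hcr
  have hcardR : (P.subgroupOf (Subgroup.normalizer (P : Set G))).index + 1
      ≤ Nat.card (Rel (Subgroup.normalizer (P : Set G))
        (P.subgroupOf (Subgroup.normalizer (P : Set G)))) := by
    rw [he]
    omega
  have hne : Nonempty (Rel (Subgroup.normalizer (P : Set G))
      (P.subgroupOf (Subgroup.normalizer (P : Set G)))) := by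
    by_contra hcon
    rw [not_nonempty_iff] at hcon
    have : Nat.card (Rel (Subgroup.normalizer (P : Set G))
      (P.subgroupOf (Subgroup.normalizer (P : Set G)))) = 0 := Nat.card_of_isEmpty
    omega
  obtain ⟨a⟩ := hne
  obtain ⟨z, hz⟩ := exists_int_coeff (alph_isGeneralizedCharacter
    (Subgroup.normalizer (P : Set G)) (P.subgroupOf (Subgroup.normalizer (P : Set G))) a)
  obtain ⟨ε', hε', hza, hzξ⟩ :=
    exc_coeff' (Subgroup.normalizer (P : Set G)) (P.subgroupOf (Subgroup.normalizer (P : Set G)))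
      hC' hab' hiso ε f hε hf hfε a z hz hperf hcardR (by rw [he])
  set T := Cfsg.Agent.Lib.Helper83.trivChar G with hT
  have hzT : z T = 1 := coeff_triv (Subgroup.normalizer (P : Set G))
    (P.subgroupOf (Subgroup.normalizer (P : Set G))) hC' a z hz
  have hLT : f a ≠ T := triv_notMem_range (Subgroup.normalizer (P : Set G))
    (P.subgroupOf (Subgroup.normalizer (P : Set G))) hC' hab' ε f hε hf hfε hperf (by omega) a
  have hsq := sum_sq_coeff (Subgroup.normalizer (P : Set G))
    (P.subgroupOf (Subgroup.normalizer (P : Set G))) hC' hab' hiso a z hz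
  rw [he] at hsq
  -- the third constituent
  set s : Finset (IrrCharacter G) :=
    ((Finset.univ.erase T).erase (f a)).filter (fun ψ => z ψ ≠ 0) with hs
  have hssum : ∑ ψ ∈ s, z ψ * z ψ = 1 := by
    have hΛmem : f a ∈ Finset.univ.erase T := Finset.mem_erase.mpr ⟨hLT, Finset.mem_univ _⟩
    have h1 : ∑ ψ ∈ s, z ψ * z ψ = ∑ ψ ∈ (Finset.univ.erase T).erase (f a), z ψ * z ψ := by
      rw [hs, Finset.sum_filter]
      apply Finset.sum_congr rfl
      intro ψ _
      by_cases h : z ψ = 0
      · simp [h]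
      · simp [h]
    rw [h1]
    have h2 := Finset.add_sum_erase (Finset.univ.erase T) (fun ψ => z ψ * z ψ) hΛmem
    have h3 := Finset.add_sum_erase Finset.univ (fun ψ => z ψ * z ψ) (Finset.mem_univ T)
    rw [hsq, hzT] at h3
    simp only [hza] at h2
    have hε2 : -ε' * -ε' = 1 := by rcases hε' with h | h <;> rw [h] <;> norm_num
    rw [hε2] at h2
    push_cast at h3
    linarith
  obtain ⟨X, hsX, hzX⟩ := sum_sq_eq_one s z (fun ψ hψ => (Finset.mem_filter.mp hψ).2) hssum
  have hXmem : X ∈ s := by rw [hsX]; exact Finset.mem_singleton_self X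
  rw [hs, Finset.mem_filter, Finset.mem_erase, Finset.mem_erase] at hXmem
  obtain ⟨⟨hXL, hXT, -⟩, hzX0⟩ := hXmem
  have hz0 : ∀ ψ, ψ ≠ T → ψ ≠ X → ψ ≠ f a → z ψ = 0 := by
    intro ψ h1 h2 h3
    by_contra h
    have : ψ ∈ s := by
      rw [hs, Finset.mem_filter, Finset.mem_erase, Finset.mem_erase]
      exact ⟨⟨h3, h1, Finset.mem_univ _⟩, h⟩
    rw [hsX, Finset.mem_singleton] at this
    exact h2 this
  have hXf : ∀ χ, f χ ≠ X := by
    intro χ hχ
    by_cases hχa : χ = a
    · exact hXL (by rw [← hχ, hχa])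
    · exact hzX0 (by rw [← hχ]; exact hzξ χ hχa)
  -- degrees
  obtain ⟨d, hd0, hd1, hddvd⟩ := Cfsg.Agent.Lib.Helper05.exists_degree_dvd X.2
  obtain ⟨dΛ, hdΛ0, hdΛ1, hdΛdvd⟩ := Cfsg.Agent.Lib.Helper05.exists_degree_dvd (f a).2
  have hdeg := sum_coeff_degree (Subgroup.normalizer (P : Set G))
    (P.subgroupOf (Subgroup.normalizer (P : Set G))) hC' hab' a z hz
  rw [sum_coeff_three z T X (f a) hXT hLT hXL (z X) ε' hzT rfl hza hz0
    (fun ψ => (ψ : G → ℂ) 1), hd1, hdΛ1] at hdeg
  have hT1 : (T : G → ℂ) 1 = 1 := rfl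
  rw [hT1] at hdeg
  have hdegZ : 1 + z X * (d : ℤ) = ε' * dΛ := by
    have : ((1 + z X * (d : ℤ) : ℤ) : ℂ) = ((ε' * dΛ : ℤ) : ℂ) := by
      push_cast
      linear_combination hdeg
    exact_mod_cast this
  -- the congruence
  have hcong : (d : ℤ) ≡ z X [ZMOD p] := by
    obtain ⟨b, hb⟩ := degree_congr (Subgroup.normalizer (P : Set G))
      (P.subgroupOf (Subgroup.normalizer (P : Set G))) hC' hab' ε f hε hfε a z hz X hXf
    rw [hcardK, hd1] at hb
    have hb' : (d : ℤ) = (p : ℤ) * b + z X := by exact_mod_cast hb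
    rw [hb']
    show ((p : ℤ) * b + z X) % (p : ℤ) = z X % (p : ℤ)
    rw [add_comm, Int.add_mul_emod_self_left]
  -- the square identity
  have hord : ∀ k : ↥(Subgroup.normalizer (P : Set G)),
      k ∈ P.subgroupOf (Subgroup.normalizer (P : Set G)) → orderOf k ≠ 2 := by
    intro k hk h2
    rw [Subgroup.mem_subgroupOf] at hk
    have h1 : orderOf (k : G) ∣ p := by
      rw [← hP]
      have := orderOf_dvd_natCard (⟨(k : G), hk⟩ : P)
      rwa [Subgroup.orderOf_mk] at this
    rw [Subgroup.orderOf_coe, h2] at h1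
    exact hp2 ((Nat.prime_dvd_prime_iff_eq Nat.prime_two hp).mp h1).symm
  have hinvK : ∀ k : ↥(Subgroup.normalizer (P : Set G)),
      k ∈ P.subgroupOf (Subgroup.normalizer (P : Set G)) → k ≠ 1 →
      invConv ((k : ↥(Subgroup.normalizer (P : Set G))) : G)
        = (Nat.card (P.subgroupOf (Subgroup.normalizer (P : Set G))) : ℂ) := by
    intro k hk hk1
    rw [hcardK]
    rw [Subgroup.mem_subgroupOf] at hk
    exact invConv_eq_of_dihedral P p hp2 hP hCP hN (k : G) hk
      (fun h => hk1 (Subtype.ext h))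
  obtain ⟨s', hs'⟩ := two_square (Subgroup.normalizer (P : Set G))
    (P.subgroupOf (Subgroup.normalizer (P : Set G))) hC' hab' a z hz hord hinvK X (f a) hXT hLT hXL
    (z X) ε' hzX hε' hzT rfl hza hz0 d dΛ hd1 hdΛ1 hd0 hdΛ0 hdegZ
  rw [hcardK] at hs'
  have hpos : (0 : ℤ) < (p : ℤ) * (Nat.card G : ℤ) * d * dΛ := by
    have h1 : (0 : ℤ) < (p : ℤ) := by exact_mod_cast hp.pos
    have h2 : (0 : ℤ) < (Nat.card G : ℤ) := by exact_mod_cast Nat.card_pos
    have h3 : (0 : ℤ) < (d : ℤ) := by exact_mod_cast hd0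
    have h4 : (0 : ℤ) < (dΛ : ℤ) := by exact_mod_cast hdΛ0
    positivity
  have hεδ : ε' = z X := by
    rcases hε' with h | h <;> rcases hzX with h' | h' <;> rw [h, h'] at hs' ⊢ <;>
      first | rfl | (exfalso; nlinarith [mul_self_nonneg s'])
  refine ⟨X, Set.range f, z X, d, dΛ, s', hd1, ?_, ?_, hzX, ?_, hddvd, hcong, hdΛ0, hdΛdvd, ?_, ?_⟩
  · rintro L ⟨χ, rfl⟩
    have h1 := congrFun (hfε χ a) 1
    rw [Cfsg.Agent.Lib.Helper83.indFun_one_eq, Pi.sub_apply,
      rel_degree (Subgroup.normalizer (P : Set G))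
        (P.subgroupOf (Subgroup.normalizer (P : Set G))) hC' hab' (Rel.frobRel _ _ χ),
      rel_degree (Subgroup.normalizer (P : Set G))
        (P.subgroupOf (Subgroup.normalizer (P : Set G))) hC' hab' (Rel.frobRel _ _ a),
      sub_self, mul_zero, Pi.smul_apply, Pi.sub_apply, smul_eq_mul] at h1
    have hε0 : ε ≠ 0 := by rcases hε with h | h <;> rw [h] <;> norm_num
    have h2 : (f χ : G → ℂ) 1 - (f a : G → ℂ) 1 = 0 := by
      rcases mul_eq_zero.mp h1.symm with h | h
      · exact absurd h hε0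
      · exact h
    rw [← hdΛ1]
    linear_combination h2
  · intro ψ
    by_cases h1 : ψ = T
    · exact Or.inl h1
    by_cases h2 : ψ = X
    · exact Or.inr (Or.inl h2)
    by_cases h3 : ∃ χ, f χ = ψ
    · exact Or.inr (Or.inr (Or.inl h3))
    · refine Or.inr (Or.inr (Or.inr ?_))
      have h3' : ∀ χ, f χ ≠ ψ := fun χ hχ => h3 ⟨χ, hχ⟩
      obtain ⟨b, hb⟩ := degree_congr (Subgroup.normalizer (P : Set G))
        (P.subgroupOf (Subgroup.normalizer (P : Set G))) hC' hab' ε f hε hfε a z hz ψ h3'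
      rw [hcardK, hz0 ψ h1 h2 (h3' a).symm] at hb
      refine ⟨b, ?_⟩
      rw [hb]
      push_cast
      ring
  · by_contra hle
    have h1 : d = 1 := by omega
    apply hXT
    apply hperf
    rw [hd1, h1]
    simp
  · rw [hεδ] at hdegZ
    rcases hzX with h | h <;> rw [h] at hdegZ ⊢ <;> linarith
  · rw [← hs', hεδ]
    rcases hzX with h | h <;> rw [h] <;> ring


end Cfsg.Agent.Lib.Helper23.Exceptional
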