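import Mathlib
import Cfsg.Agent.Lib.Helper72.G42Defs
import Cfsg.Agent.Lib.Helper62.Small120
import Cfsg.Agent.Lib.Helper84.G42L4

/-!
# K-G42 pack (S2553), leaf 255306 L5: `|Δ| = 5` gives `K ≅ A_5` or `S_5`.
-/

set_option autoImplicit false

namespace Cfsg.Agent.Lib.Helper23.G42

open Cfsg.Agent.Lib.Helper72.G42 Equiv

/-- restriction of a permutation group preserving `Δ` to `Δ`. -/
noncomputable def l5_restr (K : Subgroup (Equiv.Perm (Fin 8))) (Δ : Finset (Fin 8))
    (hpres : ∀ k ∈ K, ∀ x ∈ Δ, k x ∈ Δ) : ↥K →* Equiv.Perm {x // x ∈ Δ} where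
  toFun k := Equiv.Perm.subtypePerm (p := fun x => x ∈ Δ) k.1 (by
    intro x
    constructor
    · intro hx
      have := hpres (k.1)⁻¹ (K.inv_mem k.2) _ hx
      simpa using this
    · exact hpres k.1 k.2 x)
  map_one' := by
    ext x
    simp
  map_mul' a b := by
    ext x
    rfl

theorem l5_restr_apply (K : Subgroup (Equiv.Perm (Fin 8))) (Δ : Finset (Fin 8))
    (hpres : ∀ k ∈ K, ∀ x ∈ Δ, k x ∈ Δ) (k : ↥K) (x : {x // x ∈ Δ}) :
    ((l5_restr K Δ hpres k x : {x // x ∈ Δ}) : Fin 8) = k.1 x.1 := rfl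

theorem l5_restr_injective (K : Subgroup (Equiv.Perm (Fin 8))) (Δ : Finset (Fin 8))
    (hpres : ∀ k ∈ K, ∀ x ∈ Δ, k x ∈ Δ)
    (hfaith : ∀ k ∈ K, (∀ x ∈ Δ, k x = x) → k = 1) :
    Function.Injective (l5_restr K Δ hpres) := by
  rw [injective_iff_map_eq_one]
  intro k hk
  apply Subtype.ext
  apply hfaith k.1 k.2
  intro x hx
  have := congrArg (fun σ : Equiv.Perm {x // x ∈ Δ} => ((σ ⟨x, hx⟩ : {x // x ∈ Δ}) : Fin 8)) hk
  simpa [l5_restr_apply] using this

/-- a non-solvable group embedded in `S_5` is `A_5` or `S_5`. -/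
theorem l5_of_embedding {G : Type*} [Group G] [Finite G] (f : G →* Equiv.Perm (Fin 5))
    (hf : Function.Injective f) (hns : ¬ Group.IsSolvable G) :
    Nonempty (G ≃* ↥(alternatingGroup (Fin 5))) ∨ Nonempty (G ≃* Equiv.Perm (Fin 5)) := by
  have hcard : Nat.card f.range = Nat.card G :=
    (Nat.card_congr (MonoidHom.ofInjective hf).toEquiv).symm
  have h60 : 60 ≤ Nat.card G := by
    by_contra hlt
    exact hns (Cfsg.Agent.Lib.Helper62.Small120.solvable_of_card_lt_sixty _ (by omega) G rfl)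
  have h120 : Nat.card (Equiv.Perm (Fin 5)) = 120 := by
    rw [Nat.card_eq_fintype_card, Fintype.card_perm, Fintype.card_fin]
    rfl
  have hmul := f.range.card_mul_index
  rw [h120, hcard] at hmul
  have hidx : f.range.index = 1 ∨ f.range.index = 2 := by
    have hpos : 0 < f.range.index := Nat.pos_of_ne_zero Subgroup.index_ne_zero_of_finite
    have : f.range.index ≤ 2 := by
      by_contra hgt
      have : 60 * 3 ≤ Nat.card G * f.range.index := Nat.mul_le_mul h60 (by omega)
      omega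
    omega
  rcases hidx with h1 | h2
  · right
    have htop : f.range = ⊤ := Subgroup.index_eq_one.1 h1
    exact ⟨(MonoidHom.ofInjective hf).trans
      ((MulEquiv.subgroupCongr htop).trans Subgroup.topEquiv)⟩
  · left
    have halt : f.range = alternatingGroup (Fin 5) :=
      Equiv.Perm.eq_alternatingGroup_of_index_eq_two h2
    exact ⟨(MonoidHom.ofInjective hf).trans (MulEquiv.subgroupCongr halt)⟩

theorem case5 {K N : Subgroup (Equiv.Perm (Fin 8))} {Δ : Finset (Fin 8)} (h : Cfg K N Δ) (h5 : Δ.card = 5) :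
    Nonempty (↥K ≃* ↥(alternatingGroup (Fin 5))) ∨ Nonempty (↥K ≃* Equiv.Perm (Fin 5)) := by
  obtain ⟨hpres, hfaith⟩ := Cfsg.Agent.Lib.Helper84.G42.faithful_on h
  have hns : ¬ Group.IsSolvable ↥K := by
    intro hsol
    have hK : K = ⊥ := h.hsolv K le_rfl
      (fun k hk m hm => K.mul_mem (K.mul_mem hk hm) (K.inv_mem hk)) hsol
    apply h.hN1
    exact le_bot_iff.1 (hK ▸ h.hNK)
  have hcardΔ : Fintype.card {x // x ∈ Δ} = 5 := by
    rw [Fintype.card_coe, h5]
  let e : {x // x ∈ Δ} ≃ Fin 5 := Fintype.equivFinOfCardEq hcardΔ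
  let f : ↥K →* Equiv.Perm (Fin 5) :=
    (e.permCongrHom.toMonoidHom).comp (l5_restr K Δ hpres)
  have hf : Function.Injective f := by
    intro a b hab
    apply l5_restr_injective K Δ hpres hfaith
    exact e.permCongrHom.injective hab
  exact l5_of_embedding f hf hns

end Cfsg.Agent.Lib.Helper23.G42
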