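import Cfsg.Agent.Lib.Helper06.Hall4.Defs

/-!
# K-H4-BWb (422121): the unique involution of `(x*y) H` centralizing `s ∈ x H`, `t ∈ y H`
-/

set_option autoImplicit false
open Equiv Cfsg.Agent.Lib.Helper06.Hall4

namespace Cfsg.Agent.Lib.Helper23.Hall4

section BW
variable {Γ : Type*} [Group Γ] [Finite Γ]

omit [Finite Γ] in
theorem inv_eq_self_of_sq {a : Γ} (h : a * a = 1) : a⁻¹ = a :=
  inv_eq_of_mul_eq_one_left h

omit [Finite Γ] in
/-- `a ^ (2k+1) = a` for an involution. -/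
theorem pow_odd_of_sq {a : Γ} (h : a * a = 1) {m : ℕ} (hm : Odd m) : a ^ m = a := by
  obtain ⟨k, rfl⟩ := hm
  rw [pow_succ, pow_mul, pow_two, h, one_pow, one_mul]

omit [Finite Γ] in
/-- two elements of the coset `z H` differ by an element of `H`. -/
theorem inv_mul_mem_of_coset (H : Subgroup Γ) {z a b : Γ} (ha : z⁻¹ * a ∈ H)
    (hb : z⁻¹ * b ∈ H) : a⁻¹ * b ∈ H := by
  have : a⁻¹ * b = (z⁻¹ * a)⁻¹ * (z⁻¹ * b) := by group
  rw [this]
  exact H.mul_mem (H.inv_mem ha) hb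

omit [Finite Γ] in
/-- the square of an element of `z H` is in `H`, for an involution `z` normalizing `H`. -/
theorem sq_mem_of_coset (H : Subgroup Γ) {z a : Γ} (z2 : z * z = 1)
    (hzH : ∀ g ∈ H, z * g * z⁻¹ ∈ H) (ha : z⁻¹ * a ∈ H) : a * a ∈ H := by
  have : a * a = z * (z⁻¹ * a) * z⁻¹ * (z * z) * (z⁻¹ * a) := by group
  rw [this, z2, mul_one]
  exact H.mul_mem (hzH _ ha) ha

omit [Finite Γ] in
theorem orderOf_odd_of_mem (H : Subgroup Γ) (hH : Odd (Nat.card H)) {u : Γ} (hu : u ∈ H) :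
    Odd (orderOf u) := by
  have h2 : orderOf u ∣ Nat.card H := Subgroup.orderOf_dvd_natCard H hu
  obtain ⟨c, hc⟩ := h2
  rw [hc] at hH
  exact (Nat.odd_mul.mp hH).1

/-- LEAF BWb (422121). -/
theorem existsUnique_central (H : Subgroup Γ) (hH : Odd (Nat.card H)) {x y : Γ}
    (x2 : x * x = 1) (y2 : y * y = 1) (comm : x * y = y * x)
    (hxH : ∀ g ∈ H, x * g * x⁻¹ ∈ H) (hyH : ∀ g ∈ H, y * g * y⁻¹ ∈ H) {s t : Γ}
    (hs : s ∈ InvCoset x H) (ht : t ∈ InvCoset y H) :
    ∃! w : Γ, w ∈ InvCoset (x * y) H ∧ w * s = s * w ∧ w * t = t * w := by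
  obtain ⟨hs1, s2⟩ := hs
  obtain ⟨ht1, t2⟩ := ht
  have yinv : y⁻¹ = y := inv_eq_self_of_sq y2
  have sinv : s⁻¹ = s := inv_eq_self_of_sq s2
  have tinv : t⁻¹ = t := inv_eq_self_of_sq t2
  have z2 : x * y * (x * y) = 1 := by
    calc x * y * (x * y) = x * (y * x) * y := by group
      _ = x * (x * y) * y := by rw [comm]
      _ = (x * x) * (y * y) := by group
      _ = 1 := by rw [x2, y2, one_mul]
  have hzH : ∀ g ∈ H, (x * y) * g * (x * y)⁻¹ ∈ H := by
    intro g hg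
    have : (x * y) * g * (x * y)⁻¹ = x * (y * g * y⁻¹) * x⁻¹ := by group
    rw [this]
    exact hxH _ (hyH _ hg)
  -- w₀ = s * t lies in the coset (x*y) H
  have hw0 : (x * y)⁻¹ * (s * t) ∈ H := by
    have e : (x * y)⁻¹ * (s * t) = y⁻¹ * (x⁻¹ * s) * y * (y⁻¹ * t) := by group
    rw [e]
    refine H.mul_mem ?_ ht1
    have e2 : y⁻¹ * (x⁻¹ * s) * y = y * (x⁻¹ * s) * y⁻¹ := by rw [yinv]
    rw [e2]
    exact hyH _ hs1
  have hw0sq : s * t * (s * t) ∈ H := sq_mem_of_coset H z2 hzH hw0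
  have hmodd : Odd (orderOf (s * t * (s * t))) := orderOf_odd_of_mem H hH hw0sq
  set m := orderOf (s * t * (s * t)) with hm
  have hpow : (s * t * (s * t)) ^ m = 1 := pow_orderOf_eq_one _
  -- s and t invert w₀
  have hsconj : s * (s * t) * s⁻¹ = (s * t)⁻¹ := by
    rw [mul_inv_rev, tinv, sinv, ← mul_assoc s s t, s2, one_mul]
  have htconj : t * (s * t) * t⁻¹ = (s * t)⁻¹ := by
    rw [mul_inv_rev, tinv, sinv, mul_assoc t (s * t) t, mul_assoc s t t, t2, mul_one]
  have hww : (s * t) ^ m * (s * t) ^ m = 1 := by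
    rw [← (Commute.refl (s * t)).mul_pow]
    exact hpow
  have hwinv : ((s * t) ^ m)⁻¹ = (s * t) ^ m := inv_eq_self_of_sq hww
  refine ⟨(s * t) ^ m, ⟨⟨?_, hww⟩, ?_, ?_⟩, ?_⟩
  · -- membership in the coset
    obtain ⟨k, hk⟩ := hmodd
    have e : (s * t) ^ m = (s * t) * (s * t * (s * t)) ^ k := by
      rw [hk, pow_succ', pow_mul, pow_two]
    rw [e, ← mul_assoc]
    exact H.mul_mem hw0 (H.pow_mem hw0sq k)
  · -- commutes with s
    have h1 : s * (s * t) ^ m * s⁻¹ = (s * t) ^ m := by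
      rw [← conj_pow, hsconj, inv_pow, hwinv]
    have := mul_inv_eq_iff_eq_mul.mp h1
    exact this.symm
  · have h1 : t * (s * t) ^ m * t⁻¹ = (s * t) ^ m := by
      rw [← conj_pow, htconj, inv_pow, hwinv]
    have := mul_inv_eq_iff_eq_mul.mp h1
    exact this.symm
  · -- uniqueness
    rintro w' ⟨⟨hw1, hw2⟩, hws, hwt⟩
    have winv : w'⁻¹ = w' := inv_eq_self_of_sq hw2
    have hcomm : w' * (s * t) = (s * t) * w' := by
      rw [← mul_assoc, hws, mul_assoc, hwt, mul_assoc]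
    have hu : w' * (s * t) ∈ H := by
      have := inv_mul_mem_of_coset H hw1 hw0
      rwa [winv] at this
    have hcu : Commute w' (w' * (s * t)) := by
      unfold Commute SemiconjBy
      rw [mul_assoc w' (s * t) w', ← hcomm]
    have hw0eq : s * t = w' * (w' * (s * t)) := by
      rw [← mul_assoc, hw2, one_mul]
    have huu : w' * (s * t) * (w' * (s * t)) = s * t * (s * t) := by
      calc w' * (s * t) * (w' * (s * t)) = w' * ((s * t) * w') * (s * t) := by group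
        _ = w' * (w' * (s * t)) * (s * t) := by rw [hcomm]
        _ = (w' * w') * (s * t) * (s * t) := by group
        _ = s * t * (s * t) := by rw [hw2, one_mul]
    have hu2m : (w' * (s * t)) ^ (2 * m) = 1 := by
      rw [pow_mul, pow_two, huu]
      exact hpow
    have hord : orderOf (w' * (s * t)) ∣ m := by
      have h1 : orderOf (w' * (s * t)) ∣ 2 * m := orderOf_dvd_of_pow_eq_one hu2m
      have h2 : Odd (orderOf (w' * (s * t))) := orderOf_odd_of_mem H hH hu
      have h3 : Nat.Coprime (orderOf (w' * (s * t))) 2 := Nat.coprime_two_right.mpr h2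
      exact h3.dvd_of_dvd_mul_left h1
    have hum : (w' * (s * t)) ^ m = 1 := orderOf_dvd_iff_pow_eq_one.mp hord
    calc w' = w' ^ m := (pow_odd_of_sq hw2 hmodd).symm
      _ = w' ^ m * (w' * (s * t)) ^ m := by rw [hum, mul_one]
      _ = (w' * (w' * (s * t))) ^ m := (hcu.mul_pow m).symm
      _ = (s * t) ^ m := by rw [← hw0eq]

end BW

end Cfsg.Agent.Lib.Helper23.Hall4
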