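import Mathlib

/-!
# K-IP pack (S4463), case A leaf 446324 IPA-BETW: a subgroup of index `r` between `K` and `N`.
-/

set_option autoImplicit false

namespace Cfsg.Agent.Lib.Helper23.IPA

universe u

theorem exists_between_index {G : Type u} [Group G] [Finite G] (K N : Subgroup G) [K.Normal] (hKN : K ≤ N)
    {r : ℕ} (hr : r.Prime) (hidx : ∃ a : ℕ, 0 < a ∧ K.relIndex N = r ^ a) :
    ∃ H : Subgroup G, K ≤ H ∧ H ≤ N ∧ H.relIndex N = r := by
  obtain ⟨a, ha, hKa⟩ := hidx
  have : Fact r.Prime := ⟨hr⟩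
  -- the quotient `N / K`
  have hcardQ : Nat.card (↥N ⧸ K.subgroupOf N) = r ^ a := by
    rw [← Subgroup.index_eq_card]
    exact hKa
  obtain ⟨b, rfl⟩ : ∃ b, a = b + 1 := ⟨a - 1, by omega⟩
  obtain ⟨Hbar, hHbar⟩ := Sylow.exists_subgroup_card_pow_prime (G := ↥N ⧸ K.subgroupOf N) r
    (n := b) (by rw [hcardQ]; exact pow_dvd_pow r (Nat.le_succ b))
  have hidxbar : Hbar.index = r := by
    have h1 := Hbar.card_mul_index
    rw [hHbar, hcardQ, pow_succ] at h1
    exact Nat.eq_of_mul_eq_mul_left (pow_pos hr.pos b) h1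
  let H' : Subgroup ↥N := Hbar.comap (QuotientGroup.mk' (K.subgroupOf N))
  have hidx' : H'.index = r := by
    rw [Subgroup.index_comap_of_surjective _ (QuotientGroup.mk'_surjective _)]
    exact hidxbar
  have hKH' : K.subgroupOf N ≤ H' := by
    intro x hx
    change (QuotientGroup.mk' (K.subgroupOf N)) x ∈ Hbar
    have : (QuotientGroup.mk' (K.subgroupOf N)) x = 1 := by
      rw [← MonoidHom.mem_ker, QuotientGroup.ker_mk']
      exact hx
    rw [this]
    exact Hbar.one_mem
  refine ⟨H'.map N.subtype, ?_, Subgroup.map_subtype_le H', ?_⟩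
  · intro k hk
    exact ⟨⟨k, hKN hk⟩, hKH' (Subgroup.mem_subgroupOf.2 hk), rfl⟩
  · have h1 : (H'.map N.subtype).subgroupOf N = H' := by
      rw [← Subgroup.comap_subtype]
      exact Subgroup.comap_map_eq_self_of_injective N.subtype_injective H'
    rw [Subgroup.relIndex, h1]
    exact hidx'

end Cfsg.Agent.Lib.Helper23.IPA
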