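import Mathlib
import Cfsg.Agent.Lib.Helper41.InvBDefs
import Cfsg.Agent.Lib.Helper19.InvB1

/-!
# K-IB-2 (392802, S3928, architect helper41): the bridge `(G, α) → Γ = G ⋊ ⟨α⟩`

`exists_gamma_of` takes the statement of LEAF 1 (`closure {odd-order inverted elements} = ⊤`) as a hypothesis.
-/

set_option autoImplicit false

namespace Cfsg.Agent.Lib.Helper23.InvB

open Cfsg.Agent.Lib.Helper41.InvB

section bridge

variable {G : Type} [Group G] (α : MulAut G)

/-- the semidirect product `G ⋊ ⟨α⟩` -/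
abbrev Gam : Type := G ⋊[(Subgroup.zpowers α).subtype] (Subgroup.zpowers α)

/-- the element `α` of `Γ` -/
def aElt : Gam α := SemidirectProduct.inr ⟨α, Subgroup.mem_zpowers α⟩

theorem aElt_mul_self (hα : α * α = 1) : aElt α * aElt α = 1 := by
  unfold aElt
  rw [← map_mul]
  have : (⟨α, Subgroup.mem_zpowers α⟩ : Subgroup.zpowers α) * ⟨α, Subgroup.mem_zpowers α⟩ = 1 := by
    apply Subtype.ext
    exact hα
  rw [this, map_one]

theorem aElt_conj_inl (g : G) :
    aElt α * SemidirectProduct.inl g * (aElt α)⁻¹ = SemidirectProduct.inl (α g) := by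
  unfold aElt
  rw [← map_inv, ← SemidirectProduct.inl_aut]
  rfl

theorem card_zpowers_dvd_two (hα : α * α = 1) : Nat.card (Subgroup.zpowers α) ∣ 2 := by
  rw [Nat.card_zpowers]
  exact orderOf_dvd_of_pow_eq_one (by rw [pow_two]; exact hα)

theorem finite_Gam [Finite G] : Finite (Gam α) :=
  Finite.of_equiv _ (SemidirectProduct.equivProd (φ := (Subgroup.zpowers α).subtype)).symm

/-- odd-order elements of `Γ` lie in `G` -/
theorem right_eq_one_of_odd (hα : α * α = 1) (x : Gam α) (hx : Odd (orderOf x)) :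
    x.right = 1 := by
  have h1 : orderOf (SemidirectProduct.rightHom x) ∣ orderOf x := orderOf_map_dvd _ x
  have h2 : orderOf (SemidirectProduct.rightHom x) ∣ Nat.card (Subgroup.zpowers α) :=
    orderOf_dvd_natCard _
  have h3 : orderOf (SemidirectProduct.rightHom x) ∣ 2 := h2.trans (card_zpowers_dvd_two α hα)
  have h4 : Odd (orderOf (SemidirectProduct.rightHom x)) := Odd.of_dvd_nat hx h1
  have h6 : Nat.Coprime (orderOf (SemidirectProduct.rightHom x)) 2 := Nat.coprime_two_right.mpr h4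
  have h5 : orderOf (SemidirectProduct.rightHom x) = 1 := Nat.Coprime.eq_one_of_dvd h6 h3
  have h7 : SemidirectProduct.rightHom x = 1 := orderOf_eq_one_iff.mp h5
  rwa [SemidirectProduct.rightHom_eq_right] at h7

theorem eq_inl_of_odd (hα : α * α = 1) (x : Gam α) (hx : Odd (orderOf x)) :
    x = SemidirectProduct.inl x.left := by
  have h := right_eq_one_of_odd α hα x hx
  have h2 := SemidirectProduct.inl_left_mul_inr_right x
  rw [h, map_one, mul_one] at h2
  exact h2.symm

theorem mem_TG_aElt_iff (hα : α * α = 1) (x : Gam α) :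
    x ∈ TG (aElt α) ↔ x.right = 1 ∧ Odd (orderOf x.left) ∧ α x.left = x.left⁻¹ := by
  constructor
  · rintro ⟨h1, h2⟩
    have hx := eq_inl_of_odd α hα x h1
    refine ⟨right_eq_one_of_odd α hα x h1, ?_, ?_⟩
    · rw [hx, orderOf_injective _ SemidirectProduct.inl_injective] at h1
      exact h1
    · rw [hx, aElt_conj_inl, ← map_inv] at h2
      exact SemidirectProduct.inl_injective h2
  · rintro ⟨h0, h1, h2⟩
    have hx : x = SemidirectProduct.inl x.left := by
      have h3 := SemidirectProduct.inl_left_mul_inr_right x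
      rw [h0, map_one, mul_one] at h3
      exact h3.symm
    refine ⟨?_, ?_⟩
    · rw [hx, orderOf_injective _ SemidirectProduct.inl_injective]
      exact h1
    · rw [hx, aElt_conj_inl, h2, map_inv]

theorem gen_aElt (hα : α * α = 1)
    (hT : Subgroup.closure {g : G | Odd (orderOf g) ∧ α g = g⁻¹} = ⊤) : Gen (aElt α) := by
  refine ⟨aElt_mul_self α hα, ?_⟩
  rw [eq_top_iff]
  intro x _
  have hinl : ∀ g : G, (SemidirectProduct.inl g : Gam α) ∈
      Subgroup.closure (TG (aElt α) ∪ {aElt α}) := by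
    intro g
    have hg : g ∈ Subgroup.closure {g : G | Odd (orderOf g) ∧ α g = g⁻¹} := by rw [hT]; trivial
    have h1 : (SemidirectProduct.inl g : Gam α) ∈
        (Subgroup.closure {g : G | Odd (orderOf g) ∧ α g = g⁻¹}).map SemidirectProduct.inl :=
      Subgroup.mem_map_of_mem _ hg
    rw [MonoidHom.map_closure] at h1
    refine (Subgroup.closure_mono ?_) h1
    rintro _ ⟨t, ht, rfl⟩
    left
    rw [mem_TG_aElt_iff α hα]
    exact ⟨rfl, ht.1, ht.2⟩
  have hinr : ∀ b : Subgroup.zpowers α, (SemidirectProduct.inr b : Gam α) ∈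
      Subgroup.closure (TG (aElt α) ∪ {aElt α}) := by
    rintro ⟨b, hb⟩
    obtain ⟨k, rfl⟩ := Subgroup.mem_zpowers_iff.mp hb
    have : (⟨α ^ k, hb⟩ : Subgroup.zpowers α) = (⟨α, Subgroup.mem_zpowers α⟩ : Subgroup.zpowers α) ^ k := by
      apply Subtype.ext
      simp
    rw [this, map_zpow]
    apply Subgroup.zpow_mem
    apply Subgroup.subset_closure
    right
    rfl
  rw [← SemidirectProduct.inl_left_mul_inr_right x]
  exact Subgroup.mul_mem _ (hinl _) (hinr _)

/-- LEAF 2 with LEAF 1 as a hypothesis. -/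
theorem exists_gamma_of [Finite G] (hα : α * α = 1)
    (hT : Subgroup.closure {g : G | Odd (orderOf g) ∧ α g = g⁻¹} = ⊤) :
    ∃ (Γ : Type) (_ : Group Γ) (_ : Finite Γ) (a : Γ), Gen a ∧ Nat.card G ≤ Nat.card Γ ∧
      Nat.card (TG a) ≤ Nat.card {g : G // Odd (orderOf g) ∧ α g = g⁻¹} := by
  haveI := finite_Gam α
  refine ⟨Gam α, inferInstance, inferInstance, aElt α, gen_aElt α hα hT, ?_, ?_⟩
  · exact Nat.card_le_card_of_injective _ (SemidirectProduct.inl_injective (φ := (Subgroup.zpowers α).subtype))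
  · let f : TG (aElt α) → {g : G // Odd (orderOf g) ∧ α g = g⁻¹} := fun x =>
      ⟨x.1.left, ((mem_TG_aElt_iff α hα x.1).mp x.2).2⟩
    apply Nat.card_le_card_of_injective f
    intro x y hxy
    have h1 : x.1.left = y.1.left := congrArg Subtype.val hxy
    have hx := ((mem_TG_aElt_iff α hα x.1).mp x.2).1
    have hy := ((mem_TG_aElt_iff α hα y.1).mp y.2).1
    apply Subtype.ext
    exact SemidirectProduct.ext h1 (hx.trans hy.symm)

end bridge

/-- LEAF 2 (392802). -/
theorem exists_gamma {G : Type} [Group G] [Finite G] (α : MulAut G) (hα : α * α = 1)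
    (h : Subgroup.closure (Set.range (fun c : G => c * (α c)⁻¹)) = ⊤) :
    ∃ (Γ : Type) (_ : Group Γ) (_ : Finite Γ) (a : Γ), Gen a ∧ Nat.card G ≤ Nat.card Γ ∧
      Nat.card (TG a) ≤ Nat.card {g : G // Odd (orderOf g) ∧ α g = g⁻¹} :=
  exists_gamma_of α hα (Cfsg.Agent.Lib.Helper19.InvB.closure_T_eq_top α hα h)

end Cfsg.Agent.Lib.Helper23.InvB
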