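import Mathlib
import Cfsg.Agent.S0261
import Cfsg.Agent.Lib.Helper52.SL2Sylow
import Cfsg.Agent.Lib.Helper48.PSL2Basic

set_option autoImplicit false
set_option linter.unusedVariables false
set_option linter.unusedSectionVars false

namespace Cfsg.Agent.Lib.Helper23.NQ

open Matrix

/-- in a generalised quaternion group two elements commute or one of them squares to the central involution -/
theorem nqp1_quaternion (n : ℕ) (X Y : QuaternionGroup n) :
    X * X = QuaternionGroup.a (n : ZMod (2 * n)) ∨ Y * Y = QuaternionGroup.a (n : ZMod (2 * n)) ∨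
      X * Y = Y * X := by
  cases X with
  | a i =>
    cases Y with
    | a j =>
      right; right
      rw [QuaternionGroup.a_mul_a, QuaternionGroup.a_mul_a, add_comm]
    | xa j =>
      right; left
      rw [QuaternionGroup.xa_mul_xa]
      congr 1
      ring
  | xa i =>
    left
    rw [QuaternionGroup.xa_mul_xa]
    congr 1
    ring

theorem nqp1_two_ne_zero {F : Type*} [Field F] [Fintype F] (hF : Odd (Fintype.card F)) : (2 : F) ≠ 0 := by
  intro h2
  have h1 : addOrderOf (1 : F) = 2 := by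
    apply addOrderOf_eq_prime
    · rw [two_nsmul]
      have : (1 : F) + 1 = 2 := by norm_num
      rw [this, h2]
    · exact one_ne_zero
  have h3 : addOrderOf (1 : F) ∣ Fintype.card F := addOrderOf_dvd_card
  rw [h1] at h3
  rcases hF with ⟨k, hk⟩
  omega

theorem psl2_two_subgroup_pair {F : Type*} [Field F] [Fintype F] (hF : Odd (Fintype.card F))
    (T : Subgroup (Matrix.ProjectiveSpecialLinearGroup (Fin 2) F)) (hT : IsPGroup 2 T)
    (x y : Matrix.ProjectiveSpecialLinearGroup (Fin 2) F) (hx : x ∈ T) (hy : y ∈ T) :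
    x * x = 1 ∨ y * y = 1 ∨ x * y = y * x := by
  classical
  have h2 : (2 : F) ≠ 0 := nqp1_two_ne_zero hF
  let π : Matrix.SpecialLinearGroup (Fin 2) F →* Matrix.ProjectiveSpecialLinearGroup (Fin 2) F :=
    QuotientGroup.mk' (Subgroup.center (Matrix.SpecialLinearGroup (Fin 2) F))
  have hπsurj : Function.Surjective π := QuotientGroup.mk'_surjective _
  -- the kernel is a 2-group
  have hker : IsPGroup 2 π.ker := by
    intro g
    refine ⟨1, ?_⟩
    have hg : (g : Matrix.SpecialLinearGroup (Fin 2) F) ∈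
        Subgroup.center (Matrix.SpecialLinearGroup (Fin 2) F) := by
      have h1 : π (g : Matrix.SpecialLinearGroup (Fin 2) F) = 1 := MonoidHom.mem_ker.1 g.2
      exact (QuotientGroup.eq_one_iff _).1 h1
    rw [Cfsg.Agent.Lib.Helper48.sl2_mem_center_iff] at hg
    have hsc : Cfsg.Agent.Lib.Helper52.IsScalarSL (g : Matrix.SpecialLinearGroup (Fin 2) F) := hg
    have := hsc.mul_self
    apply Subtype.ext
    rw [pow_one, sq, Subgroup.coe_mul, this, Subgroup.coe_one]
  have hTt : IsPGroup 2 (T.comap π) := hT.comap_of_ker_isPGroup π hker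
  obtain ⟨P, hP⟩ := hTt.exists_le_sylow
  obtain ⟨k, hk, ⟨e⟩⟩ := Cfsg.Agent.S0261.result hF P
  obtain ⟨xt, rfl⟩ := hπsurj x
  obtain ⟨yt, rfl⟩ := hπsurj y
  have hxP : xt ∈ (P : Subgroup (Matrix.SpecialLinearGroup (Fin 2) F)) := hP hx
  have hyP : yt ∈ (P : Subgroup (Matrix.SpecialLinearGroup (Fin 2) F)) := hP hy
  -- the central involution
  set z0 : ↥(P : Subgroup (Matrix.SpecialLinearGroup (Fin 2) F)) :=
    e.symm (QuaternionGroup.a ((2 ^ k : ℕ) : ZMod (2 * 2 ^ k))) with hz0
  have hz0sq : z0 * z0 = 1 := by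
    have : e (z0 * z0) = 1 := by
      rw [map_mul, hz0, MulEquiv.apply_symm_apply, QuaternionGroup.a_mul_a, QuaternionGroup.one_def]
      congr 1
      have : ((2 ^ k : ℕ) : ZMod (2 * 2 ^ k)) + ((2 ^ k : ℕ) : ZMod (2 * 2 ^ k)) =
          ((2 * 2 ^ k : ℕ) : ZMod (2 * 2 ^ k)) := by
        push_cast; ring
      rw [this, ZMod.natCast_self]
    exact (MulEquiv.map_eq_one_iff e).1 this
  have hz0π : π (z0 : Matrix.SpecialLinearGroup (Fin 2) F) = 1 := by
    have hsq : (z0 : Matrix.SpecialLinearGroup (Fin 2) F) * z0 = 1 := by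
      have := congrArg Subtype.val hz0sq
      simpa using this
    have hsc := Cfsg.Agent.Lib.Helper52.isScalarSL_of_mul_self h2 hsq
    exact (Cfsg.Agent.Lib.Helper48.psl2_mk_eq_one_iff _).2 hsc
  have key := nqp1_quaternion (2 ^ k) (e ⟨xt, hxP⟩) (e ⟨yt, hyP⟩)
  have hpush : ∀ (w : ↥(P : Subgroup (Matrix.SpecialLinearGroup (Fin 2) F))),
      e w * e w = QuaternionGroup.a ((2 ^ k : ℕ) : ZMod (2 * 2 ^ k)) →
      π (w : Matrix.SpecialLinearGroup (Fin 2) F) * π w = 1 := by
    intro w hw
    have h1 : w * w = z0 := by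
      apply e.injective
      rw [map_mul, hw, hz0, MulEquiv.apply_symm_apply]
    have h3 : (w : Matrix.SpecialLinearGroup (Fin 2) F) * w = z0 := by
      have := congrArg Subtype.val h1
      simpa using this
    rw [← map_mul, h3, hz0π]
  rcases key with h | h | h
  · left
    exact hpush ⟨xt, hxP⟩ h
  · right; left
    exact hpush ⟨yt, hyP⟩ h
  · right; right
    have h1 : (⟨xt, hxP⟩ : ↥(P : Subgroup (Matrix.SpecialLinearGroup (Fin 2) F))) * ⟨yt, hyP⟩ =
        ⟨yt, hyP⟩ * ⟨xt, hxP⟩ := by
      apply e.injective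
      rw [map_mul, map_mul, h]
    have h3 : xt * yt = yt * xt := by
      have := congrArg Subtype.val h1
      simpa using this
    rw [← map_mul, ← map_mul, h3]

end Cfsg.Agent.Lib.Helper23.NQ
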