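import Mathlib
import Cfsg.Agent.Lib.Helper56.NSE3Defs

/-!
# K-NSE3 pack (S3996), leaf 399604 L04: no element of order divisible by `p * p`.
-/

set_option autoImplicit false

namespace Cfsg.Agent.Lib.Helper23.NSE3

open Cfsg.Agent.S3995 (s)
open Cfsg.Agent.Lib.Helper56.NSE3 (Hyp)

variable {G : Type*} [Group G] [Finite G]

/-- L04 NO SQUARE. -/
theorem no_sq
    (hpair : ∀ {p k : ℕ}, p.Prime → ¬ p ∣ k → p * k ∣ Nat.card G → p ∣ s G k + s G (p * k))
    {μ ν : ℕ} (H : Hyp G μ ν) {p : ℕ} (hp : p.Prime) (hp2 : p ≠ 2)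
    (hμ : p ∣ μ + 1) (hν : (p : ℤ) ∣ (ν : ℤ) - 1) (k : ℕ) (hk : p * p ∣ k) : s G k = 0 := by
  by_contra hne
  obtain ⟨g, hg⟩ := (Cfsg.Agent.S3995.s_ne_zero_iff (G := G) k).1 hne
  obtain ⟨x, hx⟩ := Cfsg.Agent.S3995.exists_orderOf_of_dvd hk g hg
  have hp1 : 1 < p := hp.one_lt
  have hp3 : 3 ≤ p := by
    rcases Nat.lt_or_ge p 3 with h | h
    · exfalso; apply hp2; omega
    · exact h
  have hpp2 : 2 < p * p := by nlinarith
  have hcard : p * p ∣ Nat.card G := hx ▸ orderOf_dvd_natCard x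
  have h2le : 2 ≤ s G (p * p) := Cfsg.Agent.S3995.two_le_s hpp2 x hx
  -- Frobenius at `p * p`
  have hfrob := Cfsg.Agent.S3995.frob_s (G := G) (p * p) hcard
  rw [← pow_two, Cfsg.Agent.S3995.sum_div_prime_sq p hp (s G), Cfsg.Agent.S3995.s_one, pow_two] at hfrob
  have hpd : p ∣ 1 + s G p + s G (p * p) := (dvd_mul_right p p).trans hfrob
  -- pair at `k = 1`
  have hp1' : p ∣ s G 1 + s G (p * 1) :=
    hpair hp (by intro h; exact hp1.ne' (Nat.dvd_one.1 h)) (by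
      rw [mul_one]; exact (dvd_mul_right p p).trans hcard)
  rw [mul_one, Cfsg.Agent.S3995.s_one] at hp1'
  have hpp : p ∣ s G (p * p) := (Nat.dvd_add_right hp1').1 hpd
  rcases H (p * p) with h | h | h | h
  · omega
  · omega
  · rw [h] at hpp
    have : p ∣ 1 := (Nat.dvd_add_right hpp).1 hμ
    exact hp1.ne' (Nat.dvd_one.1 this)
  · rw [h] at hpp
    have h1 : (p : ℤ) ∣ (ν : ℤ) := by exact_mod_cast hpp
    have h2 : (p : ℤ) ∣ 1 := by
      have := dvd_sub h1 hν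
      simpa using this
    have h3 : p ∣ 1 := by exact_mod_cast h2
    exact hp1.ne' (Nat.dvd_one.1 h3)

end Cfsg.Agent.Lib.Helper23.NSE3
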