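import Mathlib
import Cfsg.Agent.Lib.Helper22.NseDefs

/-!
# K-NSE pack (S3431), leaf 343102 AS: Sylow counting for a cyclic Sylow subgroup.
-/

set_option autoImplicit false

namespace Cfsg.Agent.Lib.Helper23.Nse

open Cfsg.Agent.Lib.Helper22.Nse

section

variable {G : Type*} [Group G] [Finite G]

/-- elements of order `p ^ k` inside a cyclic group of order `p ^ k`. -/
theorem as_card_gens {H : Type*} [Group H] [Finite H] [IsCyclic H] (d : ℕ) (hd : Nat.card H = d) :
    Nat.card {y : H // orderOf y = d} = Nat.totient d := by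
  classical
  letI : Fintype H := Fintype.ofFinite H
  have h := IsCyclic.card_orderOf_eq_totient (α := H) (d := d)
    (by rw [← Nat.card_eq_fintype_card, hd])
  rw [Nat.card_eq_fintype_card, Fintype.card_subtype]
  exact h

theorem as_main (p k : ℕ) [hp : Fact p.Prime]
    (hfac : (Nat.card G).factorization p = k) (x0 : G) (hx0 : orderOf x0 = p ^ k) :
    Nat.card {x : G // orderOf x = p ^ k} = Nat.totient (p ^ k) * Nat.card (Sylow p G) := by
  classical
  -- the map to Sylow subgroups
  have hcardz : ∀ x : G, orderOf x = p ^ k →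
      Nat.card (Subgroup.zpowers x) = p ^ (Nat.card G).factorization p := by
    intro x hx
    rw [Nat.card_zpowers, hx, hfac]
  let f : {x : G // orderOf x = p ^ k} → Sylow p G :=
    fun x => Sylow.ofCard (Subgroup.zpowers x.1) (hcardz x.1 x.2)
  -- every Sylow subgroup is cyclic
  let P0 : Sylow p G := Sylow.ofCard (Subgroup.zpowers x0) (hcardz x0 hx0)
  have hcyc0 : IsCyclic ↥P0 := by
    change IsCyclic ↥(Subgroup.zpowers x0)
    infer_instance
  have hcyc : ∀ P : Sylow p G, IsCyclic ↥P := by
    intro P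
    exact isCyclic_of_surjective (Sylow.equiv P0 P) (Sylow.equiv P0 P).surjective
  have hcardP : ∀ P : Sylow p G, Nat.card ↥P = p ^ k := by
    intro P
    have h := Sylow.card_eq_multiplicity P
    rw [hfac] at h
    exact h
  -- the fibres
  have hfib : ∀ P : Sylow p G, Nat.card {x : {x : G // orderOf x = p ^ k} // f x = P} =
      Nat.totient (p ^ k) := by
    intro P
    have := hcyc P
    rw [← as_card_gens (H := ↥P) (p ^ k) (hcardP P)]
    refine Nat.card_congr ?_
    refine
      { toFun := fun x => ⟨⟨x.1.1, ?_⟩, ?_⟩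
        invFun := fun y => ⟨⟨y.1.1, ?_⟩, ?_⟩
        left_inv := fun x => rfl
        right_inv := fun y => rfl }
    · have h1 : (f x.1 : Subgroup G) = (P : Subgroup G) := congrArg _ x.2
      have h2 : x.1.1 ∈ (f x.1 : Subgroup G) := Subgroup.mem_zpowers x.1.1
      rw [h1] at h2
      exact h2
    · exact (Subgroup.orderOf_mk _ _).trans x.1.2
    · exact (Subgroup.orderOf_coe y.1).trans y.2
    · apply Sylow.ext
      change Subgroup.zpowers (y.1 : G) = (P : Subgroup G)
      apply Subgroup.eq_of_le_of_card_ge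
      · rw [Subgroup.zpowers_le]
        exact y.1.2
      · have h1 : Nat.card ↥(P : Subgroup G) = p ^ k := hcardP P
        rw [h1, Nat.card_zpowers, Subgroup.orderOf_coe, y.2]
  letI : Fintype (Sylow p G) := Fintype.ofFinite _
  rw [Nat.card_congr (Equiv.sigmaFiberEquiv f).symm, Nat.card_sigma]
  simp only [hfib]
  rw [Finset.sum_const, Finset.card_univ, smul_eq_mul, Nat.card_eq_fintype_card, mul_comm]

end

theorem sylowHyp_of_group {G : Type*} [Group G] [Finite G] :
    SylowHyp (Nat.card G) (Cfsg.Agent.S3995.s G) := by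
  intro p k hp hk hdvd hndvd hne
  have : Fact p.Prime := ⟨hp⟩
  have hN : Nat.card G ≠ 0 := Nat.card_pos.ne'
  have hfac : (Nat.card G).factorization p = k := by
    have h1 := (hp.pow_dvd_iff_le_factorization hN).1 hdvd
    have h2 : ¬ k + 1 ≤ (Nat.card G).factorization p := fun h =>
      hndvd ((hp.pow_dvd_iff_le_factorization hN).2 h)
    omega
  obtain ⟨x0, hx0⟩ := (Cfsg.Agent.S3995.s_ne_zero_iff (G := G) (p ^ k)).1 hne
  refine ⟨Nat.card (Sylow p G), as_main p k hfac x0 hx0, ?_, ?_⟩
  · have h := card_sylow_modEq_one p G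
    have h1 : 1 % p = 1 := Nat.one_mod_eq_one.2 hp.one_lt.ne'
    rw [Nat.ModEq, h1] at h
    exact h
  · obtain ⟨P⟩ : Nonempty (Sylow p G) := inferInstance
    exact (Sylow.card_dvd_index P).trans (Subgroup.index_dvd_card _)

end Cfsg.Agent.Lib.Helper23.Nse
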