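import Cfsg.Agent.Lib.Helper46.AschOBasic

/-!
# K-O10m-Y8: a skew-adjoint square root from a tensor decomposition `2 ⊗ n₂` (odd characteristic)

`J = P (J₁ ⊗ 1) P⁻¹` with `J₁` the skew-adjoint generator for the symmetric form on `F²`; the stabiliser of the tensor
decomposition inside the isometry group conjugates `J` to `± J` (Kronecker uniqueness and a `2 × 2` computation).
-/

set_option autoImplicit false
set_option linter.unusedSectionVars false
set_option linter.unusedVariables false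

namespace Cfsg.Agent.Lib.Helper23.O10m

open Cfsg Cfsg.Geo Cfsg.Agent.Lib.Helper61.Asch Cfsg.Agent.Lib.Helper46.AschO
open scoped Matrix Kronecker MatrixGroups

section twobytwo
variable {F : Type*} [Field F]

/-- the standard alternating `2 × 2` matrix -/
def S2 (F : Type*) [Field F] : Matrix (Fin 2) (Fin 2) F := !![0, 1; -1, 0]

/-- the skew-adjoint generator attached to a symmetric `2 × 2` Gram matrix -/
def J2 (G : Matrix (Fin 2) (Fin 2) F) : Matrix (Fin 2) (Fin 2) F :=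
  !![G 0 1, G 1 1; -G 0 0, -G 0 1]

theorem S2_conj (M : Matrix (Fin 2) (Fin 2) F) : Mᵀ * S2 F * M = M.det • S2 F := by
  ext i j
  fin_cases i <;> fin_cases j <;>
    simp [S2, Matrix.mul_apply, Fin.sum_univ_two, Matrix.det_fin_two] <;> ring

theorem G_mul_J2 (G : Matrix (Fin 2) (Fin 2) F) (hs : Gᵀ = G) : G * J2 G = G.det • S2 F := by
  have h10 : G 1 0 = G 0 1 := by
    have := congrFun (congrFun hs 0) 1
    simpa using this
  ext i j
  fin_cases i <;> fin_cases j <;>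
    simp [S2, J2, Matrix.mul_apply, Fin.sum_univ_two, Matrix.det_fin_two, h10] <;> ring

theorem J2_transpose_mul (G : Matrix (Fin 2) (Fin 2) F) (hs : Gᵀ = G) :
    (J2 G)ᵀ * G = -(G * J2 G) := by
  have h10 : G 1 0 = G 0 1 := by
    have := congrFun (congrFun hs 0) 1
    simpa using this
  ext i j
  fin_cases i <;> fin_cases j <;>
    simp [J2, Matrix.mul_apply, Fin.sum_univ_two, h10]

theorem J2_sq (G : Matrix (Fin 2) (Fin 2) F) (hs : Gᵀ = G) :
    J2 G * J2 G = (-G.det) • (1 : Matrix (Fin 2) (Fin 2) F) := by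
  have h10 : G 1 0 = G 0 1 := by
    have := congrFun (congrFun hs 0) 1
    simpa using this
  ext i j
  fin_cases i <;> fin_cases j <;>
    simp [J2, Matrix.mul_apply, Fin.sum_univ_two, Matrix.det_fin_two, h10] <;> ring

theorem det_smul_two (μ : F) (G : Matrix (Fin 2) (Fin 2) F) : (μ • G).det = μ ^ 2 * G.det := by
  rw [Matrix.det_smul, Fintype.card_fin]

/-- a similitude of a symmetric `2 × 2` form commutes or anticommutes with `J2` -/
theorem comm_or_anticomm (G a : Matrix (Fin 2) (Fin 2) F) (hs : Gᵀ = G)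
    (hG : G.det ≠ 0) (ha : a.det ≠ 0) (μ : F) (h : aᵀ * G * a = μ • G) :
    a * J2 G = J2 G * a ∨ a * J2 G = -(J2 G * a) := by
  have hGJ := G_mul_J2 G hs
  -- the key identity
  have key : (aᵀ * G) * (a.det • (a * J2 G) - μ • (J2 G * a)) = 0 := by
    have e1 : aᵀ * G * (a * J2 G) = (μ * G.det) • S2 F := by
      rw [← mul_assoc, h, Matrix.smul_mul, hGJ, smul_smul]
    have e2 : aᵀ * G * (J2 G * a) = (G.det * a.det) • S2 F := by
      rw [mul_assoc aᵀ, ← mul_assoc G, hGJ, Matrix.smul_mul, Matrix.mul_smul, ← mul_assoc,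
        S2_conj, smul_smul]
    rw [mul_sub, Matrix.mul_smul, Matrix.mul_smul, e1, e2, smul_smul, smul_smul]
    rw [sub_eq_zero]
    congr 1
    ring
  have hdet : (aᵀ * G).det ≠ 0 := by
    rw [Matrix.det_mul, Matrix.det_transpose]
    exact mul_ne_zero ha hG
  have hX : a.det • (a * J2 G) - μ • (J2 G * a) = 0 := by
    have := congrArg (fun M => (aᵀ * G)⁻¹ * M) key
    simp only [← mul_assoc, Matrix.nonsing_inv_mul _ (isUnit_iff_ne_zero.mpr hdet), one_mul,
      mul_zero] at this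
    exact this
  have hX' : a.det • (a * J2 G) = μ • (J2 G * a) := sub_eq_zero.mp hX
  -- determinants
  have hd : a.det ^ 2 = μ ^ 2 := by
    have h3 := congrArg Matrix.det h
    rw [Matrix.det_mul, Matrix.det_mul, Matrix.det_transpose, det_smul_two] at h3
    have : (a.det ^ 2 - μ ^ 2) * G.det = 0 := by linear_combination h3
    rcases mul_eq_zero.mp this with h4 | h4
    · exact sub_eq_zero.mp h4
    · exact absurd h4 hG
  have hd' : (μ - a.det) * (μ + a.det) = 0 := by linear_combination -hd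
  rcases mul_eq_zero.mp hd' with h5 | h5
  · left
    have h6 : μ = a.det := sub_eq_zero.mp h5
    rw [h6] at hX'
    exact smul_right_injective _ ha hX'
  · right
    have h6 : μ = -a.det := by linear_combination h5
    rw [h6, neg_smul, ← smul_neg] at hX'
    exact smul_right_injective _ ha hX'

end twobytwo

section main
variable {F : Type*} [Field F] [Fintype F] {n : ℕ}

local notation "V" => (Fin n → F)
local notation "Mat" => Matrix (Fin n) (Fin n) F

/-- conjugation by `P` of a reindexed matrix -/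
def conjT {n₂ : ℕ} (e : Fin n ≃ Fin 2 × Fin n₂) (P : GL (Fin n) F)
    (M : Matrix (Fin 2 × Fin n₂) (Fin 2 × Fin n₂) F) : Matrix (Fin n) (Fin n) F :=
  (P : Mat) * Matrix.reindexAlgEquiv F F e.symm M * ((P⁻¹ : GL (Fin n) F) : Mat)

theorem conjT_mul {n₂ : ℕ} (e : Fin n ≃ Fin 2 × Fin n₂) (P : GL (Fin n) F)
    (M M' : Matrix (Fin 2 × Fin n₂) (Fin 2 × Fin n₂) F) :
    conjT e P (M * M') = conjT e P M * conjT e P M' := by
  unfold conjT
  have h : ((P⁻¹ : GL (Fin n) F) : Mat) * (P : Mat) = 1 := by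
    rw [← Units.val_mul, inv_mul_cancel, Units.val_one]
  rw [map_mul]
  have h2 : ∀ X : Mat, ((P⁻¹ : GL (Fin n) F) : Mat) * ((P : Mat) * X) = X := fun X => by
    rw [← mul_assoc, h, one_mul]
  simp only [mul_assoc, h2]

theorem conjT_smul {n₂ : ℕ} (e : Fin n ≃ Fin 2 × Fin n₂) (P : GL (Fin n) F) (c : F)
    (M : Matrix (Fin 2 × Fin n₂) (Fin 2 × Fin n₂) F) :
    conjT e P (c • M) = c • conjT e P M := by
  unfold conjT
  rw [map_smul, Matrix.mul_smul, Matrix.smul_mul]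

theorem conjT_neg {n₂ : ℕ} (e : Fin n ≃ Fin 2 × Fin n₂) (P : GL (Fin n) F)
    (M : Matrix (Fin 2 × Fin n₂) (Fin 2 × Fin n₂) F) :
    conjT e P (-M) = -conjT e P M := by
  unfold conjT
  rw [map_neg, mul_neg, neg_mul]

theorem conjT_one {n₂ : ℕ} (e : Fin n ≃ Fin 2 × Fin n₂) (P : GL (Fin n) F) :
    conjT e P 1 = 1 := by
  unfold conjT
  rw [map_one, mul_one, ← Units.val_mul, mul_inv_cancel, Units.val_one]

/-- tensor coordinates of a vector -/
def tc {n₂ : ℕ} (e : Fin n ≃ Fin 2 × Fin n₂) (P : GL (Fin n) F) (u : Fin n → F) :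
    Fin 2 × Fin n₂ → F :=
  (((P⁻¹ : GL (Fin n) F) : Mat) *ᵥ u) ∘ e.symm

theorem reindex_mulVec {n₂ : ℕ} (e : Fin n ≃ Fin 2 × Fin n₂)
    (M : Matrix (Fin 2 × Fin n₂) (Fin 2 × Fin n₂) F) (w : V) :
    (Matrix.reindexAlgEquiv F F e.symm M *ᵥ w) ∘ e.symm = M *ᵥ (w ∘ e.symm) := by
  rw [Matrix.coe_reindexAlgEquiv, Matrix.reindex_apply, Matrix.submatrix_mulVec_equiv]
  ext k
  simp

theorem tc_conjT {n₂ : ℕ} (e : Fin n ≃ Fin 2 × Fin n₂) (P : GL (Fin n) F)
    (M : Matrix (Fin 2 × Fin n₂) (Fin 2 × Fin n₂) F) (u : V) :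
    tc e P (conjT e P M *ᵥ u) = M *ᵥ tc e P u := by
  unfold tc conjT
  have h : ((P⁻¹ : GL (Fin n) F) : Mat) * (P : Mat) = 1 := by
    rw [← Units.val_mul, inv_mul_cancel, Units.val_one]
  rw [Matrix.mulVec_mulVec, ← mul_assoc, ← mul_assoc, h, one_mul, ← Matrix.mulVec_mulVec,
    reindex_mulVec]

theorem tc_surj {n₂ : ℕ} (e : Fin n ≃ Fin 2 × Fin n₂) (P : GL (Fin n) F)
    (x : Fin 2 × Fin n₂ → F) : tc e P ((P : Mat) *ᵥ (x ∘ e)) = x := by
  unfold tc
  have h : ((P⁻¹ : GL (Fin n) F) : Mat) * (P : Mat) = 1 := by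
    rw [← Units.val_mul, inv_mul_cancel, Units.val_one]
  rw [Matrix.mulVec_mulVec, h, Matrix.one_mulVec]
  ext k
  simp

theorem formOfGram_id {κ : Type} [Fintype κ] (G : Matrix κ κ F) (x y : κ → F) :
    formOfGram id G x y = x ⬝ᵥ (G *ᵥ y) := by
  unfold formOfGram dotProduct Matrix.mulVec dotProduct
  apply Finset.sum_congr rfl
  intro a _
  rw [Finset.mul_sum]
  apply Finset.sum_congr rfl
  intro b _
  simp [mul_assoc]

theorem form_tc {n₂ : ℕ} (f : V → V → F) (e : Fin n ≃ Fin 2 × Fin n₂) (P : GL (Fin n) F)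
    (G : Matrix (Fin 2 × Fin n₂) (Fin 2 × Fin n₂) F) (c : F)
    (hc : ∀ x y : Fin 2 × Fin n₂ → F,
      f ((P : Mat) *ᵥ (x ∘ e)) ((P : Mat) *ᵥ (y ∘ e)) = c * formOfGram id G x y) (u v : V) :
    f u v = c * (tc e P u ⬝ᵥ (G *ᵥ tc e P v)) := by
  have h : (P : Mat) * ((P⁻¹ : GL (Fin n) F) : Mat) = 1 := by
    rw [← Units.val_mul, mul_inv_cancel, Units.val_one]
  have hu : ∀ w : V, (P : Mat) *ᵥ (tc e P w ∘ e) = w := by
    intro w
    have : tc e P w ∘ e = ((P⁻¹ : GL (Fin n) F) : Mat) *ᵥ w := by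
      ext k
      simp [tc]
    rw [this, Matrix.mulVec_mulVec, h, Matrix.one_mulVec]
  have := hc (tc e P u) (tc e P v)
  rw [hu, hu, formOfGram_id] at this
  exact this

end main

section final
variable {F : Type*} [Field F] [Fintype F] {n : ℕ}

local notation "V" => (Fin n → F)
local notation "Mat" => Matrix (Fin n) (Fin n) F

theorem neg_kron {l m : Type*} (A : Matrix l l F) (B : Matrix m m F) :
    (-A) ⊗ₖ B = -(A ⊗ₖ B) := by
  ext i j
  simp [Matrix.kroneckerMap_apply]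

theorem exists_entry_ne_zero {m : Type*} [Fintype m] [DecidableEq m] [Nonempty m]
    (G : Matrix m m F) (hG : G.det ≠ 0) : ∃ k l, G k l ≠ 0 := by
  by_contra hcon
  push Not at hcon
  apply hG
  have : G = 0 := by
    ext k l
    exact hcon k l
  rw [this, Matrix.det_zero]

theorem det_gram_ne_zero {m : ℕ} (f : (Fin m → F) → (Fin m → F) → F) (hf : IsSymmetricForm f) :
    (gramMatrix f).det ≠ 0 :=
  isUnit_iff_ne_zero.mp ((Matrix.isUnit_iff_isUnit_det _).mp
    (isUnit_gram_of_nondegenerate f hf.bilinear hf.nondegenerate))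

/-- K-O10m-Y8 -/
theorem exists_skew_of_tensor_two (h2 : (2 : F) ≠ 0) (Q : V → F) (hQ : IsNondegenerateQuadraticForm Q)
    {n₂ : ℕ} (e : Fin n ≃ Fin 2 × Fin n₂) (P : GL (Fin n) F)
    (f₁ : (Fin 2 → F) → (Fin 2 → F) → F) (f₂ : (Fin n₂ → F) → (Fin n₂ → F) → F)
    (hf₁ : IsSymmetricForm f₁) (hf₂ : IsSymmetricForm f₂)
    (hT : IsTensorFormStructure id (QuadraticMap.polar Q) f₁ f₂ e P) :
    ∃ (J : Mat) (δ : F), δ ≠ 0 ∧ J * J = δ • (1 : Mat) ∧
      (∀ u v : V, QuadraticMap.polar Q (J *ᵥ u) v = - QuadraticMap.polar Q u (J *ᵥ v)) ∧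
      (∀ g ∈ tensorProductSubgroup 2 n₂ e P ⊓ isometryGroup F Q,
        (g : Mat) * J * ((g⁻¹ : GL (Fin n) F) : Mat) = J ∨ (g : Mat) * J * ((g⁻¹ : GL (Fin n) F) : Mat) = -J) := by
  rcases Nat.eq_zero_or_pos n₂ with h0 | hpos
  · -- degenerate case: the space is zero
    subst h0
    have : IsEmpty (Fin n) := e.isEmpty
    have hz : ∀ x y : V, QuadraticMap.polar Q x y = 0 := by
      intro x y
      have hx : x = 0 := Subsingleton.elim _ _
      have hy : y = 0 := Subsingleton.elim _ _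
      have hQ0 : Q 0 = 0 := by
        have := hQ.smul 0 0
        rw [zero_smul] at this
        rw [this]
        ring
      subst hx
      subst hy
      unfold QuadraticMap.polar
      rw [add_zero, hQ0]
      ring
    refine ⟨0, 1, one_ne_zero, Subsingleton.elim _ _, fun u v => by rw [hz, hz, neg_zero],
      fun g _ => Or.inl (Subsingleton.elim _ _)⟩
  have : Nonempty (Fin n₂) := ⟨⟨0, hpos⟩⟩
  obtain ⟨c, hc0, hc⟩ := hT
  have hs1 : (gramMatrix f₁)ᵀ = gramMatrix f₁ := by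
    ext i j
    exact hf₁.symm _ _
  have hG1 : (gramMatrix f₁).det ≠ 0 := det_gram_ne_zero f₁ hf₁
  have hG2 : (gramMatrix f₂).det ≠ 0 := det_gram_ne_zero f₂ hf₂
  have hform := form_tc (QuadraticMap.polar Q) e P (gramMatrix f₁ ⊗ₖ gramMatrix f₂) c hc
  refine ⟨conjT e P (J2 (gramMatrix f₁) ⊗ₖ (1 : Matrix (Fin n₂) (Fin n₂) F)), -(gramMatrix f₁).det,
    neg_ne_zero.mpr hG1, ?_, ?_, ?_⟩
  · rw [← conjT_mul, ← Matrix.mul_kronecker_mul, J2_sq _ hs1, mul_one, Matrix.smul_kronecker,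
      Matrix.one_kronecker_one, conjT_smul, conjT_one]
  · intro u v
    rw [hform, hform, tc_conjT, tc_conjT]
    have hKG : (J2 (gramMatrix f₁) ⊗ₖ (1 : Matrix (Fin n₂) (Fin n₂) F))ᵀ *
        (gramMatrix f₁ ⊗ₖ gramMatrix f₂) =
        -((gramMatrix f₁ ⊗ₖ gramMatrix f₂) *
          (J2 (gramMatrix f₁) ⊗ₖ (1 : Matrix (Fin n₂) (Fin n₂) F))) := by
      rw [← Matrix.kroneckerMap_transpose, Matrix.transpose_one, ← Matrix.mul_kronecker_mul,
        ← Matrix.mul_kronecker_mul, J2_transpose_mul _ hs1, one_mul, mul_one, neg_kron]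
    rw [← Matrix.vecMul_transpose, ← Matrix.dotProduct_mulVec, Matrix.mulVec_mulVec,
      Matrix.mulVec_mulVec, hKG, Matrix.neg_mulVec, dotProduct_neg, mul_neg]
  · rintro g ⟨hgT, hgI⟩
    obtain ⟨x, ⟨k, ⟨a, b, hk⟩, rfl⟩, rfl⟩ := hgT
    have hgval : ((((MulAut.conj P).toMonoidHom ((glReindex e.symm).toMonoidHom k) :
        GL (Fin n) F)) : Mat) = conjT e P ((a : Matrix (Fin 2) (Fin 2) F) ⊗ₖ
          (b : Matrix (Fin n₂) (Fin n₂) F)) := by
      rw [← hk]
      rfl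
    set g : GL (Fin n) F := (MulAut.conj P).toMonoidHom ((glReindex e.symm).toMonoidHom k) with hg
    have hQg : ∀ u : V, Q ((g : Mat) *ᵥ u) = Q u := fun u => hgI u u
    have hBg : ∀ u v : V, QuadraticMap.polar Q ((g : Mat) *ᵥ u) ((g : Mat) *ᵥ v) =
        QuadraticMap.polar Q u v := by
      intro u v
      unfold QuadraticMap.polar
      rw [← Matrix.mulVec_add, hQg, hQg, hQg]
    -- the Gram relation
    have hKr : ((a : Matrix (Fin 2) (Fin 2) F) ⊗ₖ (b : Matrix (Fin n₂) (Fin n₂) F))ᵀ *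
        (gramMatrix f₁ ⊗ₖ gramMatrix f₂) *
        ((a : Matrix (Fin 2) (Fin 2) F) ⊗ₖ (b : Matrix (Fin n₂) (Fin n₂) F)) =
        gramMatrix f₁ ⊗ₖ gramMatrix f₂ := by
      ext i j
      have h := hBg ((P : Mat) *ᵥ ((Pi.single i 1 : Fin 2 × Fin n₂ → F) ∘ e))
        ((P : Mat) *ᵥ ((Pi.single j 1 : Fin 2 × Fin n₂ → F) ∘ e))
      rw [hgval, hform, hform, tc_conjT, tc_conjT, tc_surj, tc_surj] at h
      have h3 := mul_left_cancel₀ hc0 h
      rw [← Matrix.vecMul_transpose, ← Matrix.dotProduct_mulVec, Matrix.mulVec_mulVec,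
        Matrix.mulVec_mulVec] at h3
      simpa using h3
    rw [← Matrix.kroneckerMap_transpose, ← Matrix.mul_kronecker_mul, ← Matrix.mul_kronecker_mul]
      at hKr
    -- Kronecker uniqueness
    obtain ⟨k0, l0, hkl⟩ := exists_entry_ne_zero (gramMatrix f₂) hG2
    obtain ⟨i0, j0, hij⟩ := exists_entry_ne_zero (gramMatrix f₁) hG1
    have hent : ∀ i j : Fin 2, ((a : Matrix (Fin 2) (Fin 2) F)ᵀ * gramMatrix f₁ * a) i j *
        ((b : Matrix (Fin n₂) (Fin n₂) F)ᵀ * gramMatrix f₂ * b) k0 l0 =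
        gramMatrix f₁ i j * gramMatrix f₂ k0 l0 := by
      intro i j
      have := congrFun (congrFun hKr (i, k0)) (j, l0)
      simpa [Matrix.kroneckerMap_apply] using this
    have hβ : ((b : Matrix (Fin n₂) (Fin n₂) F)ᵀ * gramMatrix f₂ * b) k0 l0 ≠ 0 := by
      intro h0
      have := hent i0 j0
      rw [h0, mul_zero] at this
      exact mul_ne_zero hij hkl this.symm
    have hsim : (a : Matrix (Fin 2) (Fin 2) F)ᵀ * gramMatrix f₁ * a =
        (gramMatrix f₂ k0 l0 / ((b : Matrix (Fin n₂) (Fin n₂) F)ᵀ * gramMatrix f₂ * b) k0 l0) •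
          gramMatrix f₁ := by
      ext i j
      rw [Matrix.smul_apply, smul_eq_mul, div_mul_eq_mul_div, eq_div_iff hβ, hent i j, mul_comm]
    have hadet : (a : Matrix (Fin 2) (Fin 2) F).det ≠ 0 :=
      isUnit_iff_ne_zero.mp ((Matrix.isUnit_iff_isUnit_det _).mp a.isUnit)
    have hginv : (g : Mat) * ((g⁻¹ : GL (Fin n) F) : Mat) = 1 := by
      rw [← Units.val_mul, mul_inv_cancel, Units.val_one]
    have hgJ : (g : Mat) * conjT e P (J2 (gramMatrix f₁) ⊗ₖ (1 : Matrix (Fin n₂) (Fin n₂) F)) =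
        conjT e P (((a : Matrix (Fin 2) (Fin 2) F) * J2 (gramMatrix f₁)) ⊗ₖ
          (b : Matrix (Fin n₂) (Fin n₂) F)) := by
      rw [hgval, ← conjT_mul, ← Matrix.mul_kronecker_mul, mul_one]
    have hJg : conjT e P (J2 (gramMatrix f₁) ⊗ₖ (1 : Matrix (Fin n₂) (Fin n₂) F)) * (g : Mat) =
        conjT e P ((J2 (gramMatrix f₁) * (a : Matrix (Fin 2) (Fin 2) F)) ⊗ₖ
          (b : Matrix (Fin n₂) (Fin n₂) F)) := by
      rw [hgval, ← conjT_mul, ← Matrix.mul_kronecker_mul, one_mul]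
    rcases comm_or_anticomm (gramMatrix f₁) (a : Matrix (Fin 2) (Fin 2) F) hs1 hG1 hadet _ hsim with
      h | h
    · left
      rw [hgJ, h, ← hJg, mul_assoc, hginv, mul_one]
    · right
      rw [hgJ, h, neg_kron, conjT_neg, ← hJg, neg_mul, mul_assoc, hginv, mul_one]

end final

end Cfsg.Agent.Lib.Helper23.O10m
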