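import Cfsg.Agent.Lib.Helper72.OQFDefs2
import Cfsg.Agent.Lib.Helper98.Os1
import Cfsg.Agent.Lib.Helper50.StdForms
import Cfsg.Agent.Lib.Helper53.OQFRep

set_option autoImplicit false
set_option linter.unusedSectionVars false
set_option linter.unusedVariables false
set_option linter.unusedSimpArgs false

/-!
# K-OQF-NF (keystone 597720, S5978 pack, architect helper72): existence of a normal frame

For a self-adjoint square root `θ` of a non-square `δ` on a nondegenerate quadratic space of dimension `2d`
(`q` odd): vectors `b k` with the planes `⟨b k, θ b k⟩` mutually orthogonal, `(Q, B(·, θ ·)) = (0, 1)` on all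
but the last one.
-/

namespace Cfsg.Agent.Lib.Helper23.OQF

open Module Cfsg Cfsg.Geo Cfsg.Agent.Lib.Helper72.OQF Cfsg.Agent.Lib.Helper98.Sy
open scoped Matrix

universe u

section abstract

variable {F : Type u} [Field F] {V : Type u} [AddCommGroup V] [Module F V]

/-- abstract normal frame -/
structure AFrame (Q : QuadraticForm F V) (θ : V →ₗ[F] V) (d : ℕ) (b : Fin d → V) (a β : F) : Prop where
  orth : ∀ k l, k ≠ l → QuadraticMap.polar (⇑Q) (b k) (b l) = 0 ∧
    QuadraticMap.polar (⇑Q) (b k) (θ (b l)) = 0
  norm : ∀ k : Fin d, (k : ℕ) + 1 < d → Q (b k) = 0 ∧ QuadraticMap.polar (⇑Q) (b k) (θ (b k)) = 1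
  last : ∀ k : Fin d, (k : ℕ) + 1 = d → Q (b k) = a ∧ QuadraticMap.polar (⇑Q) (b k) (θ (b k)) = β
  ne : a ≠ 0 ∨ β ≠ 0

variable (Q : QuadraticForm F V)

theorem pB_apply (u v : V) : QuadraticMap.polarBilin Q u v = QuadraticMap.polar (⇑Q) u v := rfl

theorem pB_isRefl : (QuadraticMap.polarBilin Q).IsRefl := by
  intro x y h
  rw [pB_apply] at h ⊢
  rw [QuadraticMap.polar_comm]
  exact h

/-- a nondegenerate nonzero subspace contains a vector with `Q u ≠ 0` (char `≠ 2`) -/
theorem exists_Q_ne_zero (W : Submodule F V)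
    (hW : NonDeg (QuadraticMap.polarBilin Q) W) (hW0 : W ≠ ⊥) : ∃ u ∈ W, Q u ≠ 0 := by
  by_contra h
  push Not at h
  obtain ⟨w, hw, hw0⟩ := Submodule.exists_mem_ne_zero_of_ne_bot hW0
  apply hw0
  apply hW w hw
  intro v hv
  rw [pB_apply]
  unfold QuadraticMap.polar
  rw [h _ (W.add_mem hw hv), h w hw, h v hv]
  ring

variable {Q}

theorem exists_aframe [Fintype F] [FiniteDimensional F V] (hodd : Odd (Fintype.card F))
    (δ : F) (hδ : ¬ IsSquare δ) (θ : V →ₗ[F] V) (hθ : ∀ v, θ (θ v) = δ • v)
    (hsa : ∀ u v, QuadraticMap.polar (⇑Q) (θ u) v = QuadraticMap.polar (⇑Q) u (θ v)) :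
    ∀ d : ℕ, 1 ≤ d → ∀ W : Submodule F V, NonDeg (QuadraticMap.polarBilin Q) W →
      (∀ w ∈ W, θ w ∈ W) → finrank F W = 2 * d →
      ∃ (b : Fin d → V) (a β : F), (∀ k, b k ∈ W) ∧ AFrame Q θ d b a β := by
  have h2 : (2 : F) ≠ 0 := Cfsg.Agent.Lib.Helper50.two_ne_zero_of_odd_card rfl hodd
  have hR := pB_isRefl Q
  intro d
  induction d with
  | zero => intro h; omega
  | succ d ih =>
    intro _ W hW hWθ hWd
    rcases Nat.eq_zero_or_pos d with hd0 | hdpos
    · -- base case: one plane
      subst hd0
      have hW0 : W ≠ ⊥ := by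
        rintro rfl
        rw [finrank_bot] at hWd
        omega
      obtain ⟨u, hu, hQu⟩ := exists_Q_ne_zero Q W hW hW0
      refine ⟨fun _ => u, Q u, QuadraticMap.polar (⇑Q) u (θ u), fun _ => hu, ?_⟩
      refine ⟨?_, ?_, ?_, Or.inl hQu⟩
      · intro k l hkl
        exact absurd (Fin.ext (by have := k.isLt; have := l.isLt; omega)) hkl
      · intro k hk
        omega
      · intro k _
        exact ⟨rfl, rfl⟩
    · -- inductive step: split off a hyperbolic `θ`-invariant plane
      -- restricted data on `W`
      set Q' : QuadraticForm F W := Q.comp W.subtype with hQ'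
      have hpol' : ∀ x y : W, QuadraticMap.polar (⇑Q') x y = QuadraticMap.polar (⇑Q) (x : V) (y : V) := by
        intro x y
        simp [QuadraticMap.polar, hQ']
      have hQ'nd : (QuadraticMap.polarBilin Q').Nondegenerate := by
        constructor
        · intro x hx
          apply Subtype.ext
          apply hW x x.2
          intro v hv
          have := hx ⟨v, hv⟩
          rw [pB_apply, hpol'] at this
          exact this
        · intro y hy
          apply Subtype.ext
          apply hW y y.2
          intro v hv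
          have := hy ⟨v, hv⟩
          rw [pB_apply, hpol', QuadraticMap.polar_comm] at this
          exact this
      set θ' : W →ₗ[F] W := θ.restrict hWθ with hθ'
      have hθ'c : ∀ w : W, ((θ' w : W) : V) = θ (w : V) := fun w => rfl
      obtain ⟨u', hu'Q, hu'B⟩ := Cfsg.Agent.Lib.Helper53.OQF.exists_rep hodd Q' hQ'nd δ hδ θ'
        (fun v => by
          apply Subtype.ext
          rw [hθ'c, hθ'c, hθ]
          rfl)
        (fun x y => by rw [hpol', hpol', hθ'c, hθ'c, hsa])
        (by rw [hWd]; omega) 0 1
      set u : V := (u' : V) with hu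
      have huW : u ∈ W := u'.2
      have hQu : Q u = 0 := by
        have : Q' u' = Q u := rfl
        rw [← this, hu'Q]
      have hBu : QuadraticMap.polar (⇑Q) u (θ u) = 1 := by
        rw [← hu'B, hpol', hθ'c]
      have hBuu : QuadraticMap.polar (⇑Q) u u = 0 := by
        rw [QuadraticMap.polar_self, hQu, smul_zero]
      have hBtt : QuadraticMap.polar (⇑Q) (θ u) (θ u) = 0 := by
        rw [hsa, hθ, QuadraticMap.polar_smul_right, hBuu, smul_zero]
      have hBtu : QuadraticMap.polar (⇑Q) (θ u) u = 1 := by
        rw [QuadraticMap.polar_comm]; exact hBu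
      -- the plane
      set P : Submodule F V := Submodule.span F {u, θ u} with hP
      have hmemP : ∀ x ∈ P, ∃ s t : F, x = s • u + t • θ u := by
        intro x hx
        rw [hP, Submodule.mem_span_pair] at hx
        obtain ⟨s, t, rfl⟩ := hx
        exact ⟨s, t, rfl⟩
      have huP : u ∈ P := Submodule.subset_span (by simp)
      have htP : θ u ∈ P := Submodule.subset_span (by simp)
      have hPW : P ≤ W := by
        rw [hP, Submodule.span_le]
        intro x hx
        rcases hx with rfl | rfl
        · exact huW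
        · exact hWθ _ huW
      have hPnd : NonDeg (QuadraticMap.polarBilin Q) P := by
        intro x hx hx0
        obtain ⟨s, t, rfl⟩ := hmemP x hx
        have h1 := hx0 u huP
        have h2' := hx0 (θ u) htP
        rw [pB_apply, QuadraticMap.polar_add_left, QuadraticMap.polar_smul_left,
          QuadraticMap.polar_smul_left, hBuu, hBtu] at h1
        rw [pB_apply, QuadraticMap.polar_add_left, QuadraticMap.polar_smul_left,
          QuadraticMap.polar_smul_left, hBu, hBtt] at h2'
        simp only [smul_eq_mul, mul_zero, mul_one, zero_add, add_zero] at h1 h2'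
        rw [h1, h2', zero_smul, zero_smul, add_zero]
      have hPd : finrank F P = 2 := by
        have hli : LinearIndependent F ![u, θ u] := by
          rw [LinearIndependent.pair_iff]
          intro s t hst
          have h1 : QuadraticMap.polar (⇑Q) (s • u + t • θ u) u = 0 := by
            rw [hst]; simp [QuadraticMap.polar]
          have h2' : QuadraticMap.polar (⇑Q) (s • u + t • θ u) (θ u) = 0 := by
            rw [hst]; simp [QuadraticMap.polar]
          rw [QuadraticMap.polar_add_left, QuadraticMap.polar_smul_left,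
            QuadraticMap.polar_smul_left, hBuu, hBtu] at h1
          rw [QuadraticMap.polar_add_left, QuadraticMap.polar_smul_left,
            QuadraticMap.polar_smul_left, hBu, hBtt] at h2'
          simp only [smul_eq_mul, mul_zero, mul_one, zero_add, add_zero] at h1 h2'
          exact ⟨h2', h1⟩
        have := finrank_span_eq_card hli
        rw [Fintype.card_fin] at this
        have hrange : Set.range ![u, θ u] = {u, θ u} := by
          ext x
          constructor
          · rintro ⟨i, rfl⟩
            fin_cases i <;> simp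
          · rintro (rfl | rfl)
            · exact ⟨0, rfl⟩
            · exact ⟨1, rfl⟩
        rw [hrange] at this
        exact this
      obtain ⟨hsup, hinf, hW'nd, hW'd⟩ :=
        Cfsg.Agent.Lib.Helper98.Os.compl_props hR P W hPnd hPW hW
      set W' : Submodule F V := LinearMap.BilinForm.orthogonal (QuadraticMap.polarBilin Q) P ⊓ W with hW'
      have hW'orth : ∀ w ∈ W', ∀ p ∈ P, QuadraticMap.polar (⇑Q) p w = 0 := by
        intro w hw p hp
        have := LinearMap.BilinForm.mem_orthogonal_iff.mp (Submodule.mem_inf.mp hw).1 p hp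
        exact this
      have hPθ : ∀ p ∈ P, θ p ∈ P := by
        intro p hp
        obtain ⟨s, t, rfl⟩ := hmemP p hp
        rw [map_add, map_smul, map_smul, hθ]
        exact P.add_mem (P.smul_mem _ htP) (P.smul_mem _ (P.smul_mem _ huP))
      have hW'θ : ∀ w ∈ W', θ w ∈ W' := by
        intro w hw
        refine Submodule.mem_inf.mpr ⟨?_, hWθ w (Submodule.mem_inf.mp hw).2⟩
        rw [LinearMap.BilinForm.mem_orthogonal_iff]
        intro p hp
        show QuadraticMap.polarBilin Q p (θ w) = 0
        rw [pB_apply, ← hsa]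
        exact hW'orth w hw (θ p) (hPθ p hp)
      have hW'dim : finrank F W' = 2 * d := by omega
      obtain ⟨b', a, β, hb'W, hfr⟩ := ih hdpos W' hW'nd hW'θ hW'dim
      refine ⟨Fin.cons u b', a, β, ?_, ?_⟩
      · intro k
        refine Fin.cases ?_ (fun k' => ?_) k
        · rw [Fin.cons_zero]; exact huW
        · rw [Fin.cons_succ]; exact (Submodule.mem_inf.mp (hb'W k')).2
      refine ⟨?_, ?_, ?_, hfr.ne⟩
      · intro k l hkl
        refine Fin.cases ?_ (fun k' => ?_) k hkl
        · intro hkl
          refine Fin.cases ?_ (fun l' => ?_) l hkl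
          · intro h; exact absurd rfl h
          · intro _
            rw [Fin.cons_zero, Fin.cons_succ]
            exact ⟨hW'orth _ (hb'W l') u huP, hW'orth _ (hW'θ _ (hb'W l')) u huP⟩
        · intro hkl
          refine Fin.cases ?_ (fun l' => ?_) l hkl
          · intro _
            rw [Fin.cons_zero, Fin.cons_succ]
            constructor
            · rw [QuadraticMap.polar_comm]; exact hW'orth _ (hb'W k') u huP
            · rw [QuadraticMap.polar_comm]; exact hW'orth _ (hb'W k') (θ u) htP
          · intro hkl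
            rw [Fin.cons_succ, Fin.cons_succ]
            exact hfr.orth k' l' (fun h => hkl (by rw [h]))
      · intro k
        refine Fin.cases ?_ (fun k' => ?_) k
        · intro _
          rw [Fin.cons_zero]
          exact ⟨hQu, hBu⟩
        · intro hk
          rw [Fin.cons_succ]
          apply hfr.norm k'
          rw [Fin.val_succ] at hk
          omega
      · intro k
        refine Fin.cases ?_ (fun k' => ?_) k
        · intro hk
          rw [Fin.val_zero] at hk
          omega
        · intro hk
          rw [Fin.cons_succ]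
          apply hfr.last k'
          rw [Fin.val_succ] at hk
          omega

/-- the vectors of an abstract normal frame and their images under `θ` are linearly independent -/
theorem AFrame.linearIndependent (h2 : (2 : F) ≠ 0) (δ : F) (hδ : ¬ IsSquare δ) (θ : V →ₗ[F] V)
    (hθ : ∀ v, θ (θ v) = δ • v)
    (hsa : ∀ u v, QuadraticMap.polar (⇑Q) (θ u) v = QuadraticMap.polar (⇑Q) u (θ v))
    {d : ℕ} {b : Fin d → V} {a β : F} (hfr : AFrame Q θ d b a β) :
    LinearIndependent F (fun p : Fin d × Fin 2 => if p.2 = 0 then b p.1 else θ (b p.1)) := by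
  rw [Fintype.linearIndependent_iff]
  intro g hg
  rw [Fintype.sum_prod_type] at hg
  simp only [Fin.sum_univ_two, Fin.isValue, if_true, one_ne_zero, if_false] at hg
  -- pair with `b k` and `θ (b k)`
  have hpair : ∀ (k : Fin d) (w : V), (∀ l, l ≠ k → QuadraticMap.polar (⇑Q) (b l) w = 0 ∧
      QuadraticMap.polar (⇑Q) (θ (b l)) w = 0) →
      g (k, 0) * QuadraticMap.polar (⇑Q) (b k) w + g (k, 1) * QuadraticMap.polar (⇑Q) (θ (b k)) w = 0 := by
    intro k w hw
    have h0 : QuadraticMap.polarBilin Q (∑ x : Fin d, (g (x, 0) • b x + g (x, 1) • θ (b x))) w = 0 := by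
      rw [hg]; simp
    rw [map_sum, LinearMap.sum_apply, Finset.sum_eq_single k] at h0
    · rw [map_add, LinearMap.add_apply, map_smul, map_smul, LinearMap.smul_apply, LinearMap.smul_apply,
        pB_apply, pB_apply, smul_eq_mul, smul_eq_mul] at h0
      exact h0
    · intro l _ hl
      rw [map_add, LinearMap.add_apply, map_smul, map_smul, LinearMap.smul_apply, LinearMap.smul_apply,
        pB_apply, pB_apply, (hw l hl).1, (hw l hl).2]
      simp
    · intro h; exact absurd (Finset.mem_univ k) h
  intro p
  obtain ⟨k, e⟩ := p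
  have h1 := hpair k (b k) (fun l hl => by
    refine ⟨(hfr.orth l k hl).1, ?_⟩
    rw [hsa]; exact (hfr.orth l k hl).2)
  have h2' := hpair k (θ (b k)) (fun l hl => by
    refine ⟨(hfr.orth l k hl).2, ?_⟩
    rw [hsa, hθ, QuadraticMap.polar_smul_right, (hfr.orth l k hl).1, smul_zero])
  have e1 : QuadraticMap.polar (⇑Q) (b k) (b k) = 2 * Q (b k) := by
    rw [QuadraticMap.polar_self]; simp
  have e2 : QuadraticMap.polar (⇑Q) (θ (b k)) (b k) = QuadraticMap.polar (⇑Q) (b k) (θ (b k)) := by
    rw [QuadraticMap.polar_comm]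
  have e3 : QuadraticMap.polar (⇑Q) (θ (b k)) (θ (b k)) = δ * (2 * Q (b k)) := by
    rw [hsa, hθ, QuadraticMap.polar_smul_right, e1, smul_eq_mul]
  rw [e1, e2] at h1
  rw [e3] at h2'
  -- the two values
  obtain ⟨A, hA⟩ : ∃ A, A = Q (b k) := ⟨_, rfl⟩
  obtain ⟨C, hC⟩ : ∃ C, C = QuadraticMap.polar (⇑Q) (b k) (θ (b k)) := ⟨_, rfl⟩
  rw [← hA, ← hC] at h1 h2'
  have hAC : A ≠ 0 ∨ C ≠ 0 := by
    rcases Nat.lt_or_ge ((k : ℕ) + 1) d with hk | hk
    · right
      rw [hC, (hfr.norm k hk).2]
      exact one_ne_zero
    · have hk' : (k : ℕ) + 1 = d := by have := k.isLt; omega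
      rw [hA, hC, (hfr.last k hk').1, (hfr.last k hk').2]
      exact hfr.ne
  have hdet : C ^ 2 - δ * (2 * A) ^ 2 ≠ 0 := by
    intro h
    by_cases hA0 : A = 0
    · rw [hA0] at h
      have : C = 0 := by
        have : C ^ 2 = 0 := by linear_combination h
        exact pow_eq_zero_iff two_ne_zero |>.mp this
      rcases hAC with h' | h'
      · exact h' hA0
      · exact h' this
    · apply hδ
      refine ⟨C / (2 * A), ?_⟩
      have h2A : 2 * A ≠ 0 := mul_ne_zero h2 hA0
      field_simp
      linear_combination -h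
  have hg0 : g (k, 0) = 0 := by
    have : g (k, 0) * (C ^ 2 - δ * (2 * A) ^ 2) = 0 := by
      linear_combination C * h2' - δ * (2 * A) * h1
    rcases mul_eq_zero.mp this with h | h
    · exact h
    · exact absurd h hdet
  have hg1 : g (k, 1) = 0 := by
    have : g (k, 1) * (C ^ 2 - δ * (2 * A) ^ 2) = 0 := by
      linear_combination C * h1 - (2 * A) * h2'
    rcases mul_eq_zero.mp this with h | h
    · exact h
    · exact absurd h hdet
  fin_cases e
  · exact hg0
  · exact hg1

end abstract

section concrete

variable {F : Type*} [Field F] {ι : Type} [Fintype ι] [DecidableEq ι]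

theorem exists_nframe [Fintype F] (hodd : Odd (Fintype.card F)) (Q : QuadraticForm F (ι → F))
    (hQ : (QuadraticMap.polarBilin Q).Nondegenerate) (δ : F) (hδ : ¬ IsSquare δ) (θ : Matrix ι ι F)
    (hθ : θ * θ = δ • (1 : Matrix ι ι F)) (hsa : IsSAMat (⇑Q) θ) (d : ℕ) (hd : 1 ≤ d)
    (hcard : Fintype.card ι = 2 * d) :
    ∃ (b : Fin d → ι → F) (a β : F), IsNFrame (⇑Q) θ d b a β := by
  have h2 : (2 : F) ≠ 0 := Cfsg.Agent.Lib.Helper50.two_ne_zero_of_odd_card rfl hodd
  set T : (ι → F) →ₗ[F] (ι → F) := Matrix.mulVecLin θ with hT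
  have hTapp : ∀ v, T v = θ *ᵥ v := fun v => rfl
  have hTT : ∀ v, T (T v) = δ • v := by
    intro v
    rw [hTapp, hTapp, Matrix.mulVec_mulVec, hθ, Matrix.smul_mulVec, Matrix.one_mulVec]
  have hTsa : ∀ u v, QuadraticMap.polar (⇑Q) (T u) v = QuadraticMap.polar (⇑Q) u (T v) := hsa
  have hV : NonDeg (QuadraticMap.polarBilin Q) ⊤ := by
    intro u _ h
    exact hQ.1 u (fun w => h w Submodule.mem_top)
  obtain ⟨b, a, β, -, hfr⟩ := exists_aframe hodd δ hδ T hTT hTsa d hd ⊤ hV
    (fun _ _ => Submodule.mem_top) (by rw [finrank_top, Module.finrank_pi, hcard])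
  refine ⟨b, a, β, ?_⟩
  exact
    { card := hcard
      li := hfr.linearIndependent h2 δ hδ T hTT hTsa
      orth := hfr.orth
      norm := hfr.norm
      last := hfr.last
      ne := hfr.ne }

end concrete

end Cfsg.Agent.Lib.Helper23.OQF
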