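import Mathlib
import Cfsg.Prelude.Def_Solvable
import Cfsg.Agent.S3997
import Cfsg.Agent.S0034
import Cfsg.Agent.S0042

/-!
# K-OTF pack (S3999), leaf 399903 F3: the number of `p`-elements of a Frobenius group, `p ∣ k`.
-/

set_option autoImplicit false
open Cfsg

namespace Cfsg.Agent.Lib.Helper23.OTF

open scoped Pointwise

/-- an element outside the Frobenius kernel has order dividing the order of the complement. -/
theorem f3_order_dvd_of_not_mem {L : Type*} [Group L] [Finite L] (H : Subgroup L) (x : L)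
    (hx : x ∉ Cfsg.frobeniusKernel H) : orderOf x ∣ Nat.card H := by
  have hx' : ¬ (x = 1 ∨ ∀ g : L, x ∉ MulAut.conj g • H) := hx
  push_neg at hx'
  obtain ⟨_, g, hg⟩ := hx'
  obtain ⟨s, hs, hsx⟩ := (Subgroup.mem_smul_pointwise_iff_exists x (MulAut.conj g) H).1 hg
  have h1 : orderOf x = orderOf s := by
    rw [← hsx]
    exact MulEquiv.orderOf_eq (MulAut.conj g) s
  rw [h1]
  have h2 : orderOf (⟨s, hs⟩ : H) = orderOf s := Subgroup.orderOf_mk s hs
  rw [← h2]
  exact orderOf_dvd_natCard _

theorem f3_coprime {L : Type*} [Group L] [Finite L] (H : Subgroup L)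
    (hH : Cfsg.IsFrobeniusComplement H) : Nat.Coprime H.index (Nat.card H) := by
  have h := (Cfsg.Agent.S0034.result H hH).2
  have hc : Nat.gcd H.index (Nat.card H) = Nat.gcd 1 (Nat.card H) := by
    rw [Nat.gcd_comm, Nat.gcd_rec, Nat.gcd_comm 1, Nat.gcd_rec (Nat.card H) 1, h]
  rw [Nat.Coprime, hc, Nat.gcd_one_left]

theorem frob_card_pElts {L : Type*} [Group L] [Finite L] (H : Subgroup L)
    (hH : Cfsg.IsFrobeniusComplement H) (p : ℕ) [Fact p.Prime] (hp : p ∣ H.index) :
    Nat.card {x : L // ∃ j : ℕ, orderOf x = p ^ j} = p ^ (H.index.factorization p) := by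
  have hprime : p.Prime := Fact.out
  obtain ⟨N, hNcar, hNn, hNnil⟩ := Cfsg.Agent.S0042.result H hH
  have hcardN : Nat.card N = H.index := by
    rw [← (Cfsg.Agent.S0034.result H hH).1]
    exact Nat.card_congr (Equiv.setCongr hNcar)
  have hco := f3_coprime H hH
  -- every `p`-element lies in `N`
  have hmemN : ∀ x : L, (∃ j : ℕ, orderOf x = p ^ j) → x ∈ N := by
    rintro x ⟨j, hj⟩
    by_contra hxN
    have hxK : x ∉ Cfsg.frobeniusKernel H := by
      rw [← hNcar]
      exact hxN
    have hd := f3_order_dvd_of_not_mem H x hxK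
    rw [hj] at hd
    rcases Nat.eq_zero_or_pos j with rfl | hjpos
    · apply hxN
      rw [pow_zero, orderOf_eq_one_iff] at hj
      rw [hj]
      exact N.one_mem
    · have hpc : p ∣ Nat.card H := (dvd_pow_self p hjpos.ne').trans hd
      have := Nat.dvd_gcd hp hpc
      rw [hco.gcd_eq_one] at this
      exact hprime.one_lt.ne' (Nat.dvd_one.1 this)
  -- the Sylow `p`-subgroup of `N` is normal
  have hnorm : ∀ P : Sylow p N, (P : Subgroup N).Normal := by
    intro P
    have q := (Group.isNilpotent_of_finite_tfae (G := N)).out 0 3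
    exact (q.1 hNnil) p inferInstance P
  obtain ⟨P⟩ : Nonempty (Sylow p N) := inferInstance
  have hPcard : Nat.card (P : Subgroup N) = p ^ (H.index.factorization p) := by
    rw [Sylow.card_eq_multiplicity, hcardN]
  rw [← hPcard]
  refine Nat.card_congr ?_
  refine
    { toFun := fun x => ⟨⟨x.1, hmemN x.1 x.2⟩, ?_⟩
      invFun := fun y => ⟨(y.1 : L), ?_⟩
      left_inv := fun x => rfl
      right_inv := fun y => rfl }
  · apply Cfsg.Agent.S3997.pElts_subset_sylow_of_normal p P (hnorm P)
    obtain ⟨j, hj⟩ := x.2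
    exact ⟨j, (Subgroup.orderOf_mk x.1 (hmemN x.1 x.2)).trans hj⟩
  · obtain ⟨j, hj⟩ := Cfsg.Agent.S3997.sylow_subset_pElts p P y.2
    exact ⟨j, (Subgroup.orderOf_coe (y.1 : N)).trans hj⟩

end Cfsg.Agent.Lib.Helper23.OTF
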