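import Cfsg.Agent.Lib.Helper48.OTsO15a
import Cfsg.Agent.Lib.Helper99.OTsO4
import Cfsg.Agent.Lib.Helper99.OTsO9
import Cfsg.Agent.Lib.Helper82.OTsO7
import Cfsg.Agent.Lib.Helper81.OTsO10

/-!
# K-OTs-O15 (597315, S5973 + S5987, architect helper99): the derangement family for `i` odd

Exact-signature wrapper of `Cfsg.Agent.Lib.Helper48.OTs.exists_derangement_odd_of`
(parallel hand; the glue itself is helper48's).
-/

set_option autoImplicit false
set_option linter.unusedVariables false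

namespace Cfsg.Agent.Lib.Helper23.OTs

open Module Cfsg.Agent.Lib.Helper98.Elus Cfsg.Agent.Lib.Helper98.Sy Cfsg.Agent.Lib.Helper99.OTs

universe u
variable {F : Type u} [Field F] {V : Type u} [AddCommGroup V] [Module F V]

/-- **O15 (597315)**: `i` odd. -/
theorem exists_derangement_odd [Fintype F] (p f : ℕ) [Fact p.Prime] (hF : Fintype.card F = p ^ f)
    (r : ℕ) [Fact r.Prime] (hpr : p ≠ r) (hr2 : r ≠ 2) (hrF : (r : F) ≠ 0)
    (hodd : Odd (orderOf ((Fintype.card F : ℕ) : ZMod r))) (τ : Prop) (d m j : ℕ) (hj : 1 ≤ j)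
    (hjd : 2 * (orderOf ((Fintype.card F : ℕ) : ZMod r) * j) ≤ 2 * d)
    (hval : ¬ τ → 2 * (orderOf ((Fintype.card F : ℕ) : ZMod r) * j) + 2 ≤ 2 * d)
    (h1 : τ → ∀ b, b ≤ j → orderOf ((Fintype.card F : ℕ) : ZMod r) * b ≤ m →
      2 * d - 2 * (orderOf ((Fintype.card F : ℕ) : ZMod r) * j) <
        2 * (m - orderOf ((Fintype.card F : ℕ) : ZMod r) * b))
    (h2 : ¬ τ → ∀ b, b ≤ j → orderOf ((Fintype.card F : ℕ) : ZMod r) * b ≤ m →
      2 * d - 2 * (orderOf ((Fintype.card F : ℕ) : ZMod r) * j) <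
        2 * (m - orderOf ((Fintype.card F : ℕ) : ZMod r) * b) + 2) :
    ∃ (V : Type u) (_ : AddCommGroup V) (_ : Module F V) (_ : FiniteDimensional F V)
      (Q : QuadraticForm F V) (y : V →ₗ[F] V),
      NonDeg (QuadraticMap.polarBilin Q) ⊤ ∧ finrank F V = 2 * d ∧ (PlusOn Q ⊤ ↔ τ) ∧ QIso Q y ∧ y ^ r = 1 ∧
      (∀ z : F, y ≠ z • 1) ∧ ∀ W : Submodule F V, Inv y W → TS Q W → finrank F W ≠ m := by
  have hr : r.Prime := Fact.out
  have hoddr : Odd r := hr.eq_two_or_odd'.resolve_left hr2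
  refine Cfsg.Agent.Lib.Helper48.OTs.exists_derangement_odd_of p f hF r hpr hr2 hrF hodd τ d m j hj
    hjd hval h1 h2 ?_ ?_ ?_ ?_
  · intro V _ _ _ Q hV d hd y hy hiso
    exact Cfsg.Agent.Lib.Helper99.OTs.plusOn_V0_iff Q hV d hd p f hF r hpr hr2 hrF y hy hiso
  · exact Cfsg.Agent.Lib.Helper82.OTs.exists_model_blocks p f hF r hpr hr2 hrF j
  · intro e τ hτ
    exact Cfsg.Agent.Lib.Helper99.OTs.exists_fixed_part e τ hτ
  · intro V _ _ _ Q1 hV1 y1 hy hiso hg V0' _ _ _ Q0 hV0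
    exact Cfsg.Agent.Lib.Helper81.OTs.exists_prod_model Q1 hV1 r hoddr hrF y1 hy hiso hg Q0 hV0

end Cfsg.Agent.Lib.Helper23.OTs
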