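import Cfsg.Agent.Lib.Helper50.SpinorCrit
import Cfsg.Agent.Lib.Helper50.GeoBridge
import Cfsg.Agent.Lib.Helper50.StdForms
import Cfsg.Agent.Lib.Helper23.OsElG

set_option autoImplicit false
set_option linter.unusedSimpArgs false
set_option linter.unusedSectionVars false
set_option linter.unusedVariables false

/-!
# K-OsEl-M (keystone 597214, for S5972, architect helper8): the bad involution

`q ≡ 3 mod 4`: `x = r_u r_v` (`u = e₀`, `v = e₁ + f₁`) lies in `Ω (quadFormOdd d F)`, has order 2 and fixes no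
totally singular `d`-space.
-/

namespace Cfsg.Agent.Lib.Helper23.OsEl

open Module Matrix Cfsg.Agent.Lib.Helper50 Cfsg.Agent.Lib.Helper98.Sy

section abstract

variable {F : Type*} [Field F] {ι : Type} [Fintype ι] [DecidableEq ι]

/-- the product of two reflections in orthogonal unit vectors -/
theorem refl_refl_mulVec (Q : QuadraticForm F (ι → F)) (u v : ι → F) (hu : Q u = 1) (hv : Q v = 1)
    (huv : QuadraticMap.polar (⇑Q) u v = 0) (w : ι → F) :
    (Cfsg.reflectionMatrix (⇑Q) u * Cfsg.reflectionMatrix (⇑Q) v) *ᵥ w =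
      w - QuadraticMap.polar (⇑Q) v w • v - QuadraticMap.polar (⇑Q) u w • u := by
  rw [← Matrix.mulVec_mulVec, Cfsg.Agent.Lib.Helper19.reflectionMatrix_mulVec,
    Cfsg.Agent.Lib.Helper19.reflectionMatrix_mulVec, hu, hv, inv_one, one_mul, one_mul,
    QuadraticMap.polar_sub_right, QuadraticMap.polar_smul_right, huv, smul_eq_mul, mul_zero, sub_zero]

theorem Q_comb (Q : QuadraticForm F (ι → F)) (u v : ι → F) (hu : Q u = 1) (hv : Q v = 1)
    (huv : QuadraticMap.polar (⇑Q) u v = 0) (a b : F) :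
    Q (b • v + a • u) = a ^ 2 + b ^ 2 := by
  have h1 : Q (b • v + a • u) = Q (b • v) + Q (a • u) + QuadraticMap.polar (⇑Q) (b • v) (a • u) := by
    simp only [QuadraticMap.polar]; ring
  rw [h1, QuadraticMap.map_smul, QuadraticMap.map_smul, QuadraticMap.polar_smul_left,
    QuadraticMap.polar_smul_right, QuadraticMap.polar_comm (⇑Q) v u, huv, hu, hv]
  simp only [smul_eq_mul]
  ring

theorem nonDeg_span_singleton (B : LinearMap.BilinForm F (ι → F)) (v : ι → F) (hv : B v v ≠ 0) :
    NonDeg B (Submodule.span F {v}) := by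
  intro x hx h
  obtain ⟨a, rfl⟩ := Submodule.mem_span_singleton.mp hx
  have := h v (Submodule.mem_span_singleton_self v)
  rw [map_smul, LinearMap.smul_apply, smul_eq_mul] at this
  rcases mul_eq_zero.mp this with h0 | h0
  · rw [h0, zero_smul]
  · exact absurd h0 hv

/-- an invariant totally singular subspace for `r_u r_v` (`u ⊥ v` unit vectors, `-1` not a square) has
dimension at most `(n - 2) / 2` -/
theorem two_mul_finrank_add_two_le (h2 : (2 : F) ≠ 0) (hm1 : ¬ IsSquare (-1 : F))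
    (Q : QuadraticForm F (ι → F)) (hV : NonDeg (QuadraticMap.polarBilin Q) ⊤)
    (u v : ι → F) (hu : Q u = 1) (hv : Q v = 1) (huv : QuadraticMap.polar (⇑Q) u v = 0)
    (W : Submodule F (ι → F)) (hWQ : ∀ w ∈ W, Q w = 0)
    (hW : W.map (Matrix.toLin' (Cfsg.reflectionMatrix (⇑Q) u * Cfsg.reflectionMatrix (⇑Q) v)) ≤ W) :
    2 * finrank F W + 2 ≤ Fintype.card ι := by
  set B := QuadraticMap.polarBilin Q with hB
  have hS : ∀ x y, B x y = B y x := fun x y => by
    rw [hB, QuadraticMap.polarBilin_apply_apply, QuadraticMap.polarBilin_apply_apply,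
      QuadraticMap.polar_comm]
  have hR : B.IsRefl := isRefl_of_symm hS
  have hBself : ∀ x, B x x = 2 * Q x := fun x => by
    rw [hB, QuadraticMap.polarBilin_apply_apply, QuadraticMap.polar_self]
    simp
  -- `W` is orthogonal to `u` and `v`
  have hkey : ∀ w ∈ W, QuadraticMap.polar (⇑Q) u w = 0 ∧ QuadraticMap.polar (⇑Q) v w = 0 := by
    intro w hw
    have h1 : (Cfsg.reflectionMatrix (⇑Q) u * Cfsg.reflectionMatrix (⇑Q) v) *ᵥ w ∈ W := by
      apply hW
      exact ⟨w, hw, by rw [Matrix.toLin'_apply]⟩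
    rw [refl_refl_mulVec Q u v hu hv huv w] at h1
    have h2' : QuadraticMap.polar (⇑Q) v w • v + QuadraticMap.polar (⇑Q) u w • u ∈ W := by
      have := W.sub_mem hw h1
      have e : w - (w - QuadraticMap.polar (⇑Q) v w • v - QuadraticMap.polar (⇑Q) u w • u) =
          QuadraticMap.polar (⇑Q) v w • v + QuadraticMap.polar (⇑Q) u w • u := by abel
      rwa [e] at this
    have h3 := hWQ _ h2'
    rw [Q_comb Q u v hu hv huv] at h3
    set a := QuadraticMap.polar (⇑Q) u w with ha
    set b := QuadraticMap.polar (⇑Q) v w with hb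
    have hb0 : b = 0 := by
      by_contra hb0
      apply hm1
      refine ⟨a / b, ?_⟩
      field_simp
      linear_combination -h3
    rw [hb0] at h3
    have ha0 : a = 0 := by
      have : a ^ 2 = 0 := by linear_combination h3
      exact pow_eq_zero_iff (two_ne_zero) |>.mp this
    exact ⟨ha0, hb0⟩
  -- the orthogonal complement of `u`, then of `v`
  have hnu : NonDeg B (Submodule.span F {u}) :=
    nonDeg_span_singleton B u (by rw [hBself, hu, mul_one]; exact h2)
  have hnv : NonDeg B (Submodule.span F {v}) :=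
    nonDeg_span_singleton B v (by rw [hBself, hv, mul_one]; exact h2)
  have hu0 : u ≠ 0 := by
    rintro rfl
    rw [map_zero] at hu
    exact zero_ne_one hu
  have hv0 : v ≠ 0 := by
    rintro rfl
    rw [map_zero] at hv
    exact zero_ne_one hv
  obtain ⟨-, -, hP1, hd1⟩ := Cfsg.Agent.Lib.Helper98.Os.compl_props hR (Submodule.span F {u}) ⊤ hnu
    le_top hV
  have hvP1 : Submodule.span F {v} ≤ LinearMap.BilinForm.orthogonal B (Submodule.span F {u}) ⊓ ⊤ := by
    rw [Submodule.span_singleton_le_iff_mem]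
    refine Submodule.mem_inf.mpr ⟨?_, Submodule.mem_top⟩
    rw [LinearMap.BilinForm.mem_orthogonal_iff]
    intro n hn
    obtain ⟨a, rfl⟩ := Submodule.mem_span_singleton.mp hn
    show B (a • u) v = 0
    rw [map_smul, LinearMap.smul_apply, hB, QuadraticMap.polarBilin_apply_apply, huv, smul_zero]
  obtain ⟨-, -, hP2, hd2⟩ := Cfsg.Agent.Lib.Helper98.Os.compl_props hR (Submodule.span F {v})
    (LinearMap.BilinForm.orthogonal B (Submodule.span F {u}) ⊓ ⊤) hnv hvP1 hP1
  have hWP2 : W ≤ LinearMap.BilinForm.orthogonal B (Submodule.span F {v}) ⊓ (LinearMap.BilinForm.orthogonal B (Submodule.span F {u}) ⊓ ⊤) := by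
    intro w hw
    obtain ⟨h1, h2'⟩ := hkey w hw
    refine Submodule.mem_inf.mpr ⟨?_, Submodule.mem_inf.mpr ⟨?_, Submodule.mem_top⟩⟩
    · rw [LinearMap.BilinForm.mem_orthogonal_iff]
      intro n hn
      obtain ⟨a, rfl⟩ := Submodule.mem_span_singleton.mp hn
      show B (a • v) w = 0
      rw [map_smul, LinearMap.smul_apply, hB, QuadraticMap.polarBilin_apply_apply, h2', smul_zero]
    · rw [LinearMap.BilinForm.mem_orthogonal_iff]
      intro n hn
      obtain ⟨a, rfl⟩ := Submodule.mem_span_singleton.mp hn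
      show B (a • u) w = 0
      rw [map_smul, LinearMap.smul_apply, hB, QuadraticMap.polarBilin_apply_apply, h1, smul_zero]
  have hWW : Ort B W W := by
    intro a ha b hb
    rw [hB, QuadraticMap.polarBilin_apply_apply]
    unfold QuadraticMap.polar
    rw [hWQ _ (W.add_mem ha hb), hWQ a ha, hWQ b hb]
    ring
  have h5 := two_mul_finrank_le_refl hR hV _ W hP2 hWP2 hWW
  rw [finrank_span_singleton hu0] at hd1
  rw [finrank_span_singleton hv0] at hd2
  have h6 : finrank F (⊤ : Submodule F (ι → F)) = Fintype.card ι := by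
    rw [finrank_top, Module.finrank_pi]
  omega

end abstract

section concrete

variable {F : Type*} [Field F]

theorem nonDeg_top_QOdd' (d : ℕ) (h2 : (2 : F) ≠ 0) :
    NonDeg (QuadraticMap.polarBilin (QOdd d F))
      (⊤ : Submodule F (Unit ⊕ (Fin d ⊕ Fin d) → F)) := by
  have hN : (QuadraticMap.polarBilin (QOdd d F)).Nondegenerate := by
    apply qfOfPolar_nondegenerate
    rw [det_odd_gram]
    exact mul_ne_zero (mul_ne_zero h2 one_ne_zero) (pow_ne_zero _ (neg_ne_zero.mpr one_ne_zero))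
  intro u _ h
  exact hN.1 u (fun w => h w Submodule.mem_top)

theorem exists_bad_involution [Fintype F] (hq3 : Fintype.card F % 4 = 3) (d : ℕ) (hd : 1 ≤ d) :
    ∃ x : Matrix.GeneralLinearGroup (Unit ⊕ (Fin d ⊕ Fin d)) F,
      x ∈ Cfsg.Geo.omegaGL (Cfsg.quadFormOdd d F) ∧ orderOf x = 2 ∧
      ∀ W : Submodule F (Unit ⊕ (Fin d ⊕ Fin d) → F), finrank F W = d →
        (∀ w ∈ W, Cfsg.quadFormOdd d F w = 0) →
        ¬ W.map (Matrix.toLin' (x : Matrix (Unit ⊕ (Fin d ⊕ Fin d)) (Unit ⊕ (Fin d ⊕ Fin d)) F)) ≤ W := by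
  classical
  have hoddq : Odd (Fintype.card F) := by
    rw [Nat.odd_iff]; omega
  have h2 : (2 : F) ≠ 0 := two_ne_zero_of_odd_card rfl hoddq
  have hm1 : ¬ IsSquare (-1 : F) := by
    rw [FiniteField.isSquare_neg_one_iff]
    exact fun h => h hq3
  set Q := QOdd d F with hQ
  have hQc : (⇑Q : (Unit ⊕ (Fin d ⊕ Fin d) → F) → F) = Cfsg.quadFormOdd d F := rfl
  set i0 : Fin d := ⟨0, hd⟩ with hi0
  set u : Unit ⊕ (Fin d ⊕ Fin d) → F := Pi.single (Sum.inl ()) 1 with hu
  set v : Unit ⊕ (Fin d ⊕ Fin d) → F :=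
    Pi.single (Sum.inr (Sum.inl i0)) 1 + Pi.single (Sum.inr (Sum.inr i0)) 1 with hv
  have hQu : Q u = 1 := by
    show Cfsg.quadFormOdd d F u = 1
    simp [Cfsg.quadFormOdd, hu]
  have hQv : Q v = 1 := by
    show Cfsg.quadFormOdd d F v = 1
    simp [Cfsg.quadFormOdd, hv, Pi.single_apply, Finset.sum_ite_eq']
  have hQuv : Q (u + v) = 2 := by
    show Cfsg.quadFormOdd d F (u + v) = 2
    simp [Cfsg.quadFormOdd, hu, hv, Pi.single_apply, Finset.sum_ite_eq']
    norm_num
  have huv : QuadraticMap.polar (⇑Q) u v = 0 := by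
    unfold QuadraticMap.polar
    rw [hQuv, hQu, hQv]
    norm_num
  have hu1 : Q u ≠ 0 := by rw [hQu]; exact one_ne_zero
  have hv1 : Q v ≠ 0 := by rw [hQv]; exact one_ne_zero
  set g : ↥(Cfsg.isometryGroup F (⇑Q)) := reflO Q u * reflO Q v with hg
  have hgO : g ∈ commutator ↥(Cfsg.isometryGroup F (⇑Q)) :=
    reflO_mul_mem_commutator h2 Q u v hu1 hv1 (by rw [hQu, hQv, mul_one]; exact ⟨1, by ring⟩)
  have hgval : ((g : GL (Unit ⊕ (Fin d ⊕ Fin d)) F) : Matrix _ _ F) =
      Cfsg.reflectionMatrix (⇑Q) u * Cfsg.reflectionMatrix (⇑Q) v := by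
    rw [hg, Subgroup.coe_mul, Units.val_mul, reflO_val Q u hu1, reflO_val Q v hv1]
  have hgv : ∀ w, ((g : GL (Unit ⊕ (Fin d ⊕ Fin d)) F) : Matrix _ _ F) *ᵥ w =
      w - QuadraticMap.polar (⇑Q) v w • v - QuadraticMap.polar (⇑Q) u w • u := by
    intro w
    rw [hgval]
    exact refl_refl_mulVec Q u v hQu hQv huv w
  have hpuu : QuadraticMap.polar (⇑Q) u u = 2 := by
    rw [QuadraticMap.polar_self, hQu]; simp
  have hpvv : QuadraticMap.polar (⇑Q) v v = 2 := by
    rw [QuadraticMap.polar_self, hQv]; simp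
  have hpvu : QuadraticMap.polar (⇑Q) v u = 0 := by
    rw [QuadraticMap.polar_comm]; exact huv
  -- `g * g = 1`
  have hgg : ((g : GL (Unit ⊕ (Fin d ⊕ Fin d)) F) * (g : GL (Unit ⊕ (Fin d ⊕ Fin d)) F)) = 1 := by
    apply Units.ext
    rw [Units.val_mul, Units.val_one]
    apply Matrix.toLin'.injective
    apply LinearMap.ext
    intro w
    rw [Matrix.toLin'_apply, ← Matrix.mulVec_mulVec, hgv, hgv, Matrix.toLin'_one, LinearMap.id_apply]
    simp only [QuadraticMap.polar_sub_right, QuadraticMap.polar_smul_right, hpuu, hpvv, huv, hpvu,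
      smul_eq_mul, mul_zero, sub_zero]
    module
  have hg1 : (g : GL (Unit ⊕ (Fin d ⊕ Fin d)) F) ≠ 1 := by
    intro h
    have h3 := hgv u
    rw [h, Units.val_one, Matrix.one_mulVec, hpuu, hpvu, zero_smul, sub_zero] at h3
    have h4 := congrFun h3 (Sum.inl ())
    simp only [hu, Pi.sub_apply, Pi.smul_apply, Pi.single_eq_same, smul_eq_mul, mul_one] at h4
    apply h2
    linear_combination h4
  refine ⟨(g : GL (Unit ⊕ (Fin d ⊕ Fin d)) F), ?_, ?_, ?_⟩
  · exact coe_mem_omegaGL (Cfsg.quadFormOdd d F) g hgO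
  · apply orderOf_eq_prime
    · rw [pow_two]; exact hgg
    · exact hg1
  · intro W hWd hWQ hWinv
    rw [hgval] at hWinv
    have := two_mul_finrank_add_two_le h2 hm1 Q (nonDeg_top_QOdd' d h2) u v hQu hQv huv W hWQ hWinv
    rw [hWd] at this
    simp only [Fintype.card_sum, Fintype.card_unit, Fintype.card_fin] at this
    omega

end concrete

end Cfsg.Agent.Lib.Helper23.OsEl
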