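import Mathlib

set_option autoImplicit false
set_option linter.unusedSectionVars false
set_option linter.unusedVariables false

namespace Cfsg.Agent.Lib.Helper23.PG2

open Matrix Polynomial

/-- A binary form `X² + a y²` with `a ≠ 0`... in fact any `a`, shifted by a constant, has a zero over `ZMod p`, `p` odd. -/
theorem tan_exists_sq_add (p : ℕ) [Fact p.Prime] (hp : p ≠ 2) (a c' : ZMod p) (ha : a ≠ 0) :
    ∃ X y : ZMod p, X ^ 2 - c' + a * y ^ 2 = 0 := by
  have hodd : Fintype.card (ZMod p) % 2 = 1 := by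
    rw [ZMod.card]
    rcases Nat.Prime.eq_two_or_odd (Fact.out : p.Prime) with h | h
    · exact absurd h hp
    · exact h
  have hf2 : (X ^ 2 - C c' : (ZMod p)[X]).degree = 2 := by
    rw [degree_X_pow_sub_C (by norm_num)]
    rfl
  have hg2 : (C a * X ^ 2 : (ZMod p)[X]).degree = 2 := by
    rw [degree_C_mul_X_pow 2 ha]
    rfl
  obtain ⟨x, y, h⟩ := FiniteField.exists_root_sum_quadratic hf2 hg2 hodd
  refine ⟨x, y, ?_⟩
  simpa using h

theorem tan_core (p : ℕ) [Fact p.Prime] (hp : p ≠ 2) (e b c c' : ZMod p) (hb : b ≠ 0)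
    (hD : e ^ 2 + 4 * b * c ≠ 0) :
    ∃ x y z : ZMod p, e * x + b * z + c * y = 0 ∧ x ^ 2 + y * z = c' := by
  have h2 : (2 : ZMod p) ≠ 0 := by
    intro h
    have h' : ((2 : ℕ) : ZMod p) = 0 := by exact_mod_cast h
    rw [ZMod.natCast_eq_zero_iff] at h'
    have := (Nat.prime_dvd_prime_iff_eq (Fact.out : p.Prime) Nat.prime_two).mp h'
    exact hp this
  have h4 : (4 : ZMod p) ≠ 0 := by
    have : (4 : ZMod p) = 2 * 2 := by norm_num
    rw [this]; exact mul_ne_zero h2 h2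
  set a : ZMod p := -(e ^ 2 + 4 * b * c) / (4 * b ^ 2) with ha
  have ha0 : a ≠ 0 := by
    rw [ha]
    exact div_ne_zero (neg_ne_zero.mpr hD) (mul_ne_zero h4 (pow_ne_zero 2 hb))
  obtain ⟨X, y, hXy⟩ := tan_exists_sq_add p hp a c' ha0
  refine ⟨X + e / (2 * b) * y, y, -(e * (X + e / (2 * b) * y) + c * y) / b, ?_, ?_⟩
  · field_simp
    ring
  · have : X ^ 2 + a * y ^ 2 = c' := by linear_combination hXy
    rw [← this, ha]
    field_simp
    ring

theorem exists_tangent (p : ℕ) [Fact p.Prime] (hp : p ≠ 2)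
    (K : Matrix.SpecialLinearGroup (Fin 2) (ZMod p)) (hK : K.1.trace ^ 2 ≠ 4) (t0 : ZMod p) :
    ∃ g : Matrix.SpecialLinearGroup (Fin 2) (ZMod p),
      g.1.trace = t0 ∧ 2 * (K.1 * g.1).trace = K.1.trace * t0 := by
  have h2 : (2 : ZMod p) ≠ 0 := by
    intro h
    have h' : ((2 : ℕ) : ZMod p) = 0 := by exact_mod_cast h
    rw [ZMod.natCast_eq_zero_iff] at h'
    have := (Nat.prime_dvd_prime_iff_eq (Fact.out : p.Prime) Nat.prime_two).mp h'
    exact hp this
  have hdet : K.1 0 0 * K.1 1 1 - K.1 0 1 * K.1 1 0 = 1 := by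
    have := K.2
    rwa [Matrix.det_fin_two] at this
  have htr : K.1.trace = K.1 0 0 + K.1 1 1 := Matrix.trace_fin_two _
  -- the key existence of x y z
  have key : ∃ x y z : ZMod p,
      (K.1 0 0 - K.1 1 1) * x + K.1 0 1 * z + K.1 1 0 * y = 0 ∧ x ^ 2 + y * z = t0 ^ 2 / 4 - 1 := by
    have hD : (K.1 0 0 - K.1 1 1) ^ 2 + 4 * K.1 0 1 * K.1 1 0 ≠ 0 := by
      intro h
      apply hK
      rw [htr]
      linear_combination h + 4 * hdet
    by_cases hβ : K.1 0 1 = 0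
    · by_cases hγ : K.1 1 0 = 0
      · -- diagonal
        have hne : K.1 0 0 - K.1 1 1 ≠ 0 := by
          intro h
          apply hD
          rw [h, hβ]; ring
        refine ⟨0, 1, t0 ^ 2 / 4 - 1, ?_, ?_⟩
        · rw [hβ, hγ]; ring
        · ring
      · have hD' : (K.1 0 0 - K.1 1 1) ^ 2 + 4 * K.1 1 0 * K.1 0 1 ≠ 0 := by
          intro h; apply hD; linear_combination h
        obtain ⟨x, y, z, h1, h2'⟩ := tan_core p hp (K.1 0 0 - K.1 1 1) (K.1 1 0) (K.1 0 1)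
          (t0 ^ 2 / 4 - 1) hγ hD'
        refine ⟨x, z, y, ?_, ?_⟩
        · linear_combination h1
        · linear_combination h2'
    · exact tan_core p hp (K.1 0 0 - K.1 1 1) (K.1 0 1) (K.1 1 0) (t0 ^ 2 / 4 - 1) hβ hD
  obtain ⟨x, y, z, h1, h2'⟩ := key
  have h4 : (4 : ZMod p) ≠ 0 := by
    have : (4 : ZMod p) = 2 * 2 := by norm_num
    rw [this]; exact mul_ne_zero h2 h2
  have hdetg : (!![t0 / 2 + x, y; z, t0 / 2 - x] : Matrix (Fin 2) (Fin 2) (ZMod p)).det = 1 := by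
    rw [Matrix.det_fin_two_of]
    have : (t0 / 2 + x) * (t0 / 2 - x) - y * z = t0 ^ 2 / 4 - (x ^ 2 + y * z) := by
      field_simp; ring
    rw [this, h2']; ring
  refine ⟨⟨!![t0 / 2 + x, y; z, t0 / 2 - x], hdetg⟩, ?_, ?_⟩
  · show (!![t0 / 2 + x, y; z, t0 / 2 - x] : Matrix (Fin 2) (Fin 2) (ZMod p)).trace = t0
    rw [Matrix.trace_fin_two_of]
    field_simp; ring
  · show 2 * (K.1 * (!![t0 / 2 + x, y; z, t0 / 2 - x] : Matrix (Fin 2) (Fin 2) (ZMod p))).trace
      = K.1.trace * t0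
    rw [htr, Matrix.trace_fin_two, Matrix.mul_apply, Matrix.mul_apply]
    simp only [Fin.sum_univ_two, Matrix.of_apply, Matrix.cons_val', Matrix.cons_val_zero,
      Matrix.cons_val_one, Matrix.cons_val_fin_one]
    field_simp
    linear_combination 2 * h1

end Cfsg.Agent.Lib.Helper23.PG2
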