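import Mathlib
import Cfsg.Agent.Lib.Helper23.Exceptional
import Cfsg.Agent.Lib.Helper23.ExceptionalMain
import Cfsg.Agent.Lib.Helper05.CharDecomp
import Cfsg.Agent.Lib.Helper04.CoprimeDegree

/-!
# Irreducible characters of degree `p - 1` for a self-centralizing subgroup of prime order

Let `P` be a subgroup of prime order `p` of `G` with `C_G(P) = P`, `N = N_G(P)`, `e = [N : P] > 1`.
An irreducible character of `G` of degree `p - 1` vanishes on `N ∖ P`.
-/

set_option autoImplicit false
set_option linter.unusedSectionVars false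
set_option linter.style.haveILetI false

namespace Cfsg.Agent.Lib.Helper23.Exceptional

open Cfsg Cfsg.Agent.Lib.Helper34
open scoped ComplexConjugate

section Core

variable {G : Type*} [Group G] [Fintype G] (N : Subgroup G) [Fintype N] (KN : Subgroup N)
  [hKN : KN.Normal]
  (hC : ∀ k ∈ KN, k ≠ 1 → Subgroup.centralizer ({k} : Set N) ≤ KN)
  (hab : ∀ a ∈ KN, ∀ b ∈ KN, a * b = b * a)
  (hiso : ∀ α β : N → ℂ, IsClassFunction N α → IsClassFunction N β →
    (∀ x : N, x ∉ KN → α x = 0) → (∀ x : N, x ∉ KN → β x = 0) → α 1 = 0 →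
    classInner (indFun N α) (indFun N β) = classInner α β)

include hC hab hiso in
/-- an irreducible character of degree `e * |Rel|` (that is `|K| - 1`) vanishes on `N ∖ K` -/
theorem vanish_off_of_degree [Fintype (IrrCharacter G)] (χ : IrrCharacter G)
    (hχ1 : χ ≠ Cfsg.Agent.Lib.Helper83.trivChar G) (he1 : 1 < KN.index)
    (hdeg : (χ : G → ℂ) 1 = (KN.index : ℂ) * (Nat.card (Rel N KN) : ℂ)) :
    ∀ x : N, x ∉ KN → (χ : G → ℂ) x = 0 := by
  classical
  haveI : Finite (IrrCharacter N) := Cfsg.Agent.Lib.Helper05.finite_irrCharacter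
  letI : Fintype (IrrCharacter N) := Fintype.ofFinite _
  letI : Fintype (Rel N KN) := Fintype.ofFinite _
  set χN : N → ℂ := fun x => (χ : G → ℂ) x with hχN
  have hχc : IsCharacter G (χ : G → ℂ) := Cfsg.Agent.Lib.Helper83.IrrCharacter_isCharacter χ
  have hχcf : IsClassFunction G (χ : G → ℂ) := Cfsg.Agent.Lib.Helper83.char_isClassFunction hχc
  have hχNc : IsCharacter N χN := Cfsg.Agent.Lib.Helper83.isCharacter_restrict N hχc
  have hχNcf : IsClassFunction N χN := Cfsg.Agent.Lib.Helper83.char_isClassFunction hχNc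
  have hnat : ∀ ψ : IrrCharacter N, ∃ n : ℕ, classInner χN (ψ : N → ℂ) = n :=
    fun ψ => Cfsg.Agent.Lib.Helper05.exists_nat_classInner hχNc ψ.2
  choose cN hcN using hnat
  have hdegN : ∀ ψ : IrrCharacter N, ∃ d : ℕ, 0 < d ∧ (ψ : N → ℂ) 1 = d := fun ψ => by
    obtain ⟨d, hd, hd1, -, -⟩ := Cfsg.Agent.Lib.Helper04.exists_nat_degree ψ
    exact ⟨d, hd, hd1⟩
  choose dN hdNpos hdN using hdegN
  set R : IrrCharacter N → Prop := fun ψ => ∃ k ∈ KN, (ψ : N → ℂ) k ≠ (ψ : N → ℂ) 1 with hR
  have hdec := Cfsg.Agent.Lib.Helper83.classFunction_eq_sum_irr hχNcf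
  have hval : ∀ x : N, χN x = ∑ ψ : IrrCharacter N, (cN ψ : ℂ) * (ψ : N → ℂ) x := by
    intro x
    have h := congrFun hdec x
    rw [Finset.sum_apply] at h
    refine h.trans ?_
    apply Finset.sum_congr rfl
    intro ψ _
    rw [Pi.smul_apply, smul_eq_mul, hcN]
  have hrelψ : ∀ ψ : IrrCharacter N, R ψ → FrobRel KN (ψ : N → ℂ) := fun ψ h => ⟨ψ.2, h⟩
  -- the multiplicity of the trivial character of `K`
  have hB : classInner χN (rho N KN)
      = ∑ ψ : IrrCharacter N, if R ψ then 0 else (cN ψ : ℂ) * (dN ψ : ℂ) := by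
    have h1 : classInner χN (rho N KN) = ∑ ψ : IrrCharacter N,
        classInner χN (ψ : N → ℂ) * classInner (ψ : N → ℂ) (rho N KN) := by
      have h : classInner χN (rho N KN) = classInner (∑ χ' : IrrCharacter N,
          classInner χN (χ' : N → ℂ) • (χ' : N → ℂ)) (rho N KN) :=
        congrArg (fun f => classInner f (rho N KN)) hdec
      rw [h, classInner_sum_left]
      apply Finset.sum_congr rfl
      intro ψ _
      rw [classInner_smul_left]
    rw [h1]
    apply Finset.sum_congr rfl
    intro ψ _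
    by_cases h : R ψ
    · rw [if_pos h, inner_rel_rho N KN hC (hrelψ ψ h), mul_zero]
    · rw [if_neg h, hcN]
      have hp : ∀ k ∈ KN, (ψ : N → ℂ) k = (ψ : N → ℂ) 1 := by
        intro k hk
        by_contra hne
        exact h ⟨k, hk, hne⟩
      have h2 : classInner (ψ : N → ℂ) (rho N KN) = (ψ : N → ℂ) 1 :=
        inner_indFun_one_of_ker KN hp (Cfsg.Agent.Lib.Helper83.char_isClassFunction
          (Cfsg.Agent.Lib.Helper83.IrrCharacter_isCharacter ψ))
      rw [h2, hdN]
  have hdeg1 : χN 1 = ∑ ψ : IrrCharacter N, (cN ψ : ℂ) * (dN ψ : ℂ) := by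
    rw [hval 1]
    apply Finset.sum_congr rfl
    intro ψ _
    rw [hdN]
  set Bn : ℕ := ∑ ψ : IrrCharacter N, if R ψ then 0 else cN ψ * dN ψ with hBn
  set Sn : ℕ := ∑ ψ : IrrCharacter N, if R ψ then cN ψ else 0 with hSn
  have hBc : classInner χN (rho N KN) = (Bn : ℂ) := by
    rw [hB, hBn]
    push_cast
    apply Finset.sum_congr rfl
    intro ψ _
    split_ifs <;> simp
  have hdiff : χN 1 = (Bn : ℂ) + (KN.index : ℂ) * (Sn : ℂ) := by
    rw [hdeg1, hBn, hSn]
    push_cast
    rw [Finset.mul_sum, ← Finset.sum_add_distrib]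
    apply Finset.sum_congr rfl
    intro ψ _
    by_cases h : R ψ
    · rw [if_pos h, if_pos h, zero_add]
      have := rel_degree N KN hC hab (hrelψ ψ h)
      rw [← hdN ψ, this]
      ring
    · rw [if_neg h, if_neg h]
      simp
  have hnat1 : KN.index * Nat.card (Rel N KN) = Bn + KN.index * Sn := by
    have h : ((KN.index * Nat.card (Rel N KN) : ℕ) : ℂ) = ((Bn + KN.index * Sn : ℕ) : ℂ) := by
      push_cast
      rw [← hdiff, ← hdeg]
      rfl
    exact_mod_cast h
  -- the coefficient of `χ` in `α_a`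
  have hcoef : ∀ a : Rel N KN, ((Bn : ℤ) - (cN a.1 : ℤ)) * ((Bn : ℤ) - (cN a.1 : ℤ))
      ≤ (KN.index : ℤ) := by
    intro a
    obtain ⟨z, hz⟩ := exists_int_coeff (alph_isGeneralizedCharacter N KN a)
    have hzχ : (z χ : ℂ) = (Bn : ℂ) - (cN a.1 : ℂ) := by
      rw [← inner_alph_irr N KN a z hz χ]
      unfold alph
      rw [classInner_indFun_left N _ _ hχcf]
      unfold gam
      rw [classInner_sub_left]
      have h1 : classInner (rho N KN) (fun h : N => (χ : G → ℂ) h) = (Bn : ℂ) := by
        rw [← Cfsg.Agent.Lib.Helper83.classInner_conj_symm]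
        show conj (classInner χN (rho N KN)) = _
        rw [hBc]
        simp
      have h2 : classInner (a.1 : N → ℂ) (fun h : N => (χ : G → ℂ) h) = (cN a.1 : ℂ) := by
        rw [← Cfsg.Agent.Lib.Helper83.classInner_conj_symm]
        show conj (classInner χN (a.1 : N → ℂ)) = _
        rw [hcN]
        simp
      rw [h1, h2]
    have hzχ' : z χ = (Bn : ℤ) - (cN a.1 : ℤ) := by
      have : ((z χ : ℤ) : ℂ) = (((Bn : ℤ) - (cN a.1 : ℤ) : ℤ) : ℂ) := by
        rw [hzχ]
        push_cast
        ring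
      exact_mod_cast this
    have hsq := sum_sq_coeff N KN hC hab hiso a z hz
    have htriv := coeff_triv N KN hC a z hz
    have hle : z (Cfsg.Agent.Lib.Helper83.trivChar G) * z (Cfsg.Agent.Lib.Helper83.trivChar G)
        + z χ * z χ ≤ ∑ ψ : IrrCharacter G, z ψ * z ψ := by
      rw [← Finset.add_sum_erase _ _ (Finset.mem_univ (Cfsg.Agent.Lib.Helper83.trivChar G))]
      have : z χ * z χ ≤ ∑ ψ ∈ Finset.univ.erase (Cfsg.Agent.Lib.Helper83.trivChar G),
          z ψ * z ψ :=
        Finset.single_le_sum (f := fun ψ => z ψ * z ψ) (fun ψ _ => mul_self_nonneg _)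
          (Finset.mem_erase.mpr ⟨hχ1, Finset.mem_univ _⟩)
      linarith
    rw [hsq, htriv, hzχ'] at hle
    linarith
  -- the number of relevant characters as a sum
  have hcardR : Nat.card (Rel N KN) = ∑ ψ : IrrCharacter N, if R ψ then 1 else 0 := by
    rw [Nat.card_eq_fintype_card, Fintype.card_subtype, Finset.card_filter]
  -- `B = 0`
  have hB0 : Bn = 0 := by
    by_cases hex : ∃ a : Rel N KN, cN a.1 = 0
    · obtain ⟨a, ha⟩ := hex
      have h1 := hcoef a
      rw [ha] at h1
      simp only [Nat.cast_zero, sub_zero] at h1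
      have h2 : Bn * Bn ≤ KN.index := by exact_mod_cast h1
      have hdvd : KN.index ∣ Bn := by
        have : KN.index ∣ Bn + KN.index * Sn := ⟨_, hnat1.symm⟩
        exact (Nat.dvd_add_left (Dvd.intro _ rfl)).mp this
      obtain ⟨k, hk⟩ := hdvd
      rcases Nat.eq_zero_or_pos k with h0 | hpos
      · rw [hk, h0, mul_zero]
      · exfalso
        have h3 : KN.index * KN.index ≤ Bn * Bn := by
          rw [hk]
          calc KN.index * KN.index = (KN.index * 1) * (KN.index * 1) := by ring
            _ ≤ (KN.index * k) * (KN.index * k) :=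
              Nat.mul_le_mul (Nat.mul_le_mul_left _ hpos) (Nat.mul_le_mul_left _ hpos)
        have h4 : KN.index * KN.index ≤ KN.index := h3.trans h2
        have h5 : KN.index * 2 ≤ KN.index * KN.index := Nat.mul_le_mul_left _ he1
        omega
    · push Not at hex
      have h1 : Nat.card (Rel N KN) ≤ Sn := by
        rw [hcardR, hSn]
        apply Finset.sum_le_sum
        intro ψ _
        by_cases h : R ψ
        · rw [if_pos h, if_pos h]
          have := hex ⟨ψ, h⟩
          exact Nat.one_le_iff_ne_zero.mpr this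
        · rw [if_neg h, if_neg h]
      have h2 : KN.index * Nat.card (Rel N KN) ≤ KN.index * Sn := Nat.mul_le_mul_left _ h1
      omega
  -- constituents outside `Rel` do not occur
  have hc0 : ∀ ψ : IrrCharacter N, ¬ R ψ → cN ψ = 0 := by
    intro ψ h
    have h1 : ∀ ψ' ∈ (Finset.univ : Finset (IrrCharacter N)),
        (if R ψ' then 0 else cN ψ' * dN ψ') = 0 :=
      (Finset.sum_eq_zero_iff).mp (hBn ▸ hB0)
    have h2 := h1 ψ (Finset.mem_univ ψ)
    rw [if_neg h] at h2
    rcases Nat.mul_eq_zero.mp h2 with h3 | h3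
    · exact h3
    · exact absurd h3 (hdNpos ψ).ne'
  intro x hx
  show χN x = 0
  rw [hval x]
  apply Finset.sum_eq_zero
  intro ψ _
  by_cases h : R ψ
  · rw [(hrelψ ψ h).vanish KN hC hx, mul_zero]
  · rw [hc0 ψ h, Nat.cast_zero, zero_mul]

end Core

/-- `P` of prime order `p`, `C_G(P) = P`, `[N_G(P) : P] = e > 1`: an irreducible character of degree
`p - 1` vanishes on `N_G(P) ∖ P`. -/
theorem restrict_vanish {G : Type*} [Group G] [Fintype G] [Fintype (IrrCharacter G)]
    (P : Subgroup G) (p : ℕ) (hp : p.Prime) (hP : Nat.card P = p)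
    (hCP : Subgroup.centralizer (P : Set G) = P) (e : ℕ)
    (he : (P.subgroupOf (Subgroup.normalizer (P : Set G))).index = e) (he1 : 1 < e)
    (χ : IrrCharacter G) (hχ : (χ : G → ℂ) 1 + 1 = (p : ℂ)) :
    ∀ s ∈ Subgroup.normalizer (P : Set G), s ∉ P → (χ : G → ℂ) s = 0 := by
  classical
  have hPfin : Finite P := inferInstance
  have hgen : ∀ k ∈ P, k ≠ 1 → Subgroup.zpowers k = P := by
    intro k hk hk1
    apply Subgroup.eq_of_le_of_card_ge (Subgroup.zpowers_le.mpr hk)
    rw [hP, Nat.card_zpowers]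
    have h1 : orderOf k ∣ p := by
      rw [← hP]
      have := orderOf_dvd_natCard (⟨k, hk⟩ : P)
      rwa [Subgroup.orderOf_mk] at this
    rcases (Nat.dvd_prime hp).mp h1 with h | h
    · exact absurd (orderOf_eq_one_iff.mp h) hk1
    · exact h.ge
  have hab : ∀ a ∈ P, ∀ b ∈ P, a * b = b * a := by
    intro a ha b hb
    have : a ∈ Subgroup.centralizer (P : Set G) := by rw [hCP]; exact ha
    exact (Subgroup.mem_centralizer_iff.mp this b hb).symm
  have hC : ∀ k ∈ P, k ≠ 1 → Subgroup.centralizer ({k} : Set G) ≤ P := by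
    intro k hk hk1 x hx
    rw [← hCP, Subgroup.mem_centralizer_iff]
    intro y hy
    have hy' : y ∈ Subgroup.zpowers k := by rw [hgen k hk hk1]; exact hy
    obtain ⟨m, rfl⟩ := Subgroup.mem_zpowers_iff.mp hy'
    have hkx : k * x = x * k := Subgroup.mem_centralizer_iff.mp hx k (Set.mem_singleton k)
    have : Commute x k := hkx.symm
    exact (this.zpow_right m).eq.symm
  have hTI : ∀ g : G, g ∉ Subgroup.normalizer (P : Set G) → ∀ k ∈ P, g * k * g⁻¹ ∈ P → k = 1 := by
    intro g hg k hk hgk
    by_contra hk1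
    apply hg
    apply mem_normalizer_of_conj_mem P g
    intro x hx
    have hx' : x ∈ Subgroup.zpowers k := by rw [hgen k hk hk1]; exact hx
    obtain ⟨m, rfl⟩ := Subgroup.mem_zpowers_iff.mp hx'
    have : g * k ^ m * g⁻¹ = (g * k * g⁻¹) ^ m := (conj_zpow (a := g) (b := k) (i := m)).symm
    rw [this]
    exact Subgroup.zpow_mem _ hgk m
  letI : Fintype ↥(Subgroup.normalizer (P : Set G)) := Fintype.ofFinite _
  haveI : (P.subgroupOf (Subgroup.normalizer (P : Set G))).Normal := Subgroup.normal_in_normalizer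
  have hcardK : Nat.card (P.subgroupOf (Subgroup.normalizer (P : Set G))) = p := by
    rw [Nat.card_congr (Subgroup.subgroupOfEquivOfLe Subgroup.le_normalizer).toEquiv, hP]
  have hC' := frobTI_hC P hC
  have hab' : ∀ a ∈ P.subgroupOf (Subgroup.normalizer (P : Set G)),
      ∀ b ∈ P.subgroupOf (Subgroup.normalizer (P : Set G)), a * b = b * a := by
    intro a ha b hb
    exact Subtype.ext (hab (a : G) ha (b : G) hb)
  have hiso : ∀ α β : ↥(Subgroup.normalizer (P : Set G)) → ℂ,
      Cfsg.IsClassFunction ↥(Subgroup.normalizer (P : Set G)) α →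
      Cfsg.IsClassFunction ↥(Subgroup.normalizer (P : Set G)) β →
      (∀ x : ↥(Subgroup.normalizer (P : Set G)),
        x ∉ P.subgroupOf (Subgroup.normalizer (P : Set G)) → α x = 0) →
      (∀ x : ↥(Subgroup.normalizer (P : Set G)),
        x ∉ P.subgroupOf (Subgroup.normalizer (P : Set G)) → β x = 0) → α 1 = 0 →
      Cfsg.classInner (Cfsg.indFun (Subgroup.normalizer (P : Set G)) α)
        (Cfsg.indFun (Subgroup.normalizer (P : Set G)) β) = Cfsg.classInner α β := by
    intro α β hα hβ hαoff hβoff hα1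
    exact Cfsg.Agent.Lib.Helper04.indFun_isometry_on_ti (P : Set G) hTI
      (fun x hx => Subgroup.le_normalizer hx) α β hα hβ (fun x hx => hαoff x hx)
      (fun x hx => hβoff x hx) hα1
  have hcr := card_rel (Subgroup.normalizer (P : Set G))
    (P.subgroupOf (Subgroup.normalizer (P : Set G))) hC' hab'
  rw [hcardK] at hcr
  have hχ1 : χ ≠ Cfsg.Agent.Lib.Helper83.trivChar G := by
    intro h
    rw [h] at hχ
    have h1 : ((Cfsg.Agent.Lib.Helper83.trivChar G : IrrCharacter G) : G → ℂ) 1 = 1 := rfl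
    rw [h1] at hχ
    rw [he, ← hχ] at hcr
    have h2 : (Nat.card (Rel (Subgroup.normalizer (P : Set G))
        (P.subgroupOf (Subgroup.normalizer (P : Set G)))) : ℂ) * (e : ℂ) = 1 := by
      linear_combination hcr
    have h3 : Nat.card (Rel (Subgroup.normalizer (P : Set G))
        (P.subgroupOf (Subgroup.normalizer (P : Set G)))) * e = 1 := by exact_mod_cast h2
    have := Nat.eq_one_of_mul_eq_one_left h3
    omega
  have hdeg : (χ : G → ℂ) 1 = ((P.subgroupOf (Subgroup.normalizer (P : Set G))).index : ℂ)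
      * (Nat.card (Rel (Subgroup.normalizer (P : Set G))
        (P.subgroupOf (Subgroup.normalizer (P : Set G)))) : ℂ) := by
    linear_combination hχ - hcr
  have hmain := vanish_off_of_degree (Subgroup.normalizer (P : Set G))
    (P.subgroupOf (Subgroup.normalizer (P : Set G))) hC' hab' hiso χ hχ1 (by rw [he]; exact he1) hdeg
  intro s hs hsP
  exact hmain ⟨s, hs⟩ (fun h => hsP (Subgroup.mem_subgroupOf.mp h))

end Cfsg.Agent.Lib.Helper23.Exceptional
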