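import Cfsg.Agent.Lib.Helper23.R3Gen
import Cfsg.Agent.Lib.Helper24.FT_E7

/-!
# K-R3-E7 (178810, S1788, architect helper38): `E₇(F)` in characteristic two has 2-rank at least 3

Roots `125, 124, 123` (the three highest roots, heights 17, 16, 15).  Light closure: only
`Helper24.FT_E7` (the packed table) besides the F4 files of `R3F4`.
-/

set_option autoImplicit false
set_option linter.unusedSimpArgs false

namespace Cfsg.Agent.Lib.Helper23.R3

open Cfsg Cfsg.Lie Cfsg.Agent.Lib.Helper24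

deriving instance DecidableEq for Cfsg.Agent.Lib.Helper24.Mono

theorem addCheck_E7 : addOK chevE7 125 = true ∧ addOK chevE7 124 = true ∧
    addOK chevE7 123 = true := by decide +kernel

theorem commCheck_E7 :
    checkWordF chevE7 false [125, 124] [(124, Poly.x1), (125, Poly.x0)]
      [(125, Poly.x0), (124, Poly.x1)] = true ∧
    checkWordF chevE7 false [125, 123] [(123, Poly.x1), (125, Poly.x0)]
      [(125, Poly.x0), (123, Poly.x1)] = true ∧
    checkWordF chevE7 false [124, 123] [(123, Poly.x1), (124, Poly.x0)]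
      [(124, Poly.x0), (123, Poly.x1)] = true := by decide +kernel

theorem triple_E7 : Triple chevE7 125 124 123 where
  table := fun r hr => tableOK_E7_all r hr
  lt1 := by decide
  lt2 := by decide
  lt3 := by decide
  add1 := addCheck_E7.1
  add2 := addCheck_E7.2.1
  add3 := addCheck_E7.2.2
  c12 := commCheck_E7.1
  c13 := commCheck_E7.2.1
  c23 := commCheck_E7.2.2

theorem aw_E7_zero : applyWord chevE7 (wT 125 124 123) [(0, Poly.one)] =
    [(0, [(⟨0, 0, 0, 0⟩, 1)]), (132, [(⟨1, 0, 0, 0⟩, -1)]), (131, [(⟨0, 1, 0, 0⟩, 1)]),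
      (130, [])] := by
  decide +kernel

theorem aw_E7_two : applyWord chevE7 (wT 125 124 123) [(2, Poly.one)] =
    [(2, [(⟨0, 0, 0, 0⟩, 1)]), (132, []), (131, [(⟨0, 1, 0, 0⟩, -1)]),
      (130, [(⟨0, 0, 1, 0⟩, 1)])] := by
  decide +kernel

theorem inj_E7 {F : Type*} [Field F] (t1 t2 t3 : F)
    (hM : chevE7.wordMat F (denW t1 t2 t3 1 (wT 125 124 123)) = 1) :
    t1 = 0 ∧ t2 = 0 ∧ t3 = 0 := by
  have k0 := single_eq_denV_of_wordMat_eq_one chevE7 _ t1 t2 t3 hM (Sum.inl ⟨0, by decide⟩)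
  have k2 := single_eq_denV_of_wordMat_eq_one chevE7 _ t1 t2 t3 hM (Sum.inl ⟨2, by decide⟩)
  have e0 : enc chevE7 (Sum.inl ⟨0, by decide⟩) = 0 := rfl
  have e2 : enc chevE7 (Sum.inl ⟨2, by decide⟩) = 2 := rfl
  rw [e0, aw_E7_zero] at k0
  rw [e2, aw_E7_two] at k2
  have h1 := congrFun k0 (Sum.inr ⟨125, by decide⟩)
  have h2 := congrFun k2 (Sum.inr ⟨124, by decide⟩)
  have h3 := congrFun k2 (Sum.inr ⟨123, by decide⟩)
  have n1 : enc chevE7 (Sum.inr ⟨125, by decide⟩) = 132 := rfl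
  have n2 : enc chevE7 (Sum.inr ⟨124, by decide⟩) = 131 := rfl
  have n3 : enc chevE7 (Sum.inr ⟨123, by decide⟩) = 130 := rfl
  simp [denV, n1, Poly.den, Mono.den] at h1
  simp [denV, n2, Poly.den, Mono.den] at h2
  simp [denV, n3, Poly.den, Mono.den] at h3
  refine ⟨?_, ?_, ?_⟩
  · first | exact h1 | exact h1.symm
  · first | exact h2 | exact h2.symm
  · first | exact h3 | exact h3.symm

/-- LEAF 178810. -/
theorem prank_e7 (F : Type) [Field F] [Fintype F] [CharP F 2] :
    Cfsg.PRankAtLeast 2 3 (Cfsg.Lie.chevE7.group F) :=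
  prank_of_triple chevE7 125 124 123 triple_E7 F (fun t1 t2 t3 h => inj_E7 t1 t2 t3 h)

end Cfsg.Agent.Lib.Helper23.R3
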