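import Cfsg.Agent.Lib.Helper23.R3F4

/-!
# Generic form of the K-R3 Chevalley leaves (S1788): three pairwise commuting root subgroups
give 2-rank at least 3 in characteristic two.

`prank_of_triple D` needs: `TableOK D`, `addOK D r` for the three roots, the three commutation
checks, and injectivity of `(t₁,t₂,t₃) ↦ x_{r₁}(t₁) x_{r₂}(t₂) x_{r₃}(t₃)` in the matrix form
`wordMat (denW t₁ t₂ t₃ 1 w) = 1 → t = 0`.
-/

set_option autoImplicit false
set_option linter.unusedSimpArgs false

namespace Cfsg.Agent.Lib.Helper23.R3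

open Cfsg Cfsg.Lie Cfsg.Agent.Lib.Helper24

/-- the data of three pairwise commuting root subgroups of a datum -/
structure Triple (D : ChevalleyDatum) (r1 r2 r3 : ℕ) : Prop where
  table : TableOK D
  lt1 : r1 < D.nroots
  lt2 : r2 < D.nroots
  lt3 : r3 < D.nroots
  add1 : addOK D r1 = true
  add2 : addOK D r2 = true
  add3 : addOK D r3 = true
  c12 : checkWordF D false [r1, r2] [(r2, Poly.x1), (r1, Poly.x0)] [(r1, Poly.x0), (r2, Poly.x1)]
    = true
  c13 : checkWordF D false [r1, r3] [(r3, Poly.x1), (r1, Poly.x0)] [(r1, Poly.x0), (r3, Poly.x1)]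
    = true
  c23 : checkWordF D false [r2, r3] [(r3, Poly.x1), (r2, Poly.x0)] [(r2, Poly.x0), (r3, Poly.x1)]
    = true

section gen2
variable {F : Type*} [Field F] {D : ChevalleyDatum} {r1 r2 r3 : ℕ}

/-- the symbolic word of a triple -/
def wT (r1 r2 r3 : ℕ) : List (ℕ × Poly) := [(r1, Poly.x0), (r2, Poly.x1), (r3, Poly.x2)]

/-- the root element as a unit, given additivity -/
def xgD (D : ChevalleyDatum) (hT : TableOK D) (r : ℕ) (ha : addOK D r = true) (t : F) :
    GL D.Idx F :=
  ⟨D.x F r t, D.x F r (-t),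
    by rw [x_add_of_addOK D hT r ha, add_neg_cancel, x_zero_gen],
    by rw [x_add_of_addOK D hT r ha, neg_add_cancel, x_zero_gen]⟩

theorem xgD_zero (hT : TableOK D) (r : ℕ) (ha : addOK D r = true) :
    xgD D hT r ha (0 : F) = 1 := Units.ext (x_zero_gen D r)

theorem xgD_add (hT : TableOK D) (r : ℕ) (ha : addOK D r = true) (t u : F) :
    xgD D hT r ha (t + u) = xgD D hT r ha t * xgD D hT r ha u :=
  Units.ext (x_add_of_addOK D hT r ha t u).symm

theorem xgD_mem (hT : TableOK D) (r : ℕ) (ha : addOK D r = true) (hr : r < D.nroots) (t : F) :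
    xgD D hT r ha t ∈ D.group F := by
  apply Subgroup.subset_closure
  refine ⟨⟨r, hr⟩, t, ?_⟩
  simp [xgD, ChevalleyDatum.x, hr]

theorem commute_xgD (hT : TableOK D) (r s : ℕ) (har : addOK D r = true) (has : addOK D s = true)
    (h : checkWordF D false [r, s] [(s, Poly.x1), (r, Poly.x0)] [(r, Poly.x0), (s, Poly.x1)]
      = true) (t u : F) : Commute (xgD D hT r har t) (xgD D hT s has u) := by
  have h1 := wordMat_eq_of_checkWordF D t u 1 1 hT false (by simp) _ _ _ h
  have h2 : D.x F s u * D.x F r t = D.x F r t * D.x F s u := by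
    simpa [ChevalleyDatum.wordMat, denW, Poly.den_x0, Poly.den_x1] using h1
  exact Units.ext h2.symm

/-- the map `F³ → GL` of a triple -/
def psiT (h : Triple D r1 r2 r3) (v : F × F × F) : GL D.Idx F :=
  xgD D h.table r1 h.add1 v.1 * xgD D h.table r2 h.add2 v.2.1 * xgD D h.table r3 h.add3 v.2.2

theorem psiT_add (h : Triple D r1 r2 r3) (v w : F × F × F) :
    psiT h (v + w) = psiT h v * psiT h w := by
  unfold psiT
  simp only [Prod.fst_add, Prod.snd_add, xgD_add]
  have c12 := fun t u : F => commute_xgD h.table r1 r2 h.add1 h.add2 h.c12 t u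
  have c13 := fun t u : F => commute_xgD h.table r1 r3 h.add1 h.add3 h.c13 t u
  have c23 := fun t u : F => commute_xgD h.table r2 r3 h.add2 h.add3 h.c23 t u
  have e1 : xgD D h.table r1 h.add1 v.1 * xgD D h.table r1 h.add1 w.1 *
      (xgD D h.table r2 h.add2 v.2.1 * xgD D h.table r2 h.add2 w.2.1) =
      xgD D h.table r1 h.add1 v.1 * xgD D h.table r2 h.add2 v.2.1 *
        (xgD D h.table r1 h.add1 w.1 * xgD D h.table r2 h.add2 w.2.1) :=
    (c12 w.1 v.2.1).mul_mul_mul_comm _ _
  have c : Commute (xgD D h.table r1 h.add1 w.1 * xgD D h.table r2 h.add2 w.2.1)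
      (xgD D h.table r3 h.add3 v.2.2) := (c13 _ _).mul_left (c23 _ _)
  rw [e1]
  exact c.mul_mul_mul_comm _ _

theorem psiT_zero (h : Triple D r1 r2 r3) : psiT h (0 : F × F × F) = 1 := by
  unfold psiT
  simp [xgD_zero]

theorem psiT_mem (h : Triple D r1 r2 r3) (v : F × F × F) : psiT h v ∈ D.group F :=
  Subgroup.mul_mem _ (Subgroup.mul_mem _ (xgD_mem h.table r1 h.add1 h.lt1 _)
    (xgD_mem h.table r2 h.add2 h.lt2 _)) (xgD_mem h.table r3 h.add3 h.lt3 _)

theorem psiT_val (h : Triple D r1 r2 r3) (v : F × F × F) :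
    ((psiT h v : GL D.Idx F) : Matrix D.Idx D.Idx F) =
      D.wordMat F (denW v.1 v.2.1 v.2.2 1 (wT r1 r2 r3)) := by
  unfold psiT wT
  simp [xgD, ChevalleyDatum.wordMat, denW, Poly.den_x0, Poly.den_x1, Poly.den_x2, mul_assoc]

/-- columns of the word of a triple, symbolically -/
theorem single_eq_denV_of_wordMat_eq_one (D : ChevalleyDatum) (w : List (ℕ × Poly))
    (t1 t2 t3 : F) (hM : D.wordMat F (denW t1 t2 t3 1 w) = 1) (j : D.Idx) :
    (Pi.single j (1 : F) : D.Idx → F) =
      denV D t1 t2 t3 1 (applyWord D w [(enc D j, Poly.one)]) := by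
  rw [← wordMat_mulVec_denV, denV_single, hM, Matrix.one_mulVec]

end gen2

/-- GENERIC LEAF: three pairwise commuting root subgroups with the injectivity of the product map
give 2-rank at least three in characteristic two. -/
theorem prank_of_triple (D : ChevalleyDatum) (r1 r2 r3 : ℕ) (h : Triple D r1 r2 r3)
    (F : Type) [Field F] [Fintype F] [CharP F 2]
    (hinj : ∀ t1 t2 t3 : F, D.wordMat F (denW t1 t2 t3 1 (wT r1 r2 r3)) = 1 →
      t1 = 0 ∧ t2 = 0 ∧ t3 = 0) :
    Cfsg.PRankAtLeast 2 3 (D.group F) := by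
  classical
  let ψ : Multiplicative (F × F × F) →* ↥(D.group F) :=
    { toFun := fun a => ⟨psiT h (Multiplicative.toAdd a), psiT_mem h _⟩
      map_one' := by
        apply Subtype.ext
        exact psiT_zero h
      map_mul' := by
        intro a b
        apply Subtype.ext
        exact psiT_add h _ _ }
  have hinj' : Function.Injective ψ := by
    rw [injective_iff_map_eq_one]
    intro a ha
    have h1 : psiT h (Multiplicative.toAdd a) = 1 := congrArg Subtype.val ha
    have hM : D.wordMat F (denW (Multiplicative.toAdd a).1 (Multiplicative.toAdd a).2.1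
        (Multiplicative.toAdd a).2.2 1 (wT r1 r2 r3)) = 1 := by
      rw [← psiT_val h, h1]; rfl
    obtain ⟨e1, e2, e3⟩ := hinj _ _ _ hM
    apply Multiplicative.toAdd.injective
    change Multiplicative.toAdd a = 0
    ext <;> simp [e1, e2, e3]
  refine ⟨ψ.range, ⟨⟨?_⟩⟩, ?_, ?_⟩
  · rintro ⟨_, a, rfl⟩ ⟨_, b, rfl⟩
    apply Subtype.ext
    change ψ a * ψ b = ψ b * ψ a
    rw [← map_mul, ← map_mul, mul_comm]
  · rintro _ ⟨a, rfl⟩
    rw [← map_pow]
    have : a ^ 2 = 1 := by
      apply Multiplicative.toAdd.injective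
      change (2 : ℕ) • Multiplicative.toAdd a = 0
      rw [two_nsmul]
      ext <;> simp [CharTwo.add_self_eq_zero]
    rw [this, map_one]
  · rw [← Nat.card_congr (MonoidHom.ofInjective hinj').toEquiv]
    have hc : Nat.card (Multiplicative (F × F × F)) = Fintype.card F ^ 3 := by
      rw [Nat.card_eq_fintype_card, Fintype.card_multiplicative, Fintype.card_prod,
        Fintype.card_prod]
      ring
    rw [hc]
    have h2 : 2 ≤ Fintype.card F := Fintype.one_lt_card
    exact Nat.pow_le_pow_left h2 3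

end Cfsg.Agent.Lib.Helper23.R3
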