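import Mathlib
import Cfsg.Agent.Lib.Helper49.RSU3Defs

set_option autoImplicit false
set_option linter.unusedSectionVars false
set_option linter.unusedVariables false

namespace Cfsg.Agent.Lib.Helper23.RSU3

open Matrix Cfsg.Agent.Lib.Helper49.StSU Cfsg.Agent.Lib.Helper49.RSU3

variable {F : Type*} [Field F] [Fintype F] {q : ℕ}

theorem l12_identity (hq0 : q ≠ 0) (c e a b : F) :
    xM q c e * xM q a b =
      xM q 0 (a * c ^ q - a ^ q * c) * (xM q a b * xM q c e) := by
  ext i j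
  fin_cases i <;> fin_cases j <;>
    simp [xM, Matrix.mul_apply, Fin.sum_univ_three, zero_pow hq0] <;> ring

theorem comm_x (hF : Fintype.card F = q ^ 2) (x u : GJ 3 F q) (c e a b : F)
    (hx : mat x = xM q c e) (hu : mat u = xM q a b) :
    mat (x * u * x⁻¹ * u⁻¹) = xM q 0 (a * c ^ q - a ^ q * c) := by
  have hq0 : q ≠ 0 := by
    intro h
    rw [h] at hF
    have := Fintype.one_lt_card (α := F)
    rw [hF] at this
    norm_num at this
  have hW : (x * u * x⁻¹ * u⁻¹) * (u * x) = x * u := by group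
  have h1 : mat (x * u * x⁻¹ * u⁻¹) * mat (u * x) = mat x * mat u := by
    rw [← mat_mul, hW, mat_mul]
  have h2 : mat x * mat u = xM q 0 (a * c ^ q - a ^ q * c) * mat (u * x) := by
    rw [mat_mul, hx, hu]
    exact l12_identity hq0 c e a b
  calc mat (x * u * x⁻¹ * u⁻¹)
      = mat (x * u * x⁻¹ * u⁻¹) * (mat (u * x) * mat (u * x)⁻¹) := by
        rw [mat_mul_inv, Matrix.mul_one]
    _ = (mat (x * u * x⁻¹ * u⁻¹) * mat (u * x)) * mat (u * x)⁻¹ := by rw [Matrix.mul_assoc]
    _ = (xM q 0 (a * c ^ q - a ^ q * c) * mat (u * x)) * mat (u * x)⁻¹ := by rw [h1, h2]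
    _ = xM q 0 (a * c ^ q - a ^ q * c) := by
        rw [Matrix.mul_assoc, mat_mul_inv, Matrix.mul_one]

end Cfsg.Agent.Lib.Helper23.RSU3
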