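import Mathlib
import Cfsg.Agent.Lib.Helper49.RSU3Defs
import Cfsg.Agent.Lib.Helper40.GUConj

set_option autoImplicit false
set_option linter.unusedSectionVars false
set_option linter.unusedVariables false

namespace Cfsg.Agent.Lib.Helper23.RSU3

open Matrix Cfsg.Agent.Lib.Helper49.StSU Cfsg.Agent.Lib.Helper49.RSU3

variable {F : Type*} [Field F] [Fintype F] {q : ℕ}

theorem l23_hJ_three (u v : Fin 3 → F) :
    hJ 3 F q u v = u 0 * (v 2) ^ q + u 1 * (v 1) ^ q + u 2 * (v 0) ^ q := by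
  unfold hJ
  rw [Fin.sum_univ_three]
  rfl

/-- the diagonal element -/
theorem l23_exists_h (hF : Fintype.card F = q ^ 2) (m : F) (hm : m ≠ 0) :
    ∃ g : GJ 3 F q, mat g = hM q m := by
  have hmqq : (m ^ q) ^ q = m := by
    rw [← pow_mul, ← sq, ← hF, FiniteField.pow_card]
  have hmq : m ^ q ≠ 0 := pow_ne_zero _ hm
  have hdet : (hM q m).det = 1 := by
    unfold hM
    rw [Matrix.det_fin_three]
    simp
    field_simp
  refine ⟨⟨⟨hM q m, hdet⟩, ?_⟩, rfl⟩
  intro u v
  show hJ 3 F q (hM q m *ᵥ u) (hM q m *ᵥ v) = hJ 3 F q u v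
  rw [l23_hJ_three, l23_hJ_three]
  have h0 : ∀ w : Fin 3 → F, (hM q m *ᵥ w) 0 = m * w 0 := by
    intro w
    simp [hM, Matrix.mulVec, dotProduct, Fin.sum_univ_three]
  have h1 : ∀ w : Fin 3 → F, (hM q m *ᵥ w) 1 = m ^ q / m * w 1 := by
    intro w
    simp [hM, Matrix.mulVec, dotProduct, Fin.sum_univ_three]
  have h2 : ∀ w : Fin 3 → F, (hM q m *ᵥ w) 2 = 1 / m ^ q * w 2 := by
    intro w
    simp [hM, Matrix.mulVec, dotProduct, Fin.sum_univ_three]
  rw [h0, h1, h2, h0, h1, h2]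
  simp only [mul_pow, div_pow, one_pow, hmqq]
  field_simp

theorem borel_decomp (hq : 3 ≤ q) (hF : Fintype.card F = q ^ 2) (g : GJ 3 F q)
    (h10 : mat g 1 0 = 0) (h20 : mat g 2 0 = 0) :
    ∃ (t X : GJ 3 F q) (m a b : F), mat t = hM q m ∧ mat X = xM q a b ∧ g = t * X := by
  obtain ⟨φ, hφ, hφφ, -⟩ := Cfsg.Agent.Lib.Helper40.GUConj.exists_frob hF
  have hq0 : q ≠ 0 := by omega
  set M := mat g with hM'
  -- unitarity on basis vectors
  have hU : ∀ i j : Fin 3, M 0 i * (M 2 j) ^ q + M 1 i * (M 1 j) ^ q + M 2 i * (M 0 j) ^ q =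
      hJ 3 F q (Pi.single i 1) (Pi.single j 1) := by
    intro i j
    have h := hJ_mat g (Pi.single i 1) (Pi.single j 1)
    rw [l23_hJ_three] at h
    simp only [Matrix.mulVec_single_one, Matrix.col_apply] at h
    exact h
  have hdet : M.det = 1 := det_mat g
  rw [Matrix.det_fin_three, h10, h20] at hdet
  have hm : M 0 0 ≠ 0 := by
    intro h
    rw [h] at hdet
    simp at hdet
  -- M 2 1 = 0
  have hU01 := hU 0 1
  rw [l23_hJ_three, h10, h20] at hU01
  have h21 : M 2 1 = 0 := by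
    have h : M 0 0 * (M 2 1) ^ q = 0 := by
      simpa [Pi.single_apply, zero_pow hq0] using hU01
    rcases mul_eq_zero.mp h with h | h
    · exact absurd h hm
    · exact pow_eq_zero_iff hq0 |>.1 h
  -- M 2 2
  have hU02 := hU 0 2
  rw [l23_hJ_three, h10, h20] at hU02
  have h22q : M 0 0 * (M 2 2) ^ q = 1 := by
    simpa [Pi.single_apply, zero_pow hq0] using hU02
  have h22 : M 2 2 = 1 / (M 0 0) ^ q := by
    have h1 : (M 2 2) ^ q = 1 / M 0 0 := by
      field_simp
      linear_combination h22q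
    have h2 : M 2 2 = φ (φ (M 2 2)) := (hφφ _).symm
    rw [h2, hφ (M 2 2), h1, map_div₀, map_one, hφ]
  -- M 1 1
  have hmq : (M 0 0) ^ q ≠ 0 := pow_ne_zero _ hm
  rw [h21] at hdet
  have h11 : M 1 1 = (M 0 0) ^ q / M 0 0 := by
    rw [h22] at hdet
    field_simp
    field_simp at hdet
    linear_combination hdet
  -- M 1 2
  have hU12 := hU 1 2
  rw [l23_hJ_three, h21] at hU12
  have h12q : M 0 1 * (M 2 2) ^ q + M 1 1 * (M 1 2) ^ q = 0 := by
    simpa [Pi.single_apply, zero_pow hq0] using hU12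
  have hmqq : ((M 0 0) ^ q) ^ q = M 0 0 := by
    rw [← hφ, ← hφ, hφφ]
  have h12 : M 1 2 = -((M 0 1) ^ q / M 0 0) := by
    have h1 : (M 1 2) ^ q = -(M 0 1 / (M 0 0) ^ q) := by
      have h3 : (M 2 2) ^ q = 1 / M 0 0 := by
        field_simp
        linear_combination h22q
      rw [h3, h11] at h12q
      field_simp
      field_simp at h12q
      linear_combination h12q
    have h2 : M 1 2 = φ (φ (M 1 2)) := (hφφ _).symm
    rw [h2, hφ (M 1 2), h1, map_neg, map_div₀, hφ, hφ, hmqq]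
  obtain ⟨t, ht⟩ := l23_exists_h hF (M 0 0) hm
  refine ⟨t, t⁻¹ * g, M 0 0, M 0 1 / M 0 0, M 0 2 / M 0 0, ht, ?_, ?_⟩
  · -- mat (t⁻¹ * g) = xM
    have hprod : hM q (M 0 0) * xM q (M 0 1 / M 0 0) (M 0 2 / M 0 0) = M := by
      ext i j
      fin_cases i <;> fin_cases j
      · simp [hM, xM, Matrix.mul_apply, Fin.sum_univ_three]
      · simp [hM, xM, Matrix.mul_apply, Fin.sum_univ_three]
        field_simp
      · simp [hM, xM, Matrix.mul_apply, Fin.sum_univ_three]
        field_simp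
      · simp [hM, xM, Matrix.mul_apply, Fin.sum_univ_three]
        exact h10.symm
      · simp [hM, xM, Matrix.mul_apply, Fin.sum_univ_three]
        exact h11.symm
      · simp [hM, xM, Matrix.mul_apply, Fin.sum_univ_three]
        rw [h12, div_pow]
        field_simp
      · simp [hM, xM, Matrix.mul_apply, Fin.sum_univ_three]
        exact h20.symm
      · simp [hM, xM, Matrix.mul_apply, Fin.sum_univ_three]
        exact h21.symm
      · simp [hM, xM, Matrix.mul_apply, Fin.sum_univ_three]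
        rw [h22]
        simp
    calc mat (t⁻¹ * g) = mat t⁻¹ * M := by rw [mat_mul]
      _ = mat t⁻¹ * (mat t * xM q (M 0 1 / M 0 0) (M 0 2 / M 0 0)) := by rw [ht, hprod]
      _ = xM q (M 0 1 / M 0 0) (M 0 2 / M 0 0) := by
        rw [← Matrix.mul_assoc, mat_inv_mul, Matrix.one_mul]
  · rw [mul_inv_cancel_left]

end Cfsg.Agent.Lib.Helper23.RSU3
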