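import Mathlib
import Cfsg.Agent.Lib.Helper48.RSpDefs2

/-!
# Pack K-RSp (S2281), leaf M1: `Aalt` is the inverse of `Uup`
-/

set_option autoImplicit false
set_option linter.unusedVariables false

namespace Cfsg.Agent.Lib.Helper23.RSp

open Matrix Cfsg.Agent.Lib.Helper48.RSp Cfsg.Agent.Lib.Helper18

/-- the entries of `Aalt * N` -/
theorem m1_Aalt_mul_Nup_apply (m : ℕ) (F : Type*) [Field F] (i j : Fin (m + 2)) :
    (Aalt m F * Nup m F) i j =
      if h : 1 ≤ j.val then Aalt m F i ⟨j.val - 1, by omega⟩ else 0 := by
  rw [Matrix.mul_apply]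
  split_ifs with h
  · rw [Finset.sum_eq_single (⟨j.val - 1, by omega⟩ : Fin (m + 2))]
    · have : (⟨j.val - 1, by omega⟩ : Fin (m + 2)).val + 1 = j.val := by
        show j.val - 1 + 1 = j.val
        omega
      simp only [Nup, this, if_true, mul_one]
    · intro k _ hk
      have : ¬ (k.val + 1 = j.val) := by
        intro e
        apply hk
        apply Fin.ext
        show k.val = j.val - 1
        omega
      simp only [Nup, this, if_false, mul_zero]
    · intro h'
      exact absurd (Finset.mem_univ _) h'
  · apply Finset.sum_eq_zero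
    intro k _
    have : ¬ (k.val + 1 = j.val) := by omega
    simp only [Nup, this, if_false, mul_zero]

theorem Aalt_mul_Uup (m : ℕ) (F : Type*) [Field F] : Aalt m F * Uup m F = 1 := by
  ext i j
  rw [Uup, Matrix.mul_add, Matrix.mul_one, Matrix.add_apply, m1_Aalt_mul_Nup_apply,
    Matrix.one_apply]
  rcases lt_trichotomy i.val j.val with hlt | heq | hgt
  · -- `i < j`
    have h1 : 1 ≤ j.val := by omega
    have hne : i ≠ j := fun e => by rw [e] at hlt; exact lt_irrefl _ hlt
    rw [dif_pos h1, if_neg hne]
    have hle : i.val ≤ j.val := by omega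
    have hle' : i.val ≤ j.val - 1 := by omega
    simp only [Aalt, hle, hle', if_true]
    have e : j.val - i.val = (j.val - 1 - i.val) + 1 := by omega
    rw [e, pow_succ]
    ring
  · -- `i = j`
    have hij : i = j := Fin.ext heq
    subst hij
    rw [if_pos rfl]
    have h0 : Aalt m F i i = 1 := by simp [Aalt]
    rw [h0]
    split_ifs with h1
    · have : ¬ (i.val ≤ i.val - 1) := by omega
      simp only [Aalt, this, if_false, add_zero]
    · rw [add_zero]
  · -- `i > j`
    have hne : i ≠ j := fun e => by rw [e] at hgt; exact lt_irrefl _ hgt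
    rw [if_neg hne]
    have hnle : ¬ (i.val ≤ j.val) := by omega
    have h0 : Aalt m F i j = 0 := by simp only [Aalt, hnle, if_false]
    rw [h0, zero_add]
    split_ifs with h1
    · have : ¬ (i.val ≤ j.val - 1) := by omega
      simp only [Aalt, this, if_false]
    · rfl

theorem Uup_mul_Aalt (m : ℕ) (F : Type*) [Field F] : Uup m F * Aalt m F = 1 :=
  mul_eq_one_comm.mp (Aalt_mul_Uup m F)

end Cfsg.Agent.Lib.Helper23.RSp
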