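import Mathlib

set_option autoImplicit false
set_option linter.unusedSectionVars false
set_option linter.unusedVariables false

namespace Cfsg.Agent.Lib.Helper23.RU2

open Polynomial

/-- In a finite field, the nonzero elements all satisfying `x ^ n = 1` (`0 < n`) forces `q - 1 ≤ n`. -/
theorem ru2f_card_le {F : Type*} [Field F] [Fintype F] (n : ℕ) (hn : 0 < n)
    (h : ∀ x : F, x ≠ 0 → x ^ n = 1) : Fintype.card F ≤ n + 1 := by
  classical
  have h1 : Fintype.card Fˣ ≤ ((nthRoots n (1 : F)).toFinset).card := by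
    rw [← Fintype.card_coe]
    refine Fintype.card_le_of_injective
      (fun u : Fˣ => (⟨(u : F), by
        rw [Multiset.mem_toFinset, mem_nthRoots hn]
        exact h _ u.ne_zero⟩ : { x // x ∈ (nthRoots n (1 : F)).toFinset })) ?_
    intro a b hab
    have := congrArg Subtype.val hab
    exact Units.ext this
  have h2 : ((nthRoots n (1 : F)).toFinset).card ≤ n :=
    (Multiset.toFinset_card_le _).trans (card_nthRoots n 1)
  have h3 : Fintype.card Fˣ = Fintype.card F - 1 := Fintype.card_units F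
  have h4 : 0 < Fintype.card F := Fintype.card_pos
  omega

theorem addSubgroup_eq_top {F : Type*} [Field F] [Fintype F] (h4 : Fintype.card F ≠ 4) {l : F} (hl0 : l ≠ 0)
    (hl : ∀ x : F, x ≠ 0 → ∃ k : ℕ, x = l ^ (k + 1))
    (S : AddSubgroup F) (hS : ∀ s ∈ S, l⁻¹ ^ 3 * s ∈ S) (hne : ∃ s ∈ S, s ≠ 0) : S = ⊤ := by
  classical
  have hq2 : 2 ≤ Fintype.card F := Fintype.one_lt_card
  -- the stabiliser subring
  let T : Subring F :=
    { carrier := {x | ∀ s ∈ S, x * s ∈ S}
      mul_mem' := by
        intro a b ha hb s hs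
        have := ha _ (hb s hs)
        rwa [mul_assoc]
      one_mem' := by
        intro s hs
        rwa [one_mul]
      add_mem' := by
        intro a b ha hb s hs
        rw [add_mul]
        exact S.add_mem (ha s hs) (hb s hs)
      zero_mem' := by
        intro s hs
        rw [zero_mul]
        exact S.zero_mem
      neg_mem' := by
        intro a ha s hs
        rw [neg_mul]
        exact S.neg_mem (ha s hs) }
  have hTmem : ∀ x : F, x ∈ T ↔ ∀ s ∈ S, x * s ∈ S := fun x => Iff.rfl
  have hpowinv : ∀ x : F, x ∈ T → x⁻¹ ∈ T := by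
    intro x hx
    by_cases hx0 : x = 0
    · rw [hx0, inv_zero]; exact T.zero_mem
    · have h1 : x ^ (Fintype.card F - 1) = 1 := FiniteField.pow_card_sub_one_eq_one x hx0
      have h2 : x⁻¹ = x ^ (Fintype.card F - 2) := by
        have h3 : x ^ (Fintype.card F - 1) = x ^ (Fintype.card F - 2) * x := by
          rw [← pow_succ]
          congr 1
          omega
        rw [h3] at h1
        exact (eq_inv_of_mul_eq_one_left h1).symm
      rw [h2]
      exact T.pow_mem hx _
  let K : Subfield F := { T with inv_mem' := hpowinv }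
  have hKT : ∀ x : F, x ∈ K ↔ x ∈ T := fun x => Iff.rfl
  have hc : l⁻¹ ^ 3 ∈ K := (hKT _).2 ((hTmem _).2 hS)
  have hl3 : l ^ 3 ∈ K := by
    have : l ^ 3 = (l⁻¹ ^ 3)⁻¹ := by
      rw [inv_pow, inv_inv]
    rw [this]
    exact K.inv_mem hc
  -- r = card K
  set r := Fintype.card K with hr
  have hr2 : 2 ≤ r := Fintype.one_lt_card
  have hl3K : (⟨l ^ 3, hl3⟩ : K) ≠ 0 := by
    intro h
    have := congrArg Subtype.val h
    simp only [ZeroMemClass.coe_zero] at this
    exact pow_ne_zero 3 hl0 this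
  have hpowK : (⟨l ^ 3, hl3⟩ : K) ^ (r - 1) = 1 := FiniteField.pow_card_sub_one_eq_one _ hl3K
  have hpowF : (l ^ 3) ^ (r - 1) = 1 := by
    have := congrArg Subtype.val hpowK
    simpa using this
  have hall : ∀ x : F, x ≠ 0 → x ^ (3 * (r - 1)) = 1 := by
    intro x hx
    obtain ⟨k, rfl⟩ := hl x hx
    rw [← pow_mul, mul_comm (k + 1), pow_mul, pow_mul, hpowF, one_pow]
  have hqle : Fintype.card F ≤ 3 * (r - 1) + 1 := ru2f_card_le _ (by omega) hall
  have hcard : Fintype.card F = r ^ Module.finrank K F := Module.card_eq_pow_finrank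
  have hepos : 0 < Module.finrank K F := Module.finrank_pos
  have he1 : Module.finrank K F = 1 := by
    by_contra hne1
    have he2 : 2 ≤ Module.finrank K F := by omega
    have h5 : r ^ 2 ≤ r ^ Module.finrank K F := Nat.pow_le_pow_right (by omega) he2
    have h6 : r ^ 2 ≤ 3 * (r - 1) + 1 := by omega
    have hr_eq : r = 2 := by
      have hrr : r * r + 2 ≤ 3 * r := by
        have : r ^ 2 = r * r := by ring
        omega
      by_contra hr3
      have hr3' : 3 ≤ r := by omega
      have : 3 * r ≤ r * r := Nat.mul_le_mul_right r hr3'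
      omega
    rw [hr_eq] at hcard hqle
    have h7 : Fintype.card F ≤ 4 := by omega
    have h8 : 2 ^ 2 ≤ 2 ^ Module.finrank K F := Nat.pow_le_pow_right (by norm_num) he2
    have h9 : 4 ≤ Fintype.card F := by
      rw [hcard]; simpa using h8
    exact h4 (by omega)
  have hcardeq : Fintype.card K = Fintype.card F := by
    rw [hcard, he1, pow_one]
  have hsurj : Function.Surjective (Subtype.val : K → F) := by
    have hbij : Function.Bijective (Subtype.val : K → F) :=
      (Fintype.bijective_iff_injective_and_card _).2 ⟨Subtype.val_injective, hcardeq⟩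
    exact hbij.2
  obtain ⟨s0, hs0, hs0ne⟩ := hne
  rw [eq_top_iff]
  intro y _
  obtain ⟨⟨k, hk⟩, hkk⟩ := hsurj (y * s0⁻¹)
  have hk' : y * s0⁻¹ ∈ T := by
    have : k = y * s0⁻¹ := hkk
    rw [← this]; exact (hKT _).1 hk
  have := (hTmem _).1 hk' s0 hs0
  rwa [mul_assoc, inv_mul_cancel₀ hs0ne, mul_one] at this

theorem gen_pow_three_ne_one {F : Type*} [Field F] [Fintype F] (h2 : Fintype.card F ≠ 2)
    (h4 : Fintype.card F ≠ 4) {l : F} (hl0 : l ≠ 0)
    (hl : ∀ x : F, x ≠ 0 → ∃ k : ℕ, x = l ^ (k + 1)) : l ^ 3 ≠ 1 := by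
  classical
  intro h3
  have hq2 : 2 ≤ Fintype.card F := Fintype.one_lt_card
  have hall : ∀ x : F, x ≠ 0 → x ^ 3 = 1 := by
    intro x hx
    obtain ⟨k, rfl⟩ := hl x hx
    rw [← pow_mul, mul_comm, pow_mul, h3, one_pow]
  have hle : Fintype.card F ≤ 3 + 1 := ru2f_card_le 3 (by norm_num) hall
  have hq3 : Fintype.card F = 3 := by omega
  have hl2 : l ^ 2 = 1 := by
    have := FiniteField.pow_card_sub_one_eq_one l hl0
    rwa [hq3] at this
  have hl1 : l = 1 := by
    have : l ^ 3 = l ^ 2 * l := pow_succ l 2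
    rw [h3, hl2, one_mul] at this
    exact this.symm
  have hall1 : ∀ x : F, x ≠ 0 → x ^ 1 = 1 := by
    intro x hx
    obtain ⟨k, rfl⟩ := hl x hx
    rw [hl1, one_pow, one_pow]
  have hle2 : Fintype.card F ≤ 1 + 1 := ru2f_card_le 1 (by norm_num) hall1
  omega

end Cfsg.Agent.Lib.Helper23.RU2
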