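import Mathlib
import Cfsg.Agent.Lib.Helper73.RUHub

set_option autoImplicit false
set_option linter.unusedVariables false
set_option linter.unusedSectionVars false

namespace Cfsg.Agent.Lib.Helper23.RU2

theorem card_two_facts {F : Type*} [Field F] [Fintype F] (h : Fintype.card F = 2) :
    (2 : F) = 0 ∧ ∀ x : F, x ≠ 0 → ∃ k : ℕ, x = (1 : F) ^ (k + 1) := by
  refine ⟨?_, ?_⟩
  · have := FiniteField.cast_card_eq_zero F
    rw [h] at this
    exact_mod_cast this
  · intro x hx
    have h1 := FiniteField.pow_card_sub_one_eq_one x hx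
    rw [h] at h1
    have h2 : x = 1 := by simpa using h1
    exact ⟨0, by rw [h2]; simp⟩

theorem card_four_facts {F : Type*} [Field F] [Fintype F] (h : Fintype.card F = 4) :
    (2 : F) = 0 ∧ ∃ ω : F, ω ^ 2 = ω + 1 ∧ ω ≠ 0 ∧ ∀ x : F, x ≠ 0 → ∃ k : ℕ, x = ω ^ (k + 1) := by
  have h2 : (2 : F) = 0 := by
    have := FiniteField.cast_card_eq_zero F
    rw [h] at this
    have h4 : (2 : F) * 2 = 0 := by
      have h5 : ((4 : ℕ) : F) = 2 * 2 := by norm_num
      rw [← h5]; exact this
    rcases mul_eq_zero.mp h4 with h6 | h6 <;> exact h6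
  refine ⟨h2, ?_⟩
  obtain ⟨l, hl0, hl⟩ := Cfsg.Agent.Lib.Helper73.RUSpec.exists_gen F
  have hl3 : l ^ 3 = 1 := by
    have := FiniteField.pow_card_sub_one_eq_one l hl0
    rwa [h] at this
  have hl1 : l ≠ 1 := by
    intro h1
    -- then every nonzero element is 1, so the field has at most two elements
    have hall : ∀ x : F, x ≠ 0 → x = 1 := by
      intro x hx
      obtain ⟨k, rfl⟩ := hl x hx
      rw [h1, one_pow]
    classical
    have hsub : (Finset.univ : Finset F) ⊆ {0, 1} := by
      intro x _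
      by_cases hx : x = 0
      · simp [hx]
      · simp [hall x hx]
    have hcard := Finset.card_le_card hsub
    rw [Finset.card_univ, h] at hcard
    have : ({0, 1} : Finset F).card ≤ 2 := Finset.card_le_two
    omega
  refine ⟨l, ?_, hl0, hl⟩
  have hfac : (l - 1) * (l ^ 2 + l + 1) = 0 := by
    have : (l - 1) * (l ^ 2 + l + 1) = l ^ 3 - 1 := by ring
    rw [this, hl3, sub_self]
  rcases mul_eq_zero.mp hfac with h6 | h6
  · exact absurd (sub_eq_zero.mp h6) hl1
  · linear_combination h6 - (l + 1) * h2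

end Cfsg.Agent.Lib.Helper23.RU2
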