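import Mathlib
import Cfsg.Agent.Lib.Helper40.NilCovDefs

/-!
# K-S3894-T3: norm-one elements of `F[g]` with non-scalar square

`s = (x + g)² / det (x + g)` has determinant one; its off-diagonal part is `(2x + t) g / n(x)` and its trace is
`(2x² + 2tx + t² - 2d) / n(x)`; a good `x` exists by a root count (and by inspection of `F₅` for the cube).
-/

set_option autoImplicit false
set_option linter.unusedSectionVars false
set_option linter.unusedVariables false

namespace Cfsg.Agent.Lib.Helper23.S3894T3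

open Matrix Polynomial Cfsg.Agent.Lib.Helper40.NilCov

variable {F : Type*} [Field F]

/-- Cayley–Hamilton for `2 × 2` matrices -/
theorem ch2 (M : Matrix (Fin 2) (Fin 2) F) :
    M * M = M.trace • M - M.det • (1 : Matrix (Fin 2) (Fin 2) F) := by
  ext i j
  fin_cases i <;> fin_cases j <;>
    simp [Matrix.mul_apply, Fin.sum_univ_two, Matrix.trace_fin_two, Matrix.det_fin_two] <;> ring

theorem cube_eq_one (M : Matrix (Fin 2) (Fin 2) F) (ht : M.trace = -1) (hd : M.det = 1) :
    M * M * M = 1 := by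
  have h := ch2 M
  rw [ht, hd, one_smul, neg_one_smul] at h
  rw [h, sub_mul, neg_mul, h, one_mul]
  abel

/-- the norm form of `x + g` never vanishes -/
theorem norm_ne_zero {g : Matrix (Fin 2) (Fin 2) F} (hg : IsIrr g) (x : F) :
    (x + g 0 0) * (x + g 1 1) - g 0 1 * g 1 0 ≠ 0 := by
  intro h
  have hdet : (x • (1 : Matrix (Fin 2) (Fin 2) F) + g).det = 0 := by
    rw [Matrix.det_fin_two]
    simp only [Matrix.add_apply, Matrix.smul_apply, Matrix.one_apply_eq, smul_eq_mul, mul_one,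
      Matrix.one_apply_ne (show (0 : Fin 2) ≠ 1 by decide),
      Matrix.one_apply_ne (show (1 : Fin 2) ≠ 0 by decide), mul_zero, zero_add]
    exact h
  obtain ⟨v, hv, hv0⟩ := Matrix.exists_mulVec_eq_zero_iff.mpr hdet
  apply hg v hv (-x)
  rw [Matrix.add_mulVec, Matrix.smul_mulVec, Matrix.one_mulVec] at hv0
  rw [neg_smul]
  exact eq_neg_of_add_eq_zero_right hv0

/-- an irreducible matrix has nonzero upper right entry -/
theorem g01_ne_zero {g : Matrix (Fin 2) (Fin 2) F} (hg : IsIrr g) : g 0 1 ≠ 0 := by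
  intro h
  have hv : (![0, 1] : Fin 2 → F) ≠ 0 := by
    intro h0
    have := congrFun h0 1
    simp at this
  apply hg _ hv (g 1 1)
  ext i
  fin_cases i <;> simp [Matrix.mulVec, dotProduct, Fin.sum_univ_two, h]

/-- the candidate element -/
noncomputable def sx (g : Matrix (Fin 2) (Fin 2) F) (x : F) : Matrix (Fin 2) (Fin 2) F :=
  ((x + g 0 0) * (x + g 1 1) - g 0 1 * g 1 0)⁻¹ •
    ((x • (1 : Matrix (Fin 2) (Fin 2) F) + g) * (x • (1 : Matrix (Fin 2) (Fin 2) F) + g))

theorem sx_apply (g : Matrix (Fin 2) (Fin 2) F) (x : F) :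
    sx g x = ((x + g 0 0) * (x + g 1 1) - g 0 1 * g 1 0)⁻¹ •
      !![(x + g 0 0) * (x + g 0 0) + g 0 1 * g 1 0, (2 * x + g 0 0 + g 1 1) * g 0 1;
         (2 * x + g 0 0 + g 1 1) * g 1 0, (x + g 1 1) * (x + g 1 1) + g 0 1 * g 1 0] := by
  unfold sx
  congr 1
  ext i j
  fin_cases i <;> fin_cases j <;>
    simp [Matrix.mul_apply, Fin.sum_univ_two] <;> ring

theorem sx_mem {g : Matrix (Fin 2) (Fin 2) F} (hg : IsIrr g) (x : F) : sx g x ∈ Kset g := by
  refine ⟨((x + g 0 0) * (x + g 1 1) - g 0 1 * g 1 0)⁻¹ * (x * x - (g 0 0 * g 1 1 - g 0 1 * g 1 0)),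
    ((x + g 0 0) * (x + g 1 1) - g 0 1 * g 1 0)⁻¹ * (2 * x + g 0 0 + g 1 1), ?_⟩
  rw [sx_apply]
  ext i j
  fin_cases i <;> fin_cases j <;> simp <;> ring

theorem sx_det {g : Matrix (Fin 2) (Fin 2) F} (hg : IsIrr g) (x : F) : (sx g x).det = 1 := by
  have hn := norm_ne_zero hg x
  rw [sx_apply, Matrix.det_fin_two]
  simp only [Matrix.smul_apply, Matrix.of_apply, Matrix.cons_val', Matrix.cons_val_zero,
    Matrix.cons_val_one, smul_eq_mul]
  field_simp
  ring

theorem sx_trace {g : Matrix (Fin 2) (Fin 2) F} (x : F) : (sx g x).trace =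
    ((x + g 0 0) * (x + g 1 1) - g 0 1 * g 1 0)⁻¹ *
      ((x + g 0 0) * (x + g 0 0) + (x + g 1 1) * (x + g 1 1) + 2 * (g 0 1 * g 1 0)) := by
  rw [sx_apply, Matrix.trace_fin_two]
  simp only [Matrix.smul_apply, Matrix.of_apply, Matrix.cons_val', Matrix.cons_val_zero,
    Matrix.cons_val_one, smul_eq_mul]
  ring

theorem sx_01 {g : Matrix (Fin 2) (Fin 2) F} (x : F) : (sx g x) 0 1 =
    ((x + g 0 0) * (x + g 1 1) - g 0 1 * g 1 0)⁻¹ * ((2 * x + g 0 0 + g 1 1) * g 0 1) := by
  rw [sx_apply]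
  simp

/-- the square is not scalar -/
theorem sx_sq_not_scalar {g : Matrix (Fin 2) (Fin 2) F} (hg : IsIrr g) (x : F)
    (hB : 2 * x + g 0 0 + g 1 1 ≠ 0) (hT : (sx g x).trace ≠ 0) (a : F) :
    sx g x * sx g x ≠ a • (1 : Matrix (Fin 2) (Fin 2) F) := by
  intro h
  have h01 := congrFun (congrFun h 0) 1
  rw [Matrix.mul_apply, Fin.sum_univ_two] at h01
  simp only [Matrix.smul_apply, Matrix.one_apply_ne (show (0 : Fin 2) ≠ 1 by decide), smul_eq_mul,
    mul_zero] at h01
  have h2 : (sx g x) 0 1 * (sx g x).trace = 0 := by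
    rw [Matrix.trace_fin_two]
    linear_combination h01
  rcases mul_eq_zero.mp h2 with h3 | h3
  · rw [sx_01] at h3
    have hn := norm_ne_zero hg x
    rcases mul_eq_zero.mp h3 with h4 | h4
    · exact (inv_ne_zero hn) h4
    · rcases mul_eq_zero.mp h4 with h5 | h5
      · exact hB h5
      · exact g01_ne_zero hg h5
  · exact hT h3

theorem brute5 : ∀ t d : ZMod 5, (∀ x : ZMod 5, x ^ 2 + t * x + d ≠ 0) →
    ∃ x : ZMod 5, 3 * x ^ 2 + 3 * t * x + t ^ 2 - d = 0 := by
  decide

theorem exists_root_five [Fintype F] (hq : Fintype.card F = 5) (t d : F)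
    (h : ∀ x : F, x ^ 2 + t * x + d ≠ 0) : ∃ x : F, 3 * x ^ 2 + 3 * t * x + t ^ 2 - d = 0 := by
  have φ : ZMod 5 ≃+* F := ZMod.ringEquivOfPrime F (by norm_num) hq
  obtain ⟨t', rfl⟩ := φ.surjective t
  obtain ⟨d', rfl⟩ := φ.surjective d
  have h' : ∀ x : ZMod 5, x ^ 2 + t' * x + d' ≠ 0 := by
    intro x hx
    apply h (φ x)
    rw [← map_pow, ← map_mul, ← map_add, ← map_add, hx, map_zero]
  obtain ⟨x, hx⟩ := brute5 t' d' h'
  refine ⟨φ x, ?_⟩
  have h3 : (3 : F) = φ 3 := (map_ofNat φ 3).symm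
  rw [h3, ← map_pow, ← map_pow, ← map_mul, ← map_mul, ← map_mul, ← map_add, ← map_add, ← map_sub,
    hx, map_zero]

theorem exists_good [Fintype F] (hq : 4 ≤ Fintype.card F) (t d : F)
    (h : ∀ x : F, x ^ 2 + t * x + d ≠ 0) :
    ∃ x : F, 2 * x + t ≠ 0 ∧ 2 * x ^ 2 + 2 * t * x + t ^ 2 - 2 * d ≠ 0 := by
  by_cases h2 : (2 : F) = 0
  · -- characteristic two: `t ≠ 0`
    have ht : t ≠ 0 := by
      intro ht
      have : CharP F 2 := CharTwo.of_one_ne_zero_of_two_eq_zero one_ne_zero h2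
      have hc : ringChar F = 2 := ringChar.eq F 2
      obtain ⟨e, he⟩ := FiniteField.isSquare_of_char_two hc d
      apply h e
      rw [ht, he]
      linear_combination (e * e) * h2
    refine ⟨0, ?_, ?_⟩
    · rw [mul_zero, zero_add]; exact ht
    · intro h3
      apply ht
      have : t ^ 2 = 0 := by linear_combination h3 + d * h2
      exact pow_eq_zero_iff (two_ne_zero) |>.mp this
  · -- odd characteristic: a root count
    set P : F[X] := (C 2 * X + C t) * (C 2 * X ^ 2 + C (2 * t) * X + C (t ^ 2 - 2 * d)) with hP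
    have hP1 : (C 2 * X + C t : F[X]) ≠ 0 := by
      have hd := Polynomial.degree_linear (a := (2 : F)) (b := t) h2
      apply Polynomial.ne_zero_of_degree_gt (n := 0)
      rw [hd]
      norm_num
    have hP2 : (C 2 * X ^ 2 + C (2 * t) * X + C (t ^ 2 - 2 * d) : F[X]) ≠ 0 := by
      have hd := Polynomial.degree_quadratic (a := (2 : F)) (b := 2 * t) (c := t ^ 2 - 2 * d) h2
      apply Polynomial.ne_zero_of_degree_gt (n := 0)
      rw [hd]
      norm_num
    have hP0 : P ≠ 0 := mul_ne_zero hP1 hP2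
    have hdeg : P.natDegree ≤ 3 := by
      refine le_trans Polynomial.natDegree_mul_le ?_
      have d1 : (C 2 * X + C t : F[X]).natDegree ≤ 1 := by
        compute_degree
      have d2 : (C 2 * X ^ 2 + C (2 * t) * X + C (t ^ 2 - 2 * d) : F[X]).natDegree ≤ 2 := by
        compute_degree
      omega
    have hcard : (P.natDegree : Cardinal) < Cardinal.mk F := by
      rw [Cardinal.mk_fintype, Nat.cast_lt]
      omega
    obtain ⟨x, hx⟩ := Polynomial.exists_eval_ne_zero_of_natDegree_lt_card P hP0 hcard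
    refine ⟨x, ?_, ?_⟩
    · intro h0
      apply hx
      rw [hP, Polynomial.eval_mul]
      simp only [Polynomial.eval_add, Polynomial.eval_mul, Polynomial.eval_C, Polynomial.eval_X]
      rw [h0, zero_mul]
    · intro h0
      apply hx
      rw [hP, Polynomial.eval_mul]
      simp only [Polynomial.eval_add, Polynomial.eval_mul, Polynomial.eval_C, Polynomial.eval_X,
        Polynomial.eval_pow]
      have h1 : 2 * x ^ 2 + 2 * t * x + (t ^ 2 - 2 * d) = 0 := by linear_combination h0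
      rw [h1, mul_zero]

/-- K-S3894-T3 -/
theorem exists_sK [Fintype F] (hq : 4 ≤ Fintype.card F) {g : Matrix (Fin 2) (Fin 2) F} (hg : IsIrr g) :
    ∃ s : Matrix (Fin 2) (Fin 2) F, s ∈ Kset g ∧ s.det = 1 ∧
      (∀ a : F, s * s ≠ a • (1 : Matrix (Fin 2) (Fin 2) F)) ∧
      (Fintype.card F = 5 → s * s * s = 1) := by
  have hn : ∀ x : F, x ^ 2 + (g 0 0 + g 1 1) * x + (g 0 0 * g 1 1 - g 0 1 * g 1 0) ≠ 0 := by
    intro x hx
    apply norm_ne_zero hg x
    linear_combination hx
  by_cases h5 : Fintype.card F = 5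
  · obtain ⟨x, hx⟩ := exists_root_five h5 _ _ hn
    have hnx := norm_ne_zero hg x
    have htr : (sx g x).trace = -1 := by
      rw [sx_trace, inv_mul_eq_iff_eq_mul₀ hnx]
      linear_combination hx
    have hB : 2 * x + g 0 0 + g 1 1 ≠ 0 := by
      intro hB
      apply hnx
      linear_combination (2 * x + g 0 0 + g 1 1) * hB - hx
    refine ⟨sx g x, sx_mem hg x, sx_det hg x, ?_, fun _ => cube_eq_one _ htr (sx_det hg x)⟩
    apply sx_sq_not_scalar hg x hB
    rw [htr]
    exact neg_ne_zero.mpr one_ne_zero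
  · obtain ⟨x, hB, hT⟩ := exists_good hq _ _ hn
    have hnx := norm_ne_zero hg x
    refine ⟨sx g x, sx_mem hg x, sx_det hg x, ?_, fun h => absurd h h5⟩
    apply sx_sq_not_scalar hg x (by intro h0; apply hB; linear_combination h0)
    rw [sx_trace]
    apply mul_ne_zero (inv_ne_zero hnx)
    intro h0
    apply hT
    linear_combination h0

end Cfsg.Agent.Lib.Helper23.S3894T3
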