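import Mathlib
import Cfsg.Prelude.Def_Classical
import Cfsg.Prelude.Def_GeometricClasses
import Cfsg.Agent.Lib.Helper46.AschOBasic

/-!
# K-SLO-3: `|O(Q)| · [SL : CO(Q) ∩ SL]` divides `2 |SL|`
-/

set_option autoImplicit false
set_option linter.unusedSectionVars false
set_option linter.unusedVariables false

namespace Cfsg.Agent.Lib.Helper23.SLO

open Matrix Cfsg Cfsg.Geo Cfsg.Agent.Lib.Helper46.AschO

variable {F : Type*} [Field F] [Fintype F]

theorem mem_SL_iff' {n : ℕ} (g : GL (Fin n) F) :
    g ∈ specialLinear (Fin n) F ↔ (g : Matrix (Fin n) (Fin n) F).det = 1 := by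
  unfold specialLinear
  rw [MonoidHom.mem_ker, Units.ext_iff]
  rfl

/-- the determinant of an isometry is `± 1` -/
theorem det_sq_of_isometry {n : ℕ} (Q : (Fin n → F) → F) (hQ : IsNondegenerateQuadraticForm Q)
    (g : GL (Fin n) F) (hg : g ∈ isometryGroup F Q) :
    (g : Matrix (Fin n) (Fin n) F).det * (g : Matrix (Fin n) (Fin n) F).det = 1 := by
  have hc : ∀ v, Q ((g : Matrix (Fin n) (Fin n) F) *ᵥ v) = ((1 : Fˣ) : F) * Q v := by
    intro v
    rw [(mem_isometryGroup_iff Q g).mp hg, Units.val_one, one_mul]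
  have h1 := adjQ_similarity hQ hc
  rw [Units.val_one, one_smul] at h1
  have h2 := congrArg Matrix.det (gramQ_mul_adjQ hQ (g : Matrix (Fin n) (Fin n) F))
  rw [Matrix.det_mul, Matrix.det_mul, Matrix.det_transpose, h1] at h2
  have hG : (gramQ Q).det ≠ 0 := isUnit_iff_ne_zero.mp (isUnit_det_gramQ hQ)
  have h3 : ((g⁻¹ : GL (Fin n) F) : Matrix (Fin n) (Fin n) F).det =
      (g : Matrix (Fin n) (Fin n) F).det := by
    apply mul_left_cancel₀ hG
    rw [h2, mul_comm]
  have h4 : (g : Matrix (Fin n) (Fin n) F).det *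
      ((g⁻¹ : GL (Fin n) F) : Matrix (Fin n) (Fin n) F).det = 1 := by
    rw [← Matrix.det_mul, ← Units.val_mul, mul_inv_cancel, Units.val_one, Matrix.det_one]
  rw [h3] at h4
  exact h4

theorem relIndex_dvd (h2 : (2 : F) ≠ 0) (n : ℕ) (Q : (Fin n → F) → F)
    (hQ : Cfsg.Geo.IsNondegenerateQuadraticForm Q) :
    Nat.card (Cfsg.isometryGroup F Q) *
        (Cfsg.Geo.quadSimilarityGroup Q).relIndex (Cfsg.Geo.specialLinear (Fin n) F) ∣
      2 * Nat.card (Cfsg.Geo.specialLinear (Fin n) F) := by
  have hOCO : isometryGroup F Q ≤ quadSimilarityGroup Q := isometryGroup_le_quadSimilarityGroup Q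
  have e1 : Nat.card ↥(specialLinear (Fin n) F ⊓ isometryGroup F Q) *
      (specialLinear (Fin n) F).relIndex (isometryGroup F Q) = Nat.card (isometryGroup F Q) := by
    have := Subgroup.relIndex_mul_relIndex (⊥ : Subgroup (GL (Fin n) F))
      (specialLinear (Fin n) F ⊓ isometryGroup F Q) (isometryGroup F Q) bot_le inf_le_right
    rwa [Subgroup.relIndex_bot_left, Subgroup.relIndex_bot_left, Subgroup.inf_relIndex_right] at this
  have e4 : Nat.card ↥(quadSimilarityGroup Q ⊓ specialLinear (Fin n) F) *
      (quadSimilarityGroup Q).relIndex (specialLinear (Fin n) F) =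
      Nat.card (specialLinear (Fin n) F) := by
    have := Subgroup.relIndex_mul_relIndex (⊥ : Subgroup (GL (Fin n) F))
      (quadSimilarityGroup Q ⊓ specialLinear (Fin n) F) (specialLinear (Fin n) F) bot_le inf_le_right
    rwa [Subgroup.relIndex_bot_left, Subgroup.relIndex_bot_left, Subgroup.inf_relIndex_right] at this
  have e3 : Nat.card ↥(specialLinear (Fin n) F ⊓ isometryGroup F Q) ∣
      Nat.card ↥(quadSimilarityGroup Q ⊓ specialLinear (Fin n) F) :=
    Subgroup.card_dvd_of_le (le_inf (inf_le_right.trans hOCO) inf_le_left)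
  have hne : (-1 : F) ≠ 1 := by
    intro h
    apply h2
    linear_combination -h
  have e2 : (specialLinear (Fin n) F).relIndex (isometryGroup F Q) ∣ 2 := by
    by_cases hle : isometryGroup F Q ≤ specialLinear (Fin n) F
    · rw [Subgroup.relIndex_eq_one.mpr hle]
      exact one_dvd 2
    · obtain ⟨a, haO, haS⟩ := SetLike.not_le_iff_exists.mp hle
      have hdet : ∀ b ∈ isometryGroup F Q, (b : Matrix (Fin n) (Fin n) F).det = 1 ∨
          (b : Matrix (Fin n) (Fin n) F).det = -1 := by
        intro b hb
        have h := det_sq_of_isometry Q hQ b hb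
        have h5 : ((b : Matrix (Fin n) (Fin n) F).det - 1) *
            ((b : Matrix (Fin n) (Fin n) F).det + 1) = 0 := by linear_combination h
        rcases mul_eq_zero.mp h5 with h6 | h6
        · left; exact sub_eq_zero.mp h6
        · right; exact eq_neg_of_add_eq_zero_left h6
      have hda : (a : Matrix (Fin n) (Fin n) F).det = -1 := by
        rcases hdet a haO with h | h
        · exact absurd ((mem_SL_iff' a).mpr h) haS
        · exact h
      have : (specialLinear (Fin n) F).relIndex (isometryGroup F Q) = 2 := by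
        rw [Subgroup.relIndex_eq_two_iff]
        refine ⟨a, haO, fun b hb => ?_⟩
        rcases hdet b hb with h | h
        · right
          refine ⟨(mem_SL_iff' b).mpr h, fun hba => ?_⟩
          rw [mem_SL_iff', Units.val_mul, Matrix.det_mul, h, hda, one_mul] at hba
          exact hne hba
        · left
          refine ⟨?_, fun hbS => ?_⟩
          · rw [mem_SL_iff', Units.val_mul, Matrix.det_mul, h, hda]
            ring
          · rw [mem_SL_iff', h] at hbS
            exact hne hbS
      rw [this]
  rw [← e1, ← e4]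
  have h5 := mul_dvd_mul_right (mul_dvd_mul e3 e2)
    ((quadSimilarityGroup Q).relIndex (specialLinear (Fin n) F))
  have h6 : Nat.card ↥(quadSimilarityGroup Q ⊓ specialLinear (Fin n) F) * 2 *
      (quadSimilarityGroup Q).relIndex (specialLinear (Fin n) F) =
      2 * (Nat.card ↥(quadSimilarityGroup Q ⊓ specialLinear (Fin n) F) *
      (quadSimilarityGroup Q).relIndex (specialLinear (Fin n) F)) := by ring
  rw [h6] at h5
  exact h5

end Cfsg.Agent.Lib.Helper23.SLO
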