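import Mathlib
import Cfsg.Prelude.Def_Classical
import Cfsg.Prelude.Def_GeometricClasses
import Cfsg.Agent.Lib.Helper49.SLUDefs
import Cfsg.Agent.Lib.Helper49.SemisimpleConj
import Cfsg.Agent.Lib.Helper20.SLO12
import Cfsg.Agent.Lib.Helper80.AschUONB
import Cfsg.Agent.Lib.Helper19.Unitary

/-!
# K-SLU-5 (598205): `n = r ∈ {3, 5}`, `r ∣ q₀ - 1`: every `x ∈ SL_r(q)`, `q = q₀²`, with `x ^ r = 1`
is `GL`-conjugate into the similarity group of the standard hermitian form

The characteristic polynomial of `x` splits with roots `ρ i = ζ ^ (a i)` (fixed by `a ↦ a ^ q₀`),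
`Σ a i = 0` in `ℤ / r`.  For `r = 3, 5` there is an involution `τ` of the indices with
`ρ i * ρ (τ i)` constant; `diag ρ` multiplies the hermitian form `Σ u i * (v (τ i)) ^ q₀` by that
constant, this form is equivalent to the standard one, and `x` is conjugate to `diag ρ`.
-/

set_option autoImplicit false
set_option linter.unusedSectionVars false
set_option linter.unusedVariables false

namespace Cfsg.Agent.Lib.Helper23.SLU

open Matrix Polynomial Cfsg.Agent.Lib.Helper49.SLU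

variable {F : Type*} [Field F] [Fintype F]

/-- the twisted hermitian form attached to an involution of the indices -/
def tauForm {n : ℕ} (q₀ : ℕ) (τ : Equiv.Perm (Fin n)) (u v : Fin n → F) : F :=
  ∑ i, u i * (v (τ i)) ^ q₀

theorem tauForm_unitary {n q₀ : ℕ} (hF : Fintype.card F = q₀ ^ 2) (τ : Equiv.Perm (Fin n))
    (hτ : ∀ i, τ (τ i) = i) :
    Cfsg.Geo.IsUnitaryFormPow q₀ (tauForm (F := F) q₀ τ) := by
  classical
  have hq0 : q₀ ≠ 0 := (Cfsg.Agent.Lib.Helper19.q_pos hF).ne'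
  refine ⟨?_, ?_, ?_, ?_⟩
  · intro x y v
    unfold tauForm
    rw [← Finset.sum_add_distrib]
    apply Finset.sum_congr rfl
    intro i _
    rw [Pi.add_apply]
    ring
  · intro c x v
    unfold tauForm
    rw [Finset.mul_sum]
    apply Finset.sum_congr rfl
    intro i _
    rw [Pi.smul_apply, smul_eq_mul]
    ring
  · intro v w
    unfold tauForm
    rw [Cfsg.Agent.Lib.Helper19.sum_pow_q hF]
    rw [← Equiv.sum_comp τ (fun i => (w i * v (τ i) ^ q₀) ^ q₀)]
    apply Finset.sum_congr rfl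
    intro i _
    rw [hτ, mul_pow, Cfsg.Agent.Lib.Helper19.pow_q_pow_q hF]
    ring
  · intro v hv
    obtain ⟨k, hk⟩ : ∃ k, v k ≠ 0 := by
      by_contra h
      push Not at h
      exact hv (funext h)
    refine ⟨⟨Pi.single (τ k) 1, ?_⟩, ⟨Pi.single (τ k) 1, ?_⟩⟩
    · unfold tauForm
      rw [Finset.sum_eq_single (τ k)]
      · rw [Pi.single_eq_same, one_mul, hτ]
        exact pow_ne_zero _ hk
      · intro b _ hb
        rw [Pi.single_eq_of_ne hb, zero_mul]
      · intro h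
        exact absurd (Finset.mem_univ _) h
    · unfold tauForm
      rw [Finset.sum_eq_single k]
      · rw [Pi.single_eq_same, one_pow, mul_one]
        exact hk
      · intro b _ hb
        have : τ b ≠ τ k := fun h => hb (τ.injective h)
        rw [Pi.single_eq_of_ne this, zero_pow hq0, mul_zero]
      · intro h
        exact absurd (Finset.mem_univ _) h

/-- the linear algebra part -/
theorem conj_of_tau {q₀ : ℕ} (hF : Fintype.card F = q₀ ^ 2) {r : ℕ} (hr0 : (r : F) ≠ 0)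
    (x : GL (Fin r) F) (hxr : x ^ r = 1) (ρ : Fin r → F)
    (hchar : (x : Matrix (Fin r) (Fin r) F).charpoly = ∏ k, (X - C (ρ k)))
    (hρr : ∀ k, ρ k ^ r = 1) (hρq : ∀ k, ρ k ^ q₀ = ρ k)
    (τ : Equiv.Perm (Fin r)) (hτ : ∀ i, τ (τ i) = i) (μ : F) (hμ : μ ≠ 0)
    (hpair : ∀ i, ρ i * ρ (τ i) = μ) :
    ∃ g : GL (Fin r) F, g⁻¹ * x * g ∈ CUh r F q₀ := by
  classical
  have hrne : r ≠ 0 := by
    rintro rfl
    exact hr0 Nat.cast_zero
  set A : Matrix (Fin r) (Fin r) F := (x : Matrix (Fin r) (Fin r) F) with hA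
  set D : Matrix (Fin r) (Fin r) F := Matrix.diagonal ρ with hD
  set s : F[X] := X ^ r - C 1 with hs
  have hsq : Squarefree s := (separable_X_pow_sub_C (1 : F) hr0 one_ne_zero).squarefree
  have hAr : A ^ r = 1 := by
    rw [hA, ← Units.val_pow_eq_pow_val, hxr, Units.val_one]
  have hDr : D ^ r = 1 := by
    rw [hD, Matrix.diagonal_pow, ← Matrix.diagonal_one]
    congr 1
    funext k
    exact hρr k
  have hA0 : aeval A s = 0 := by
    rw [hs, map_sub, map_pow, aeval_X, aeval_C, hAr, map_one, sub_self]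
  have hD0 : aeval D s = 0 := by
    rw [hs, map_sub, map_pow, aeval_X, aeval_C, hDr, map_one, sub_self]
  obtain ⟨P, hP⟩ := Cfsg.Agent.Lib.Helper49.exists_GL_conj_of_charpoly_eq A D s hsq hA0 hD0
    (by rw [hchar, hD, Matrix.charpoly_diagonal])
  -- `D` as an element of `GL`
  have hρ0 : ∀ k, ρ k ≠ 0 := by
    intro k h
    have := hρr k
    rw [h, zero_pow hrne] at this
    exact zero_ne_one this
  have hDdet : IsUnit D.det := by
    rw [hD, Matrix.det_diagonal, isUnit_iff_ne_zero]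
    exact Finset.prod_ne_zero_iff.mpr (fun k _ => hρ0 k)
  set D' : GL (Fin r) F := Matrix.GeneralLinearGroup.mk'' D hDdet with hD'
  have hD'v : (D' : Matrix (Fin r) (Fin r) F) = D := rfl
  -- `D'` is a similarity of the twisted form
  have hDsim : D' ∈ Cfsg.Geo.similarityGroup (tauForm (F := F) q₀ τ) := by
    refine ⟨Units.mk0 μ hμ, fun u v => ?_⟩
    rw [Units.val_mk0, hD'v, hD]
    unfold tauForm
    rw [Finset.mul_sum]
    apply Finset.sum_congr rfl
    intro i _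
    rw [Matrix.mulVec_diagonal, Matrix.mulVec_diagonal, mul_pow, hρq, ← hpair i]
    ring
  obtain ⟨B, hB⟩ := Cfsg.Agent.Lib.Helper80.AschU.exists_orthonormal_matrix hF
    (tauForm (F := F) q₀ τ) (tauForm_unitary hF τ hτ)
  have h1 := conj_mem_of_comp (tauForm (F := F) q₀ τ) (Cfsg.hermForm r F q₀) B hB D' hDsim
  -- `x = P⁻¹ D' P`
  have hx : x = P⁻¹ * D' * P := by
    apply Units.ext
    rw [Units.val_mul, Units.val_mul, hD'v]
    have h2 : ((P⁻¹ : GL (Fin r) F) : Matrix (Fin r) (Fin r) F) * (P : Matrix (Fin r) (Fin r) F)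
        = 1 := by
      rw [← Units.val_mul, inv_mul_cancel, Units.val_one]
    calc (x : Matrix (Fin r) (Fin r) F) = 1 * A := by rw [one_mul]
      _ = ((P⁻¹ : GL (Fin r) F) : Matrix (Fin r) (Fin r) F) * ((P : Matrix (Fin r) (Fin r) F) * A)
          := by rw [← mul_assoc, h2]
      _ = _ := by rw [hP, mul_assoc]
  refine ⟨P⁻¹ * B, ?_⟩
  have : (P⁻¹ * B)⁻¹ * x * (P⁻¹ * B) = B⁻¹ * D' * B := by
    rw [hx]
    group
  rw [this]
  exact h1

/-- the index swap on `Unit ⊕ (Fin m ⊕ Fin m)` -/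
def swapIdx (m : ℕ) : Equiv.Perm (Unit ⊕ (Fin m ⊕ Fin m)) :=
  Equiv.sumCongr (Equiv.refl Unit) (Equiv.sumComm (Fin m) (Fin m))

theorem swapIdx_swapIdx (m : ℕ) (s : Unit ⊕ (Fin m ⊕ Fin m)) : swapIdx m (swapIdx m s) = s := by
  rcases s with u | j | j <;> rfl

/-- **K-SLU-5.** -/
theorem special_conj_u {q₀ : ℕ} (hF : Fintype.card F = q₀ ^ 2) (r : ℕ) [Fact r.Prime]
    (hr : r = 3 ∨ r = 5) (hrq : r ∣ q₀ - 1) (x : GL (Fin r) F)
    (hx : x ∈ Cfsg.Geo.specialLinear (Fin r) F) (hxr : x ^ r = 1) :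
    ∃ g : GL (Fin r) F, g⁻¹ * x * g ∈ CUh r F q₀ := by
  classical
  have hrp : r.Prime := Fact.out
  have : NeZero r := ⟨hrp.ne_zero⟩
  have hq1 : 1 < q₀ := Cfsg.Agent.Lib.Helper19.one_lt_q hF
  -- a primitive `r`-th root of unity
  obtain ⟨ζ, hζ⟩ : ∃ ζ : F, IsPrimitiveRoot ζ r := by
    have hcard : r ∣ Fintype.card Fˣ := by
      rw [Fintype.card_units, hF]
      have : q₀ ^ 2 - 1 = (q₀ - 1) * (q₀ + 1) := by
        obtain ⟨k, rfl⟩ : ∃ k, q₀ = k + 1 := ⟨q₀ - 1, by omega⟩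
        simp only [Nat.add_sub_cancel]
        ring_nf
        omega
      rw [this]
      exact Dvd.dvd.mul_right hrq _
    obtain ⟨u, hu⟩ := exists_prime_orderOf_dvd_card r hcard
    refine ⟨(u : F), ?_⟩
    rw [IsPrimitiveRoot.coe_units_iff, ← hu]
    exact IsPrimitiveRoot.orderOf u
  have hr0 : (r : F) ≠ 0 := (hζ.neZero').ne
  have hdet : (x : Matrix (Fin r) (Fin r) F).det = 1 := by
    have h1 : Matrix.GeneralLinearGroup.det x = 1 := hx
    have h2 := congrArg (fun u : Fˣ => (u : F)) h1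
    simpa using h2
  obtain ⟨ρ, hchar, hρr, hρprod⟩ := Cfsg.Agent.Lib.Helper20.SLO.exists_roots_tuple ζ hζ x hdet hxr
  -- the roots are fixed by `a ↦ a ^ q₀`
  have hρq : ∀ k, ρ k ^ q₀ = ρ k := by
    intro k
    obtain ⟨t, ht⟩ := hrq
    have hq : q₀ = 1 + r * t := by omega
    rw [hq, pow_add, pow_one, pow_mul, hρr k, one_pow, mul_one]
  choose a' ha'lt ha' using fun i => hζ.eq_pow_of_pow_eq_one (hρr i)
  set a : Fin r → Fin r := fun i => ⟨a' i, ha'lt i⟩ with hadef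
  have haρ : ∀ i, ζ ^ (a i : ℕ) = ρ i := fun i => ha' i
  have hsum : (∑ i, (a i : ℕ)) % r = 0 := by
    apply Nat.mod_eq_zero_of_dvd
    rw [← hζ.pow_eq_one_iff_dvd, ← Finset.prod_pow_eq_pow_sum, ← hρprod]
    exact Finset.prod_congr rfl (fun i _ => haρ i)
  obtain ⟨m, e, he⟩ : ∃ (m : ℕ) (e : (Unit ⊕ (Fin m ⊕ Fin m)) ≃ Fin r), ∀ j : Fin m,
      ((a (e (.inr (.inl j))) : ℕ) + a (e (.inr (.inr j)))) % r =
        (2 * (a (e (.inl ())) : ℕ)) % r := by
    rcases hr with rfl | rfl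
    · exact ⟨1, Cfsg.Agent.Lib.Helper20.SLO.comb3 a hsum⟩
    · exact ⟨2, Cfsg.Agent.Lib.Helper20.SLO.comb5 a hsum⟩
  have hpair0 : ∀ j : Fin m,
      ρ (e (.inr (.inl j))) * ρ (e (.inr (.inr j))) = ρ (e (.inl ())) ^ 2 := by
    intro j
    rw [← haρ, ← haρ, ← haρ, ← pow_add, ← pow_mul, pow_eq_pow_mod _ hζ.pow_eq_one, he j,
      ← pow_eq_pow_mod _ hζ.pow_eq_one, mul_comm]
  set τ : Equiv.Perm (Fin r) := (e.symm.trans (swapIdx m)).trans e with hτdef
  have hτ : ∀ i, τ (τ i) = i := by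
    intro i
    simp only [hτdef, Equiv.trans_apply, Equiv.symm_apply_apply, swapIdx_swapIdx,
      Equiv.apply_symm_apply]
  have hρ0 : ρ (e (.inl ())) ≠ 0 := by
    intro h
    have := hρr (e (.inl ()))
    rw [h, zero_pow hrp.ne_zero] at this
    exact zero_ne_one this
  refine conj_of_tau hF hr0 x hxr ρ hchar hρr hρq τ hτ (ρ (e (.inl ())) ^ 2)
    (pow_ne_zero _ hρ0) ?_
  intro i
  obtain ⟨s, rfl⟩ := e.surjective i
  have hτs : τ (e s) = e (swapIdx m s) := by
    simp only [hτdef, Equiv.trans_apply, Equiv.symm_apply_apply]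
  rw [hτs]
  rcases s with u | j | j
  · show ρ (e (.inl u)) * ρ (e (.inl u)) = _
    rw [sq]
  · exact hpair0 j
  · show ρ (e (.inr (.inr j))) * ρ (e (.inr (.inl j))) = _
    rw [mul_comm]
    exact hpair0 j

end Cfsg.Agent.Lib.Helper23.SLU
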