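import Cfsg.Agent.Lib.Helper43.PSpLang1

/-!
# K-SPC-A1a (267601, S2676, architect helper73): a nonsingular skew matrix is `hᵀ J h` (char ≠ 2)
-/

set_option autoImplicit false

namespace Cfsg.Agent.Lib.Helper23.SPC

open Matrix

variable {F : Type*} [Field F]

/-- a skew-symmetric matrix is alternating when `2 ≠ 0` -/
theorem alt_of_skew (h2 : (2 : F) ≠ 0) {ι : Type*} [Fintype ι]
    (B : Matrix ι ι F) (hB : Bᵀ = -B) (x : ι → F) : x ⬝ᵥ (B *ᵥ x) = 0 := by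
  have h1 : x ⬝ᵥ (B *ᵥ x) = -(x ⬝ᵥ (B *ᵥ x)) := by
    calc x ⬝ᵥ (B *ᵥ x) = (x ᵥ* B) ⬝ᵥ x := Matrix.dotProduct_mulVec x B x
      _ = (Bᵀ *ᵥ x) ⬝ᵥ x := by rw [Matrix.mulVec_transpose]
      _ = -((B *ᵥ x) ⬝ᵥ x) := by rw [hB, Matrix.neg_mulVec, neg_dotProduct]
      _ = -(x ⬝ᵥ (B *ᵥ x)) := by rw [dotProduct_comm]
  have h3 : (2 : F) * (x ⬝ᵥ (B *ᵥ x)) = 0 := by
    rw [two_mul]
    nth_rewrite 1 [h1]
    exact neg_add_cancel _
  exact (mul_eq_zero.mp h3).resolve_left h2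

/-- LEAF A1a (267601). -/
theorem exists_congr_J_of_skew (h2 : (2 : F) ≠ 0) {m : ℕ}
    (B : Matrix (Fin m ⊕ Fin m) (Fin m ⊕ Fin m) F) (hB : Bᵀ = -B) (hdet : IsUnit B.det) :
    ∃ h : Matrix (Fin m ⊕ Fin m) (Fin m ⊕ Fin m) F, IsUnit h.det ∧ hᵀ * Matrix.J (Fin m) F * h = B := by
  obtain ⟨k, hk⟩ := Cfsg.Agent.Lib.Helper43.AutPSp.exists_congr_J m B (alt_of_skew h2 B hB) hdet.ne_zero
  have hJ : IsUnit (Matrix.J (Fin m) F).det :=
    IsUnit.of_mul_eq_one _ (Matrix.J_det_mul_J_det (Fin m) F)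
  have hkdet : IsUnit k.det := by
    have e : (kᵀ * B * k).det = (Matrix.J (Fin m) F).det := by rw [hk]
    rw [Matrix.det_mul, Matrix.det_mul, Matrix.det_transpose] at e
    rw [isUnit_iff_ne_zero]
    intro h0
    rw [h0] at e
    simp only [zero_mul, mul_zero] at e
    exact hJ.ne_zero e.symm
  refine ⟨k⁻¹, ?_, ?_⟩
  · rw [Matrix.det_nonsing_inv]
    exact (Ring.inverse_unit hkdet.unit ▸ (hkdet.unit⁻¹).isUnit : IsUnit (Ring.inverse k.det))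
  · rw [← hk, Matrix.transpose_nonsing_inv]
    have hkT : IsUnit (kᵀ).det := by rw [Matrix.det_transpose]; exact hkdet
    calc (kᵀ)⁻¹ * (kᵀ * B * k) * k⁻¹ = ((kᵀ)⁻¹ * kᵀ) * B * (k * k⁻¹) := by
          simp only [Matrix.mul_assoc]
      _ = B := by
          rw [Matrix.nonsing_inv_mul _ hkT, Matrix.mul_nonsing_inv _ hkdet, Matrix.one_mul,
            Matrix.mul_one]

end Cfsg.Agent.Lib.Helper23.SPC
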