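import Mathlib
import Cfsg.Prelude.Def_GeometricClasses
import Cfsg.Agent.Lib.Helper87.SU3Defs
import Cfsg.Agent.Lib.Helper51.SUMax1

/-!
# K-SU3-D1: an element of `SU_3(5)` normalising the Heisenberg group and commuting with `diag(1, ω, ω²)` lies in it
-/

set_option autoImplicit false
set_option linter.unusedSectionVars false
set_option linter.unusedVariables false

namespace Cfsg.Agent.Lib.Helper23.SU3K

open Cfsg Cfsg.Geo Matrix Cfsg.Agent.Lib.Helper87.SU3

variable {F : Type*} [Field F] [Fintype F]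

local notation "M3" => Matrix (Fin 3) (Fin 3) F
local notation "G3" => GL (Fin 3) F

theorem aM_pow (ω : F) (j : ℕ) : aM ω ^ j = !![1, 0, 0; 0, ω ^ j, 0; 0, 0, (ω ^ j) ^ 2] := by
  have h : aM ω = Matrix.diagonal ![1, ω, ω ^ 2] := by
    ext r c
    fin_cases r <;> fin_cases c <;> simp [aM]
  rw [h, Matrix.diagonal_pow]
  ext r c
  fin_cases r <;> fin_cases c <;> simp [← pow_mul, mul_comm]

theorem bM_mul_sq : (bM : M3) * (bM * bM) = 1 := by
  ext r c
  fin_cases r <;> fin_cases c <;> simp [bM, Matrix.mul_apply, Fin.sum_univ_three]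

theorem bM_sq_mul : ((bM : M3) * bM) * bM = 1 := by
  ext r c
  fin_cases r <;> fin_cases c <;> simp [bM, Matrix.mul_apply, Fin.sum_univ_three]

theorem bM_pow_three : (bM : M3) ^ 3 = 1 := by
  rw [pow_succ, pow_two, bM_sq_mul]

/-- `bM` as an invertible matrix -/
def bG : G3 := ⟨bM, bM * bM, bM_mul_sq, bM_sq_mul⟩

theorem three_ne_zero' (hF : Fintype.card F = 25) : (3 : F) ≠ 0 := by
  have h25 : ((25 : ℕ) : F) = 0 := by
    rw [← hF]
    exact Nat.cast_card_eq_zero F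
  have h5 : (5 : F) = 0 := by
    have : (5 : F) * 5 = 0 := by
      push_cast at h25
      linear_combination h25
    exact mul_self_eq_zero.mp this
  intro h3
  have : (1 : F) = 0 := by linear_combination 2 * h3 - h5
  exact one_ne_zero this

/-- K-SU3-D1 -/
theorem mem_heis_of_commute_a (hF : Fintype.card F = 25) (ω : F) (hω : ω ^ 2 + ω + 1 = 0) (R₀ : Subgroup G3)
    (hR₀ : IsHeis ω R₀) (g : G3) (hg : g ∈ SU3 F 5) (hn : g ∈ subgroupNormalizer R₀)
    (hc : (g : M3) * aM ω = aM ω * (g : M3)) : g ∈ R₀ := by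
  have h3 := three_ne_zero' hF
  have hω3 : ω ^ 3 = 1 := by linear_combination (ω - 1) * hω
  have hω1 : ω ≠ 1 := by
    intro h
    rw [h] at hω
    apply h3
    linear_combination hω
  have hω0 : ω ≠ 0 := by
    intro h
    rw [h] at hω3
    simp at hω3
  have hω21 : ω ^ 2 ≠ 1 := by
    intro h
    apply hω1
    have h4 : ω = -2 := by linear_combination hω - h
    rw [h4] at h
    exfalso
    apply h3
    linear_combination h
  have hω2ω : ω ^ 2 ≠ ω := by
    intro h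
    have : ω * (ω - 1) = 0 := by linear_combination h
    rcases mul_eq_zero.mp this with h5 | h5
    · exact hω0 h5
    · exact hω1 (sub_eq_zero.mp h5)
  -- `g` is diagonal
  have e01 := congrFun (congrFun hc 0) 1
  have e02 := congrFun (congrFun hc 0) 2
  have e10 := congrFun (congrFun hc 1) 0
  have e12 := congrFun (congrFun hc 1) 2
  have e20 := congrFun (congrFun hc 2) 0
  have e21 := congrFun (congrFun hc 2) 1
  simp [aM, Matrix.mul_apply, Fin.sum_univ_three] at e01 e02 e10 e12 e20 e21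
  have hz : ∀ (x c : F), c ≠ 0 → x * c = 0 → x = 0 := fun x c hc h =>
    (mul_eq_zero.mp h).resolve_right hc
  have g01 : (g : M3) 0 1 = 0 :=
    hz _ (ω - 1) (sub_ne_zero.mpr hω1) (by linear_combination e01)
  have g02 : (g : M3) 0 2 = 0 :=
    hz _ (ω ^ 2 - 1) (sub_ne_zero.mpr hω21) (by linear_combination e02)
  have g10 : (g : M3) 1 0 = 0 :=
    hz _ (ω - 1) (sub_ne_zero.mpr hω1) (by linear_combination -e10)
  have g12 : (g : M3) 1 2 = 0 :=
    hz _ (ω ^ 2 - ω) (sub_ne_zero.mpr hω2ω) (by linear_combination e12)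
  have g20 : (g : M3) 2 0 = 0 :=
    hz _ (ω ^ 2 - 1) (sub_ne_zero.mpr hω21) (by linear_combination -e20)
  have g21 : (g : M3) 2 1 = 0 :=
    hz _ (ω ^ 2 - ω) (sub_ne_zero.mpr hω2ω) (by linear_combination -e21)
  obtain ⟨d0, hd0⟩ : ∃ d0, d0 = (g : M3) 0 0 := ⟨_, rfl⟩
  obtain ⟨d1, hd1⟩ : ∃ d1, d1 = (g : M3) 1 1 := ⟨_, rfl⟩
  obtain ⟨d2, hd2⟩ : ∃ d2, d2 = (g : M3) 2 2 := ⟨_, rfl⟩
  have hgD : (g : M3) = !![d0, 0, 0; 0, d1, 0; 0, 0, d2] := by
    rw [Matrix.eta_fin_three (g : M3), g01, g02, g10, g12, g20, g21, hd0, hd1, hd2]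
  -- determinant and unitarity
  obtain ⟨hiso, hdet⟩ := (Cfsg.Agent.Lib.Helper51.mem_GUSL_iff g).mp hg
  have hdet' : d0 * d1 * d2 = 1 := by
    rw [hgD, Matrix.det_fin_three] at hdet
    simp at hdet
    linear_combination hdet
  have hd26 : d2 ^ 6 = 1 := by
    have h := hiso ![0, 0, 1] ![0, 0, 1]
    rw [hgD] at h
    simp [Cfsg.Agent.Lib.Helper08.hform, Matrix.mulVec, dotProduct, Fin.sum_univ_three] at h
    linear_combination h
  -- conjugating `b`
  have hb : (bG : G3) ∈ R₀ := (hR₀ bG).mpr ⟨0, 0, 1, by simp [bG]⟩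
  have hx : g * bG * g⁻¹ ∈ R₀ := (Subgroup.mem_normalizer_iff.mp hn bG).mp hb
  obtain ⟨i, j, k, hijk⟩ := (hR₀ _).mp hx
  have hmul : (ω ^ i • (aM ω ^ j * bM ^ k)) * (g : M3) = (g : M3) * bM := by
    rw [← hijk, ← Units.val_mul, inv_mul_cancel_right, Units.val_mul]
    rfl
  obtain ⟨α, hα⟩ : ∃ α, α = ω ^ i := ⟨_, rfl⟩
  obtain ⟨β, hβ⟩ : ∃ β, β = ω ^ j := ⟨_, rfl⟩
  have hα3 : α ^ 3 = 1 := by rw [hα, ← pow_mul, mul_comm, pow_mul, hω3, one_pow]
  have hβ3 : β ^ 3 = 1 := by rw [hβ, ← pow_mul, mul_comm, pow_mul, hω3, one_pow]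
  have hd1ne : d1 ≠ 0 := by
    intro h
    rw [h] at hdet'
    simp at hdet'
  rw [aM_pow, ← hα, ← hβ, pow_eq_pow_mod k bM_pow_three, hgD] at hmul
  have hk3 : k % 3 < 3 := Nat.mod_lt _ (by norm_num)
  obtain ⟨m, hm⟩ : ∃ m, m = k % 3 := ⟨_, rfl⟩
  rw [← hm] at hmul hk3
  have f02 := congrFun (congrFun hmul 0) 2
  have f10 := congrFun (congrFun hmul 1) 0
  have f21 := congrFun (congrFun hmul 2) 1
  interval_cases m
  · -- `k ≡ 0`
    simp [bM, Matrix.mul_apply, Fin.sum_univ_three] at f10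
    exact absurd f10.symm hd1ne
  · -- `k ≡ 1`
    simp [bM, Matrix.mul_apply, Fin.sum_univ_three] at f02 f10 f21
    -- f02 : α * d2 = d0, f10 : α * β * d0 = d1, f21 : α * β^2 * d1 = d2
    have hβd : β * d2 ^ 3 = 1 := by
      have : d0 * d1 * d2 = α ^ 3 * (β * d2 ^ 3) := by
        rw [← f10, ← f02]
        ring
      rw [hdet', hα3, one_mul] at this
      exact this.symm
    have hβ2 : β ^ 2 = 1 := by
      have : (β * d2 ^ 3) ^ 2 = β ^ 2 * d2 ^ 6 := by ring
      rw [hβd, hd26, one_pow, mul_one] at this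
      exact this.symm
    have hβ1 : β = 1 := by linear_combination hβ3 - β * hβ2
    have hd23 : d2 ^ 3 = 1 := by rw [hβ1, one_mul] at hβd; exact hβd
    obtain ⟨c, hcdef⟩ : ∃ c, c = d2 * α := ⟨_, rfl⟩
    have hc3 : c ^ 3 = 1 := by rw [hcdef, mul_pow, hd23, hα3, one_mul]
    have hcroot : (c - 1) * ((c - ω) * (c - ω ^ 2)) = 0 := by
      linear_combination hc3 + (c - 1) * (-c) * hω + (c - 1) * hω3
    have hcm : ∃ m' : ℕ, c = ω ^ m' := by
      rcases mul_eq_zero.mp hcroot with h | h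
      · exact ⟨0, by rw [pow_zero]; exact sub_eq_zero.mp h⟩
      · rcases mul_eq_zero.mp h with h | h
        · exact ⟨1, by rw [pow_one]; exact sub_eq_zero.mp h⟩
        · exact ⟨2, sub_eq_zero.mp h⟩
    obtain ⟨m', hm'⟩ := hcm
    apply (hR₀ g).mpr
    refine ⟨m', i, 0, ?_⟩
    rw [hgD, aM_pow, ← hα, ← hm', pow_zero, mul_one, hcdef]
    have e0 : d0 = d2 * α := by rw [← f02]; ring
    have e1 : d1 = d2 * α * α := by rw [← f10, ← f02, hβ1]; ring
    have e2 : d2 = d2 * α * α ^ 2 := by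
      have : d2 * α * α ^ 2 = d2 * α ^ 3 := by ring
      rw [this, hα3, mul_one]
    simp only [Matrix.smul_of, Matrix.smul_cons, Matrix.smul_empty, smul_eq_mul, mul_one, mul_zero]
    have e1' : d0 * α = d1 := by rw [e1, e0]
    have e2' : d0 * α ^ 2 = d2 := by
      rw [e0]
      exact e2.symm
    rw [← e0, e1', e2']
  · -- `k ≡ 2`
    simp [bM, pow_two, Matrix.mul_apply, Fin.sum_univ_three] at f10
    exact absurd f10.symm hd1ne

end Cfsg.Agent.Lib.Helper23.SU3K
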