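import Cfsg.Agent.Lib.Helper43.SUPair1

/-!
# K-SU4-B: the stabiliser of a pair of totally isotropic planes is not maximal in `SU_4(q)`, `q = 2, 3`

Adapted hyperbolic frame `u1, u2 ∈ D 0`, `w1, w2 ∈ D 1`, coordinates `(a, b, c, d)`, and the set
`X` of vectors with `c = μ b^q`, `d = -μ a^q` for some `μ` of norm one.  The stabiliser of the pair
preserves `X`, so does a unitary transvection with centre `u1 - w2`, which does not stabilise the pair,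
and the transvection with centre `u1` does not preserve `X`.
-/

set_option autoImplicit false
set_option linter.unusedSectionVars false
set_option linter.unusedVariables false
set_option linter.unusedSimpArgs false

namespace Cfsg.Agent.Lib.Helper23.SU4

open Cfsg Cfsg.Geo Matrix Module
open Cfsg.Agent.Lib.Helper08 Cfsg.Agent.Lib.Helper51 Cfsg.Agent.Lib.Helper43.SUPair
open Cfsg.Agent.Lib.Helper19 (frobQ frobQ_apply frobQ_frobQ)
open scoped Matrix MatrixGroups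

section alg
variable {F : Type*} [Field F]

theorem core_fix (φ : F →+* F) (hφ : ∀ x, φ (φ x) = x)
    (hfix : ∀ x : F, x ≠ 0 → φ x = x → x * x = 1)
    (p r s t p' r' s' t' : F)
    (R1 : p * φ p' + r * φ r' = 1) (R2 : p * φ s' + r * φ t' = 0)
    (R3 : s * φ p' + t * φ r' = 0) (R4 : s * φ s' + t * φ t' = 1)
    (Rdet : (p * t - s * r) * (p' * t' - s' * r') = 1)
    (a b μ : F) (hμ : μ * φ μ = 1) :
    ∃ μ', μ' * φ μ' = 1 ∧
      p' * (μ * φ b) + s' * (-μ * φ a) = μ' * φ (r * a + t * b) ∧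
      r' * (μ * φ b) + t' * (-μ * φ a) = -μ' * φ (p * a + s * b) := by
  obtain ⟨δ, hδ⟩ : ∃ δ, δ = p * t - s * r := ⟨_, rfl⟩
  obtain ⟨δ', hδ'⟩ : ∃ δ', δ' = p' * t' - s' * r' := ⟨_, rfl⟩
  rw [← hδ, ← hδ'] at Rdet
  have E1 : δ * φ p' = t := by rw [hδ]; linear_combination t * R1 - r * R3
  have E2 : δ * φ r' = -s := by rw [hδ]; linear_combination p * R3 - s * R1
  have E3 : δ * φ s' = -r := by rw [hδ]; linear_combination t * R2 - r * R4
  have E4 : δ * φ t' = p := by rw [hδ]; linear_combination p * R4 - s * R2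
  have hδ0 : δ ≠ 0 := left_ne_zero_of_mul_eq_one Rdet
  have hφδ' : φ δ' = φ p' * φ t' - φ s' * φ r' := by
    rw [hδ']; simp only [map_sub, map_mul]
  have h1 : δ * φ δ' = 1 := by
    have : δ * (δ * φ δ') = δ * 1 := by
      rw [hφδ']
      linear_combination (δ * φ t') * E1 + t * E4 - (δ * φ r') * E3 + r * E2 - hδ
    exact mul_left_cancel₀ hδ0 this
  have h2 : φ δ' = δ' := by
    have : δ * φ δ' = δ * δ' := by rw [h1, Rdet]
    exact mul_left_cancel₀ hδ0 this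
  have h3 : φ δ = δ := by
    have h4 : φ δ * φ δ' = 1 := by rw [← map_mul, Rdet, map_one]
    rw [h2] at h4
    have hδ'0 : δ' ≠ 0 := right_ne_zero_of_mul_eq_one Rdet
    have : φ δ * δ' = δ * δ' := by rw [h4, Rdet]
    exact mul_right_cancel₀ hδ'0 this
  have h5 : δ * δ = 1 := hfix δ hδ0 h3
  have h6 : δ' = δ := by
    calc δ' = δ' * (δ * δ) := by rw [h5, mul_one]
      _ = (δ * δ') * δ := by ring
      _ = δ := by rw [Rdet, one_mul]
  -- conjugated relations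
  have F1 : δ * p' = φ t := by
    have := congrArg φ E1
    rw [map_mul, hφ, h3] at this
    exact this
  have F2 : δ * r' = -φ s := by
    have := congrArg φ E2
    rw [map_mul, hφ, h3, map_neg] at this
    exact this
  have F3 : δ * s' = -φ r := by
    have := congrArg φ E3
    rw [map_mul, hφ, h3, map_neg] at this
    exact this
  have F4 : δ * t' = φ p := by
    have := congrArg φ E4
    rw [map_mul, hφ, h3] at this
    exact this
  refine ⟨μ * δ, ?_, ?_, ?_⟩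
  · rw [map_mul, h3]
    linear_combination (δ * δ) * hμ + h5
  · simp only [map_add, map_mul]
    -- p' = δ * φ t, s' = - δ * φ r  (as δ * δ = 1)
    have G1 : p' = δ * φ t := by linear_combination δ * F1 - p' * h5
    have G3 : s' = -(δ * φ r) := by linear_combination δ * F3 - s' * h5
    rw [G1, G3]
    ring
  · simp only [map_add, map_mul]
    have G2 : r' = -(δ * φ s) := by linear_combination δ * F2 - r' * h5
    have G4 : t' = δ * φ p := by linear_combination δ * F4 - t' * h5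
    rw [G2, G4]
    ring

/-- the swap -/
theorem core_swap (φ : F →+* F) (hφ : ∀ x, φ (φ x) = x) (a b c d μ : F) (hμ : μ * φ μ = 1)
    (hc : c = μ * φ b) (hd : d = -μ * φ a) :
    (-μ) * φ (-μ) = 1 ∧ a = (-μ) * φ d ∧ b = -(-μ) * φ c := by
  refine ⟨?_, ?_, ?_⟩
  · rw [map_neg]; linear_combination hμ
  · rw [hd]; simp only [map_mul, map_neg, hφ]; linear_combination (-a) * hμ
  · rw [hc]; simp only [map_mul, hφ]; linear_combination (-b) * hμ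

end alg

section detfour
variable {F : Type*} [Field F]

theorem det_block_diag (M : Matrix (Fin 4) (Fin 4) F)
    (h02 : M 0 2 = 0) (h03 : M 0 3 = 0) (h12 : M 1 2 = 0) (h13 : M 1 3 = 0)
    (h20 : M 2 0 = 0) (h21 : M 2 1 = 0) (h30 : M 3 0 = 0) (h31 : M 3 1 = 0) :
    M.det = (M 0 0 * M 1 1 - M 0 1 * M 1 0) * (M 2 2 * M 3 3 - M 2 3 * M 3 2) := by
  rw [Matrix.det_succ_row_zero]
  simp [Fin.sum_univ_succ, Matrix.det_fin_three, Fin.succAbove, Matrix.submatrix, h02, h03, h12,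
    h13, h20, h21, h30, h31]
  ring

theorem det_block_anti (M : Matrix (Fin 4) (Fin 4) F)
    (h00 : M 0 0 = 0) (h01 : M 0 1 = 0) (h10 : M 1 0 = 0) (h11 : M 1 1 = 0)
    (h22 : M 2 2 = 0) (h23 : M 2 3 = 0) (h32 : M 3 2 = 0) (h33 : M 3 3 = 0) :
    M.det = (M 2 0 * M 3 1 - M 2 1 * M 3 0) * (M 0 2 * M 1 3 - M 0 3 * M 1 2) := by
  rw [Matrix.det_succ_row_zero]
  simp [Fin.sum_univ_succ, Matrix.det_fin_three, Fin.succAbove, Matrix.submatrix, h00, h01, h10,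
    h11, h22, h23, h32, h33]
  ring

end detfour

section
variable {F : Type*} [Field F] [Fintype F] {q : ℕ}

local notation "V4" => (Fin 4 → F)
local notation "hh" => hform (Fin 4) F q
local notation "GL4" => Matrix.GeneralLinearGroup (Fin 4) F

/-- a hyperbolic frame adapted to a pair of totally isotropic planes -/
structure Frame (q : ℕ) (D : Fin 2 → Submodule F (Fin 4 → F)) where
  u1 : Fin 4 → F
  u2 : Fin 4 → F
  w1 : Fin 4 → F
  w2 : Fin 4 → F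
  hu1 : u1 ∈ D 0
  hu2 : u2 ∈ D 0
  hw1 : w1 ∈ D 1
  hw2 : w2 ∈ D 1
  h11 : hform (Fin 4) F q w1 u1 = 1
  h12 : hform (Fin 4) F q w1 u2 = 0
  h21 : hform (Fin 4) F q w2 u1 = 0
  h22 : hform (Fin 4) F q w2 u2 = 1

variable {D : Fin 2 → Submodule F (Fin 4 → F)}

/-- the basis vectors -/
def Frame.bv (fr : Frame q D) : Fin 4 → (Fin 4 → F) := ![fr.u1, fr.u2, fr.w1, fr.w2]

/-- the dual vectors -/
def Frame.pv (fr : Frame q D) : Fin 4 → (Fin 4 → F) := ![fr.w1, fr.w2, fr.u1, fr.u2]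

/-- the coordinates -/
def Frame.cv (fr : Frame q D) (v : Fin 4 → F) : Fin 4 → F := fun i => hform (Fin 4) F q v (fr.pv i)

theorem Frame.cv_zero (fr : Frame q D) (v : V4) : fr.cv v 0 = hh v fr.w1 := rfl
theorem Frame.cv_one (fr : Frame q D) (v : V4) : fr.cv v 1 = hh v fr.w2 := rfl
theorem Frame.cv_two (fr : Frame q D) (v : V4) : fr.cv v 2 = hh v fr.u1 := rfl
theorem Frame.cv_three (fr : Frame q D) (v : V4) : fr.cv v 3 = hh v fr.u2 := rfl

theorem Frame.gram (hF : Fintype.card F = q ^ 2)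
    (hts : ∀ i, IsTotallySingularFor (hermForm 4 F q) (D i)) (fr : Frame q D) (i j : Fin 4) :
    hh (fr.bv j) (fr.pv i) = if i = j then 1 else 0 := by
  have t0 : ∀ a ∈ D 0, ∀ b ∈ D 0, hh a b = 0 := hts 0
  have t1 : ∀ a ∈ D 1, ∀ b ∈ D 1, hh a b = 0 := hts 1
  have s11 := hh_symm_one hF _ _ fr.h11
  have s12 := hh_symm_zero hF _ _ fr.h12
  have s21 := hh_symm_zero hF _ _ fr.h21
  have s22 := hh_symm_one hF _ _ fr.h22
  have a1 := t0 _ fr.hu1 _ fr.hu1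
  have a2 := t0 _ fr.hu1 _ fr.hu2
  have a3 := t0 _ fr.hu2 _ fr.hu1
  have a4 := t0 _ fr.hu2 _ fr.hu2
  have b1 := t1 _ fr.hw1 _ fr.hw1
  have b2 := t1 _ fr.hw1 _ fr.hw2
  have b3 := t1 _ fr.hw2 _ fr.hw1
  have b4 := t1 _ fr.hw2 _ fr.hw2
  fin_cases i <;> fin_cases j <;>
    simp [Frame.bv, Frame.pv, fr.h11, fr.h12, fr.h21, fr.h22, s11, s12, s21, s22, a1, a2, a3, a4,
      b1, b2, b3, b4]

/-- the matrix whose rows are the coordinate functionals -/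
def Frame.Phi (fr : Frame q D) : Matrix (Fin 4) (Fin 4) F := Matrix.of fun i j => fr.pv i j ^ q

/-- the matrix whose columns are the basis vectors -/
def Frame.Bas (fr : Frame q D) : Matrix (Fin 4) (Fin 4) F := Matrix.of fun i j => fr.bv j i

theorem Frame.Phi_mulVec (fr : Frame q D) (v : V4) : fr.Phi *ᵥ v = fr.cv v := by
  ext i
  simp only [Frame.Phi, Frame.cv, Matrix.mulVec, dotProduct, hform, Matrix.of_apply]
  apply Finset.sum_congr rfl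
  intro j _
  ring

theorem Frame.Phi_mul_Bas (hF : Fintype.card F = q ^ 2)
    (hts : ∀ i, IsTotallySingularFor (hermForm 4 F q) (D i)) (fr : Frame q D) :
    fr.Phi * fr.Bas = 1 := by
  ext i j
  rw [Matrix.mul_apply, Matrix.one_apply, ← fr.gram hF hts i j]
  simp only [Frame.Phi, Frame.Bas, hform, Matrix.of_apply]
  apply Finset.sum_congr rfl
  intro k _
  ring

theorem Frame.Bas_mul_Phi (hF : Fintype.card F = q ^ 2)
    (hts : ∀ i, IsTotallySingularFor (hermForm 4 F q) (D i)) (fr : Frame q D) :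
    fr.Bas * fr.Phi = 1 :=
  _root_.mul_eq_one_comm.mp (fr.Phi_mul_Bas hF hts)

theorem Frame.Bas_mulVec (fr : Frame q D) (x : V4) :
    fr.Bas *ᵥ x = x 0 • fr.u1 + x 1 • fr.u2 + x 2 • fr.w1 + x 3 • fr.w2 := by
  ext k
  simp [Frame.Bas, Frame.bv, Matrix.mulVec, dotProduct, Fin.sum_univ_four]
  ring

theorem Frame.Bas_single (fr : Frame q D) (j : Fin 4) : fr.Bas *ᵥ Pi.single j 1 = fr.bv j := by
  ext k
  simp [Frame.Bas]

theorem Frame.expansion (hF : Fintype.card F = q ^ 2)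
    (hts : ∀ i, IsTotallySingularFor (hermForm 4 F q) (D i)) (fr : Frame q D) (v : V4) :
    v = fr.cv v 0 • fr.u1 + fr.cv v 1 • fr.u2 + fr.cv v 2 • fr.w1 + fr.cv v 3 • fr.w2 := by
  have h := congrArg (fun M => M *ᵥ v) (fr.Bas_mul_Phi hF hts)
  simp only [Matrix.one_mulVec] at h
  rw [← Matrix.mulVec_mulVec, fr.Phi_mulVec, fr.Bas_mulVec] at h
  exact h.symm

theorem Frame.hh_left (hF : Fintype.card F = q ^ 2)
    (hts : ∀ i, IsTotallySingularFor (hermForm 4 F q) (D i)) (fr : Frame q D) (v z : V4) :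
    hh v z = fr.cv v 0 * hh fr.u1 z + fr.cv v 1 * hh fr.u2 z + fr.cv v 2 * hh fr.w1 z +
      fr.cv v 3 * hh fr.w2 z := by
  conv_lhs => rw [fr.expansion hF hts v]
  simp only [hform_add_left, hform_smul_left]

theorem Frame.hh_act_left (hF : Fintype.card F = q ^ 2)
    (hts : ∀ i, IsTotallySingularFor (hermForm 4 F q) (D i)) (fr : Frame q D)
    (g : Matrix (Fin 4) (Fin 4) F) (v z : V4) :
    hh (g *ᵥ v) z = fr.cv v 0 * hh (g *ᵥ fr.u1) z + fr.cv v 1 * hh (g *ᵥ fr.u2) z +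
      fr.cv v 2 * hh (g *ᵥ fr.w1) z + fr.cv v 3 * hh (g *ᵥ fr.w2) z := by
  conv_lhs => rw [fr.expansion hF hts v]
  simp only [Matrix.mulVec_add, Matrix.mulVec_smul, hform_add_left, hform_smul_left]

/-- the matrix of `g` in the adapted coordinates -/
def Frame.cm (fr : Frame q D) (g : Matrix (Fin 4) (Fin 4) F) : Matrix (Fin 4) (Fin 4) F :=
  fr.Phi * g * fr.Bas

theorem Frame.cm_apply (fr : Frame q D) (g : Matrix (Fin 4) (Fin 4) F) (i j : Fin 4) :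
    fr.cm g i j = fr.cv (g *ᵥ fr.bv j) i := by
  have h : fr.cm g i j = (fr.cm g *ᵥ Pi.single j 1) i := by simp
  rw [h, Frame.cm, ← Matrix.mulVec_mulVec, ← Matrix.mulVec_mulVec, fr.Bas_single, fr.Phi_mulVec]

theorem Frame.cm_det (hF : Fintype.card F = q ^ 2)
    (hts : ∀ i, IsTotallySingularFor (hermForm 4 F q) (D i)) (fr : Frame q D)
    (g : Matrix (Fin 4) (Fin 4) F) : (fr.cm g).det = g.det := by
  have h : fr.Phi.det * fr.Bas.det = 1 := by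
    rw [← Matrix.det_mul, fr.Phi_mul_Bas hF hts, Matrix.det_one]
  rw [Frame.cm, Matrix.det_mul, Matrix.det_mul]
  linear_combination g.det * h

theorem exists_frame (hF : Fintype.card F = q ^ 2) (D : Fin 2 → Submodule F (Fin 4 → F))
    (hD : IsMDecomposition 2 D)
    (hts : ∀ i, IsTotallySingularFor (hermForm 4 F q) (D i)) : Nonempty (Frame q D) := by
  have hp : UPair q (D 0) (D 1) := by
    apply UPair.of_disjoint_sup (hts 0) (hts 1)
    · exact hD.indep.pairwiseDisjoint (by decide)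
    · apply le_antisymm le_top
      rw [← hD.iSup_eq_top]
      apply iSup_le
      intro i
      fin_cases i
      · exact le_sup_left
      · exact le_sup_right
  have hfr0 : finrank F (D 0) = 2 := hD.finrank_eq 0
  -- a nonzero vector of `D 0`
  have hne : D 0 ≠ ⊥ := by
    intro h0
    rw [h0, finrank_bot] at hfr0
    omega
  obtain ⟨b1, hb1, hb10⟩ := Submodule.exists_mem_ne_zero_of_ne_bot hne
  -- a second vector outside its span
  have hb2 : ∃ b2 ∈ D 0, b2 ∉ Submodule.span F {b1} := by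
    by_contra hcon
    push Not at hcon
    have hle : D 0 ≤ Submodule.span F {b1} := hcon
    have h1 := Submodule.finrank_mono hle
    have h2 : finrank F (Submodule.span F {b1}) ≤ 1 := by
      have := finrank_span_le_card (R := F) ({b1} : Set (Fin 4 → F))
      simpa using this
    omega
  obtain ⟨b2, hb2, hb2n⟩ := hb2
  have hb1n : b1 ∉ Submodule.span F {b2} := by
    intro h
    obtain ⟨c, hc⟩ := Submodule.mem_span_singleton.1 h
    have hc0 : c ≠ 0 := by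
      rintro rfl
      rw [zero_smul] at hc
      exact hb10 hc.symm
    apply hb2n
    rw [Submodule.mem_span_singleton]
    exact ⟨c⁻¹, by rw [← hc, smul_smul, inv_mul_cancel₀ hc0, one_smul]⟩
  obtain ⟨y2, hy2, hy21, hy22⟩ := hp.exists_dual hF b1 b2 hb1 hb2 hb2n
  obtain ⟨y1, hy1, hy12, hy11⟩ := hp.exists_dual hF b2 b1 hb2 hb1 hb1n
  exact ⟨⟨b1, b2, y1, y2, hb1, hb2, hy1, hy2, hy11, hy12, hy21, hy22⟩⟩


/-- the invariant set, in coordinates -/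
def Frame.InX (fr : Frame q D) (v : Fin 4 → F) : Prop :=
  ∃ μ : F, μ * μ ^ q = 1 ∧ fr.cv v 2 = μ * fr.cv v 1 ^ q ∧ fr.cv v 3 = -μ * fr.cv v 0 ^ q

/-- the stabiliser of the invariant set -/
def Frame.stabX (fr : Frame q D) : Subgroup (Matrix.GeneralLinearGroup (Fin 4) F) where
  carrier := {g | ∀ v : Fin 4 → F, fr.InX (g.1 *ᵥ v) ↔ fr.InX v}
  one_mem' := by
    intro v
    simp
  mul_mem' := by
    intro a b ha hb v
    rw [gl_mul_act', ha, hb]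
  inv_mem' := by
    intro a ha v
    have := ha (a⁻¹.1 *ᵥ v)
    rw [gl_act_inv'] at this
    exact this.symm

theorem fix_sq (hq : q = 2 ∨ q = 3) (x : F) (hx : x ≠ 0) (h : x ^ q = x) : x * x = 1 := by
  rcases hq with rfl | rfl
  · have h2 : x * (x - 1) = 0 := by linear_combination h
    rcases mul_eq_zero.1 h2 with h0 | h1
    · exact absurd h0 hx
    · have h3 : x = 1 := by linear_combination h1
      rw [h3, mul_one]
  · have h2 : x * (x * x - 1) = 0 := by linear_combination h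
    rcases mul_eq_zero.1 h2 with h0 | h1
    · exact absurd h0 hx
    · linear_combination h1

/-- elements fixing both planes preserve the set -/
theorem Frame.fwd_fix (hF : Fintype.card F = q ^ 2) (hq : q = 2 ∨ q = 3)
    (hts : ∀ i, IsTotallySingularFor (hermForm 4 F q) (D i)) (fr : Frame q D)
    (g : Matrix (Fin 4) (Fin 4) F) (hiso : IsIsoMat q g) (hdet : g.det = 1)
    (h0 : ∀ u ∈ D 0, g *ᵥ u ∈ D 0) (h1 : ∀ u ∈ D 1, g *ᵥ u ∈ D 1) (v : V4) (hv : fr.InX v) :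
    fr.InX (g *ᵥ v) := by
  have t0 : ∀ a ∈ D 0, ∀ b ∈ D 0, hh a b = 0 := hts 0
  have t1 : ∀ a ∈ D 1, ∀ b ∈ D 1, hh a b = 0 := hts 1
  have hφ : ∀ x, frobQ hF x = x ^ q := frobQ_apply hF
  have z1 : hh (g *ᵥ fr.u1) fr.u1 = 0 := t0 _ (h0 _ fr.hu1) _ fr.hu1
  have z2 : hh (g *ᵥ fr.u1) fr.u2 = 0 := t0 _ (h0 _ fr.hu1) _ fr.hu2
  have z3 : hh (g *ᵥ fr.u2) fr.u1 = 0 := t0 _ (h0 _ fr.hu2) _ fr.hu1
  have z4 : hh (g *ᵥ fr.u2) fr.u2 = 0 := t0 _ (h0 _ fr.hu2) _ fr.hu2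
  have z5 : hh (g *ᵥ fr.w1) fr.w1 = 0 := t1 _ (h1 _ fr.hw1) _ fr.hw1
  have z6 : hh (g *ᵥ fr.w1) fr.w2 = 0 := t1 _ (h1 _ fr.hw1) _ fr.hw2
  have z7 : hh (g *ᵥ fr.w2) fr.w1 = 0 := t1 _ (h1 _ fr.hw2) _ fr.hw1
  have z8 : hh (g *ᵥ fr.w2) fr.w2 = 0 := t1 _ (h1 _ fr.hw2) _ fr.hw2
  have cj : ∀ x y : V4, hh x y = frobQ hF (hh y x) := fun x y => by rw [hφ, hform_conj hF]
  have s11 := hh_symm_one hF _ _ fr.h11
  have s12 := hh_symm_zero hF _ _ fr.h12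
  have s21 := hh_symm_zero hF _ _ fr.h21
  have s22 := hh_symm_one hF _ _ fr.h22
  have R1 : hh (g *ᵥ fr.u1) fr.w1 * frobQ hF (hh (g *ᵥ fr.w1) fr.u1) +
      hh (g *ᵥ fr.u1) fr.w2 * frobQ hF (hh (g *ᵥ fr.w1) fr.u2) = 1 := by
    have h := hiso fr.u1 fr.w1
    rw [fr.hh_left hF hts (g *ᵥ fr.u1) (g *ᵥ fr.w1), fr.cv_zero, fr.cv_one, fr.cv_two,
      fr.cv_three, z1, z2, zero_mul, zero_mul, add_zero, add_zero, cj fr.u1, cj fr.u2, s11] at h
    exact h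
  have R2 : hh (g *ᵥ fr.u1) fr.w1 * frobQ hF (hh (g *ᵥ fr.w2) fr.u1) +
      hh (g *ᵥ fr.u1) fr.w2 * frobQ hF (hh (g *ᵥ fr.w2) fr.u2) = 0 := by
    have h := hiso fr.u1 fr.w2
    rw [fr.hh_left hF hts (g *ᵥ fr.u1) (g *ᵥ fr.w2), fr.cv_zero, fr.cv_one, fr.cv_two,
      fr.cv_three, z1, z2, zero_mul, zero_mul, add_zero, add_zero, cj fr.u1, cj fr.u2, s21] at h
    exact h
  have R3 : hh (g *ᵥ fr.u2) fr.w1 * frobQ hF (hh (g *ᵥ fr.w1) fr.u1) +
      hh (g *ᵥ fr.u2) fr.w2 * frobQ hF (hh (g *ᵥ fr.w1) fr.u2) = 0 := by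
    have h := hiso fr.u2 fr.w1
    rw [fr.hh_left hF hts (g *ᵥ fr.u2) (g *ᵥ fr.w1), fr.cv_zero, fr.cv_one, fr.cv_two,
      fr.cv_three, z3, z4, zero_mul, zero_mul, add_zero, add_zero, cj fr.u1, cj fr.u2, s12] at h
    exact h
  have R4 : hh (g *ᵥ fr.u2) fr.w1 * frobQ hF (hh (g *ᵥ fr.w2) fr.u1) +
      hh (g *ᵥ fr.u2) fr.w2 * frobQ hF (hh (g *ᵥ fr.w2) fr.u2) = 1 := by
    have h := hiso fr.u2 fr.w2
    rw [fr.hh_left hF hts (g *ᵥ fr.u2) (g *ᵥ fr.w2), fr.cv_zero, fr.cv_one, fr.cv_two,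
      fr.cv_three, z3, z4, zero_mul, zero_mul, add_zero, add_zero, cj fr.u1, cj fr.u2, s22] at h
    exact h
  have Rdet : (hh (g *ᵥ fr.u1) fr.w1 * hh (g *ᵥ fr.u2) fr.w2 -
      hh (g *ᵥ fr.u2) fr.w1 * hh (g *ᵥ fr.u1) fr.w2) *
      (hh (g *ᵥ fr.w1) fr.u1 * hh (g *ᵥ fr.w2) fr.u2 -
      hh (g *ᵥ fr.w2) fr.u1 * hh (g *ᵥ fr.w1) fr.u2) = 1 := by
    have h := fr.cm_det hF hts g
    rw [hdet, det_block_diag (fr.cm g) (by rw [fr.cm_apply]; exact z5)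
      (by rw [fr.cm_apply]; exact z7) (by rw [fr.cm_apply]; exact z6)
      (by rw [fr.cm_apply]; exact z8) (by rw [fr.cm_apply]; exact z1)
      (by rw [fr.cm_apply]; exact z3) (by rw [fr.cm_apply]; exact z2)
      (by rw [fr.cm_apply]; exact z4)] at h
    simp only [fr.cm_apply] at h
    exact h
  obtain ⟨μ, hμ, hc, hd⟩ := hv
  have hfix : ∀ x : F, x ≠ 0 → frobQ hF x = x → x * x = 1 := fun x hx h =>
    fix_sq hq x hx (by rw [← hφ]; exact h)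
  obtain ⟨μ', hμ', e1, e2⟩ := core_fix (frobQ hF) (frobQ_frobQ hF) hfix _ _ _ _ _ _ _ _ R1 R2 R3 R4
    Rdet (fr.cv v 0) (fr.cv v 1) μ (by rw [hφ]; exact hμ)
  have A' : fr.cv (g *ᵥ v) 0 =
      hh (g *ᵥ fr.u1) fr.w1 * fr.cv v 0 + hh (g *ᵥ fr.u2) fr.w1 * fr.cv v 1 := by
    rw [fr.cv_zero, fr.hh_act_left hF hts g v fr.w1, z5, z7]
    ring
  have B' : fr.cv (g *ᵥ v) 1 =
      hh (g *ᵥ fr.u1) fr.w2 * fr.cv v 0 + hh (g *ᵥ fr.u2) fr.w2 * fr.cv v 1 := by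
    rw [fr.cv_one, fr.hh_act_left hF hts g v fr.w2, z6, z8]
    ring
  have C' : fr.cv (g *ᵥ v) 2 =
      hh (g *ᵥ fr.w1) fr.u1 * fr.cv v 2 + hh (g *ᵥ fr.w2) fr.u1 * fr.cv v 3 := by
    rw [fr.cv_two, fr.hh_act_left hF hts g v fr.u1, z1, z3]
    ring
  have D' : fr.cv (g *ᵥ v) 3 =
      hh (g *ᵥ fr.w1) fr.u2 * fr.cv v 2 + hh (g *ᵥ fr.w2) fr.u2 * fr.cv v 3 := by
    rw [fr.cv_three, fr.hh_act_left hF hts g v fr.u2, z2, z4]
    ring
  refine ⟨μ', by rw [← hφ]; exact hμ', ?_, ?_⟩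
  · rw [C', B', hc, hd, ← hφ, ← hφ, ← hφ]
    exact e1
  · rw [D', A', hc, hd, ← hφ, ← hφ, ← hφ]
    exact e2

/-- elements swapping the two planes preserve the set -/
theorem Frame.fwd_swap (hF : Fintype.card F = q ^ 2) (hq : q = 2 ∨ q = 3)
    (hts : ∀ i, IsTotallySingularFor (hermForm 4 F q) (D i)) (fr : Frame q D)
    (g : Matrix (Fin 4) (Fin 4) F) (hiso : IsIsoMat q g) (hdet : g.det = 1)
    (h0 : ∀ u ∈ D 0, g *ᵥ u ∈ D 1) (h1 : ∀ u ∈ D 1, g *ᵥ u ∈ D 0) (v : V4) (hv : fr.InX v) :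
    fr.InX (g *ᵥ v) := by
  have t0 : ∀ a ∈ D 0, ∀ b ∈ D 0, hh a b = 0 := hts 0
  have t1 : ∀ a ∈ D 1, ∀ b ∈ D 1, hh a b = 0 := hts 1
  have hφ : ∀ x, frobQ hF x = x ^ q := frobQ_apply hF
  have z1 : hh (g *ᵥ fr.u1) fr.w1 = 0 := t1 _ (h0 _ fr.hu1) _ fr.hw1
  have z2 : hh (g *ᵥ fr.u1) fr.w2 = 0 := t1 _ (h0 _ fr.hu1) _ fr.hw2
  have z3 : hh (g *ᵥ fr.u2) fr.w1 = 0 := t1 _ (h0 _ fr.hu2) _ fr.hw1
  have z4 : hh (g *ᵥ fr.u2) fr.w2 = 0 := t1 _ (h0 _ fr.hu2) _ fr.hw2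
  have z5 : hh (g *ᵥ fr.w1) fr.u1 = 0 := t0 _ (h1 _ fr.hw1) _ fr.hu1
  have z6 : hh (g *ᵥ fr.w1) fr.u2 = 0 := t0 _ (h1 _ fr.hw1) _ fr.hu2
  have z7 : hh (g *ᵥ fr.w2) fr.u1 = 0 := t0 _ (h1 _ fr.hw2) _ fr.hu1
  have z8 : hh (g *ᵥ fr.w2) fr.u2 = 0 := t0 _ (h1 _ fr.hw2) _ fr.hu2
  have cj : ∀ x y : V4, hh x y = frobQ hF (hh y x) := fun x y => by rw [hφ, hform_conj hF]
  have s11 := hh_symm_one hF _ _ fr.h11
  have s12 := hh_symm_zero hF _ _ fr.h12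
  have s21 := hh_symm_zero hF _ _ fr.h21
  have s22 := hh_symm_one hF _ _ fr.h22
  have R1 : hh (g *ᵥ fr.u1) fr.u1 * frobQ hF (hh (g *ᵥ fr.w1) fr.w1) +
      hh (g *ᵥ fr.u1) fr.u2 * frobQ hF (hh (g *ᵥ fr.w1) fr.w2) = 1 := by
    have h := hiso fr.u1 fr.w1
    rw [fr.hh_left hF hts (g *ᵥ fr.u1) (g *ᵥ fr.w1), fr.cv_zero, fr.cv_one, fr.cv_two,
      fr.cv_three, z1, z2, zero_mul, zero_mul, zero_add, zero_add, cj fr.w1 (g *ᵥ fr.w1),
      cj fr.w2 (g *ᵥ fr.w1), s11] at h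
    exact h
  have R2 : hh (g *ᵥ fr.u1) fr.u1 * frobQ hF (hh (g *ᵥ fr.w2) fr.w1) +
      hh (g *ᵥ fr.u1) fr.u2 * frobQ hF (hh (g *ᵥ fr.w2) fr.w2) = 0 := by
    have h := hiso fr.u1 fr.w2
    rw [fr.hh_left hF hts (g *ᵥ fr.u1) (g *ᵥ fr.w2), fr.cv_zero, fr.cv_one, fr.cv_two,
      fr.cv_three, z1, z2, zero_mul, zero_mul, zero_add, zero_add, cj fr.w1 (g *ᵥ fr.w2),
      cj fr.w2 (g *ᵥ fr.w2), s21] at h
    exact h
  have R3 : hh (g *ᵥ fr.u2) fr.u1 * frobQ hF (hh (g *ᵥ fr.w1) fr.w1) +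
      hh (g *ᵥ fr.u2) fr.u2 * frobQ hF (hh (g *ᵥ fr.w1) fr.w2) = 0 := by
    have h := hiso fr.u2 fr.w1
    rw [fr.hh_left hF hts (g *ᵥ fr.u2) (g *ᵥ fr.w1), fr.cv_zero, fr.cv_one, fr.cv_two,
      fr.cv_three, z3, z4, zero_mul, zero_mul, zero_add, zero_add, cj fr.w1 (g *ᵥ fr.w1),
      cj fr.w2 (g *ᵥ fr.w1), s12] at h
    exact h
  have R4 : hh (g *ᵥ fr.u2) fr.u1 * frobQ hF (hh (g *ᵥ fr.w2) fr.w1) +
      hh (g *ᵥ fr.u2) fr.u2 * frobQ hF (hh (g *ᵥ fr.w2) fr.w2) = 1 := by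
    have h := hiso fr.u2 fr.w2
    rw [fr.hh_left hF hts (g *ᵥ fr.u2) (g *ᵥ fr.w2), fr.cv_zero, fr.cv_one, fr.cv_two,
      fr.cv_three, z3, z4, zero_mul, zero_mul, zero_add, zero_add, cj fr.w1 (g *ᵥ fr.w2),
      cj fr.w2 (g *ᵥ fr.w2), s22] at h
    exact h
  have Rdet : (hh (g *ᵥ fr.u1) fr.u1 * hh (g *ᵥ fr.u2) fr.u2 -
      hh (g *ᵥ fr.u2) fr.u1 * hh (g *ᵥ fr.u1) fr.u2) *
      (hh (g *ᵥ fr.w1) fr.w1 * hh (g *ᵥ fr.w2) fr.w2 -
      hh (g *ᵥ fr.w2) fr.w1 * hh (g *ᵥ fr.w1) fr.w2) = 1 := by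
    have h := fr.cm_det hF hts g
    rw [hdet, det_block_anti (fr.cm g) (by rw [fr.cm_apply]; exact z1)
      (by rw [fr.cm_apply]; exact z3) (by rw [fr.cm_apply]; exact z2)
      (by rw [fr.cm_apply]; exact z4) (by rw [fr.cm_apply]; exact z5)
      (by rw [fr.cm_apply]; exact z7) (by rw [fr.cm_apply]; exact z6)
      (by rw [fr.cm_apply]; exact z8)] at h
    simp only [fr.cm_apply] at h
    exact h
  obtain ⟨μ, hμ, hc, hd⟩ := hv
  have hfix : ∀ x : F, x ≠ 0 → frobQ hF x = x → x * x = 1 := fun x hx h =>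
    fix_sq hq x hx (by rw [← hφ]; exact h)
  obtain ⟨μ', hμ', e1, e2⟩ := core_fix (frobQ hF) (frobQ_frobQ hF) hfix _ _ _ _ _ _ _ _ R1 R2 R3 R4
    Rdet (fr.cv v 0) (fr.cv v 1) μ (by rw [hφ]; exact hμ)
  have A' : fr.cv (g *ᵥ v) 0 =
      hh (g *ᵥ fr.w1) fr.w1 * fr.cv v 2 + hh (g *ᵥ fr.w2) fr.w1 * fr.cv v 3 := by
    rw [fr.cv_zero, fr.hh_act_left hF hts g v fr.w1, z1, z3]
    ring
  have B' : fr.cv (g *ᵥ v) 1 =
      hh (g *ᵥ fr.w1) fr.w2 * fr.cv v 2 + hh (g *ᵥ fr.w2) fr.w2 * fr.cv v 3 := by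
    rw [fr.cv_one, fr.hh_act_left hF hts g v fr.w2, z2, z4]
    ring
  have C' : fr.cv (g *ᵥ v) 2 =
      hh (g *ᵥ fr.u1) fr.u1 * fr.cv v 0 + hh (g *ᵥ fr.u2) fr.u1 * fr.cv v 1 := by
    rw [fr.cv_two, fr.hh_act_left hF hts g v fr.u1, z5, z7]
    ring
  have D' : fr.cv (g *ᵥ v) 3 =
      hh (g *ᵥ fr.u1) fr.u2 * fr.cv v 0 + hh (g *ᵥ fr.u2) fr.u2 * fr.cv v 1 := by
    rw [fr.cv_three, fr.hh_act_left hF hts g v fr.u2, z6, z8]
    ring
  have hA : fr.cv (g *ᵥ v) 0 = μ' * frobQ hF (fr.cv (g *ᵥ v) 3) := by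
    rw [A', D', hc, hd, ← hφ, ← hφ]
    exact e1
  have hB : fr.cv (g *ᵥ v) 1 = -μ' * frobQ hF (fr.cv (g *ᵥ v) 2) := by
    rw [B', C', hc, hd, ← hφ, ← hφ]
    exact e2
  obtain ⟨k1, k2, k3⟩ := core_swap (frobQ hF) (frobQ_frobQ hF) (fr.cv (g *ᵥ v) 2)
    (fr.cv (g *ᵥ v) 3) (fr.cv (g *ᵥ v) 0) (fr.cv (g *ᵥ v) 1) μ' hμ' hA hB
  refine ⟨-μ', by rw [← hφ]; exact k1, ?_, ?_⟩
  · rw [← hφ]
    exact k2
  · rw [← hφ]
    exact k3

/-- the stabiliser of the pair of planes inside `SU` preserves the set -/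
theorem Frame.stab_le (hF : Fintype.card F = q ^ 2) (hq : q = 2 ∨ q = 3)
    (hD : IsMDecomposition 2 D)
    (hts : ∀ i, IsTotallySingularFor (hermForm 4 F q) (D i)) (fr : Frame q D) :
    decompositionStabilizer D ⊓ (GU 4 F q ⊓ specialLinear (Fin 4) F) ≤ fr.stabX := by
  have hfr : finrank F (D 0) = finrank F (D 1) := by rw [hD.finrank_eq, hD.finrank_eq]
  have fwd : ∀ g : GL4, g ∈ decompositionStabilizer D ⊓ (GU 4 F q ⊓ specialLinear (Fin 4) F) →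
      ∀ v : V4, fr.InX v → fr.InX (g.1 *ᵥ v) := by
    intro g hg v hv
    obtain ⟨hiso, hdet⟩ := (mem_GUSL_iff g).1 hg.2
    rcases (Cfsg.Agent.Lib.Helper43.DecompTwo.mem_decompStab_two_iff D hfr g).1 hg.1 with
      ⟨h0, h1⟩ | ⟨h0, h1⟩
    · exact fr.fwd_fix hF hq hts g.1 hiso hdet h0 h1 v hv
    · exact fr.fwd_swap hF hq hts g.1 hiso hdet h0 h1 v hv
  intro g hg v
  constructor
  · intro h
    have h2 := fwd g⁻¹ (Subgroup.inv_mem _ hg) _ h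
    rwa [gl_inv_act'] at h2
  · exact fwd g hg v

theorem core_tv {K : Type*} [Field K] (φ : K →+* K) (hφ : ∀ x, φ (φ x) = x) (a b μ a₀ : K)
    (hμ : μ * φ μ = 1) (ha : a₀ + φ a₀ = 0) :
    (-μ * φ a) - a₀ * (μ * φ b - b) = -μ * φ (a + a₀ * (μ * φ b - b)) := by
  have h1 : φ a₀ = -a₀ := by linear_combination ha
  simp only [map_add, map_mul, map_sub, hφ, h1]
  linear_combination (-a₀ * b) * hμ

/-- the centre of the second transvection is isotropic -/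
theorem Frame.e_iso (hF : Fintype.card F = q ^ 2)
    (hts : ∀ i, IsTotallySingularFor (hermForm 4 F q) (D i)) (fr : Frame q D) :
    hh (fr.u1 - fr.w2) (fr.u1 - fr.w2) = 0 := by
  have t0 : ∀ a ∈ D 0, ∀ b ∈ D 0, hh a b = 0 := hts 0
  have t1 : ∀ a ∈ D 1, ∀ b ∈ D 1, hh a b = 0 := hts 1
  rw [hform_sub_left, hform_sub_right hF, hform_sub_right hF, t0 _ fr.hu1 _ fr.hu1,
    t1 _ fr.hw2 _ fr.hw2, fr.h21, hh_symm_zero hF _ _ fr.h21]
  ring

/-- coordinates of the image under the transvection with centre `u1 - w2` -/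
theorem Frame.tv_fwd (hF : Fintype.card F = q ^ 2)
    (hts : ∀ i, IsTotallySingularFor (hermForm 4 F q) (D i)) (fr : Frame q D) (a₀ : F)
    (ha : a₀ + a₀ ^ q = 0) (v : V4) (hv : fr.InX v) :
    fr.InX (v + (a₀ * hh v (fr.u1 - fr.w2)) • (fr.u1 - fr.w2)) := by
  have t0 : ∀ a ∈ D 0, ∀ b ∈ D 0, hh a b = 0 := hts 0
  have t1 : ∀ a ∈ D 1, ∀ b ∈ D 1, hh a b = 0 := hts 1
  have hφ : ∀ x, frobQ hF x = x ^ q := frobQ_apply hF
  have s11 := hh_symm_one hF _ _ fr.h11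
  have s12 := hh_symm_zero hF _ _ fr.h12
  have s21 := hh_symm_zero hF _ _ fr.h21
  have s22 := hh_symm_one hF _ _ fr.h22
  obtain ⟨μ, hμ, hc, hd⟩ := hv
  have hk : hh v (fr.u1 - fr.w2) = fr.cv v 2 - fr.cv v 1 := by
    rw [hform_sub_right hF, fr.cv_two, fr.cv_one]
  have A' : fr.cv (v + (a₀ * hh v (fr.u1 - fr.w2)) • (fr.u1 - fr.w2)) 0 =
      fr.cv v 0 + a₀ * (fr.cv v 2 - fr.cv v 1) := by
    rw [fr.cv_zero, hform_add_left, hform_smul_left, hform_sub_left, s11, t1 _ fr.hw2 _ fr.hw1, hk,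
      fr.cv_zero]
    ring
  have B' : fr.cv (v + (a₀ * hh v (fr.u1 - fr.w2)) • (fr.u1 - fr.w2)) 1 = fr.cv v 1 := by
    rw [fr.cv_one, hform_add_left, hform_smul_left, hform_sub_left, s21, t1 _ fr.hw2 _ fr.hw2,
      fr.cv_one]
    ring
  have C' : fr.cv (v + (a₀ * hh v (fr.u1 - fr.w2)) • (fr.u1 - fr.w2)) 2 = fr.cv v 2 := by
    rw [fr.cv_two, hform_add_left, hform_smul_left, hform_sub_left, t0 _ fr.hu1 _ fr.hu1, fr.h21,
      fr.cv_two]
    ring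
  have D' : fr.cv (v + (a₀ * hh v (fr.u1 - fr.w2)) • (fr.u1 - fr.w2)) 3 =
      fr.cv v 3 - a₀ * (fr.cv v 2 - fr.cv v 1) := by
    rw [fr.cv_three, hform_add_left, hform_smul_left, hform_sub_left, t0 _ fr.hu1 _ fr.hu2, fr.h22,
      hk, fr.cv_three]
    ring
  refine ⟨μ, hμ, ?_, ?_⟩
  · rw [C', B']
    exact hc
  · rw [D', A', hc, hd, ← hφ, ← hφ, ← hφ]
    exact core_tv (frobQ hF) (frobQ_frobQ hF) _ _ μ a₀ (by rw [hφ]; exact hμ) (by rw [hφ]; exact ha)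

/-- the transvection with centre `u1 - w2` preserves the set -/
theorem Frame.g0_mem_stabX (hF : Fintype.card F = q ^ 2)
    (hts : ∀ i, IsTotallySingularFor (hermForm 4 F q) (D i)) (fr : Frame q D) (a₀ : F)
    (ha : a₀ + a₀ ^ q = 0) : eg q (fr.u1 - fr.w2) 0 a₀ ∈ fr.stabX := by
  have he := fr.e_iso hF hts
  have hna : -a₀ + (-a₀) ^ q = 0 := by
    rw [Cfsg.Agent.Lib.Helper08.neg_pow_q hF]
    linear_combination -ha
  intro v
  rw [eg_zero_act hF _ a₀ he ha]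
  constructor
  · intro h
    have h2 := fr.tv_fwd hF hts (-a₀) hna _ h
    have h3 : v + (a₀ * hh v (fr.u1 - fr.w2)) • (fr.u1 - fr.w2) +
        (-a₀ * hh (v + (a₀ * hh v (fr.u1 - fr.w2)) • (fr.u1 - fr.w2)) (fr.u1 - fr.w2)) •
          (fr.u1 - fr.w2) = v := by
      rw [hform_add_left, hform_smul_left, he, mul_zero, add_zero, add_assoc, ← add_smul]
      have : a₀ * hh v (fr.u1 - fr.w2) + -a₀ * hh v (fr.u1 - fr.w2) = 0 := by ring
      rw [this, zero_smul, add_zero]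
    rwa [h3] at h2
  · exact fr.tv_fwd hF hts a₀ ha v

/-- the transvection with centre `u1 - w2` does not stabilise the pair of planes -/
theorem Frame.g0_not_mem (hF : Fintype.card F = q ^ 2) (hD : IsMDecomposition 2 D)
    (hts : ∀ i, IsTotallySingularFor (hermForm 4 F q) (D i)) (fr : Frame q D) (a₀ : F)
    (ha0 : a₀ ≠ 0) (ha : a₀ + a₀ ^ q = 0) :
    eg q (fr.u1 - fr.w2) 0 a₀ ∉ decompositionStabilizer D := by
  have t0 : ∀ a ∈ D 0, ∀ b ∈ D 0, hh a b = 0 := hts 0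
  have t1 : ∀ a ∈ D 1, ∀ b ∈ D 1, hh a b = 0 := hts 1
  have hfr : finrank F (D 0) = finrank F (D 1) := by rw [hD.finrank_eq, hD.finrank_eq]
  have he := fr.e_iso hF hts
  have s11 := hh_symm_one hF _ _ fr.h11
  have hk : hh fr.w1 (fr.u1 - fr.w2) = 1 := by
    rw [hform_sub_right hF, fr.h11, t1 _ fr.hw1 _ fr.hw2, sub_zero]
  have himg : (eg q (fr.u1 - fr.w2) 0 a₀).1 *ᵥ fr.w1 = fr.w1 + a₀ • (fr.u1 - fr.w2) := by
    rw [eg_zero_act hF _ a₀ he ha, hk, mul_one]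
  intro hmem
  rcases (Cfsg.Agent.Lib.Helper43.DecompTwo.mem_decompStab_two_iff D hfr _).1 hmem with
    ⟨_, h1⟩ | ⟨_, h1⟩
  · have h2 := t1 _ (h1 _ fr.hw1) _ fr.hw1
    rw [himg, hform_add_left, hform_smul_left, hform_sub_left, s11, t1 _ fr.hw1 _ fr.hw1,
      t1 _ fr.hw2 _ fr.hw1] at h2
    apply ha0
    linear_combination h2
  · have h2 := t0 _ (h1 _ fr.hw1) _ fr.hu1
    rw [himg, hform_add_left, hform_smul_left, hform_sub_left, fr.h11, t0 _ fr.hu1 _ fr.hu1,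
      fr.h21] at h2
    have : (1 : F) = 0 := by linear_combination h2
    exact one_ne_zero this

/-- the transvection with centre `u1` does not preserve the set -/
theorem Frame.g1_not_mem (hF : Fintype.card F = q ^ 2)
    (hts : ∀ i, IsTotallySingularFor (hermForm 4 F q) (D i)) (fr : Frame q D) (a₀ : F)
    (ha0 : a₀ ≠ 0) (ha : a₀ + a₀ ^ q = 0) : eg q fr.u1 0 a₀ ∉ fr.stabX := by
  have t0 : ∀ a ∈ D 0, ∀ b ∈ D 0, hh a b = 0 := hts 0
  have t1 : ∀ a ∈ D 1, ∀ b ∈ D 1, hh a b = 0 := hts 1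
  have hq0 : q ≠ 0 := q_ne_zero' hF
  have s11 := hh_symm_one hF _ _ fr.h11
  have s12 := hh_symm_zero hF _ _ fr.h12
  have s21 := hh_symm_zero hF _ _ fr.h21
  have s22 := hh_symm_one hF _ _ fr.h22
  have hu : hh fr.u1 fr.u1 = 0 := t0 _ fr.hu1 _ fr.hu1
  intro hmem
  have hX : fr.InX (fr.u2 + fr.w1) := by
    refine ⟨1, by rw [one_pow, mul_one], ?_, ?_⟩
    · rw [fr.cv_two, fr.cv_one, hform_add_left, hform_add_left, t0 _ fr.hu2 _ fr.hu1, fr.h11, s22,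
        t1 _ fr.hw1 _ fr.hw2, add_zero, one_pow, zero_add, mul_one]
    · rw [fr.cv_three, fr.cv_zero, hform_add_left, hform_add_left, t0 _ fr.hu2 _ fr.hu2, fr.h12,
        s12, t1 _ fr.hw1 _ fr.hw1, add_zero, zero_pow hq0, mul_zero]
  obtain ⟨μ, _, hc, hd⟩ := (hmem (fr.u2 + fr.w1)).2 hX
  have hk : hh (fr.u2 + fr.w1) fr.u1 = 1 := by
    rw [hform_add_left, t0 _ fr.hu2 _ fr.hu1, fr.h11, zero_add]
  rw [eg_zero_act hF _ a₀ hu ha, hk, mul_one] at hc hd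
  simp only [fr.cv_two, fr.cv_one, hform_add_left, hform_smul_left, t0 _ fr.hu2 _ fr.hu1, fr.h11,
    s22, t1 _ fr.hw1 _ fr.hw2, hu, s21, mul_zero, add_zero, zero_add, one_pow, mul_one] at hc
  simp only [fr.cv_three, fr.cv_zero, hform_add_left, hform_smul_left, t0 _ fr.hu2 _ fr.hu2, fr.h12,
    s12, t1 _ fr.hw1 _ fr.hw1, t0 _ fr.hu1 _ fr.hu2, s11, mul_zero, mul_one, add_zero, zero_add,
    ← hc] at hd
  have h3 : a₀ ^ q = 0 := by linear_combination hd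
  exact ha0 (pow_eq_zero_iff hq0 |>.1 h3)

/-- K-SU4-B: for `q = 2, 3` the stabiliser of a pair of complementary totally isotropic planes is not
maximal in `SU_4(q)` -/
theorem not_isMaximalIn_isotropicPair_of_le_three (hF : Fintype.card F = q ^ 2) (hq : q = 2 ∨ q = 3)
    (D : Fin 2 → Submodule F (Fin 4 → F)) (hD : IsMDecomposition 2 D)
    (hts : ∀ i, IsTotallySingularFor (hermForm 4 F q) (D i)) :
    ¬ IsMaximalIn (GU 4 F q ⊓ specialLinear (Fin 4) F)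
        (decompositionStabilizer D ⊓ (GU 4 F q ⊓ specialLinear (Fin 4) F)) := by
  obtain ⟨fr⟩ := exists_frame hF D hD hts
  obtain ⟨a₀, ha0, ha⟩ := exists_skew_ne_zero hF (F := F)
  have t0 : ∀ a ∈ D 0, ∀ b ∈ D 0, hh a b = 0 := hts 0
  have hzr : ∀ x : V4, hh x 0 = 0 := hform_zero_right'' hF
  have hα : a₀ + a₀ ^ q + hh (0 : V4) 0 = 0 := by rw [hform_zero_left, add_zero]; exact ha
  rintro ⟨_, hmax⟩
  rcases hmax (fr.stabX ⊓ (GU 4 F q ⊓ specialLinear (Fin 4) F))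
    (le_inf (fr.stab_le hF hq hD hts) inf_le_right) inf_le_right with h | h
  · have hm : eg q (fr.u1 - fr.w2) 0 a₀ ∈ fr.stabX ⊓ (GU 4 F q ⊓ specialLinear (Fin 4) F) :=
      ⟨fr.g0_mem_stabX hF hts a₀ ha, eg_mem hF _ 0 a₀ (fr.e_iso hF hts) (hzr _) hα⟩
    rw [h] at hm
    exact fr.g0_not_mem hF hD hts a₀ ha0 ha hm.1
  · have hm : eg q fr.u1 0 a₀ ∈ fr.stabX ⊓ (GU 4 F q ⊓ specialLinear (Fin 4) F) := by
      rw [h]
      exact eg_mem hF _ 0 a₀ (t0 _ fr.hu1 _ fr.hu1) (hzr _) hα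
    exact fr.g1_not_mem hF hts a₀ ha0 ha hm.1

end

end Cfsg.Agent.Lib.Helper23.SU4
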