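import Mathlib
import Cfsg.Prelude.Def_GeometricClasses
import Cfsg.Agent.Lib.Helper19.Unitary

/-!
# K-SUMax-D6c (keystone 581113): a group of similarities of the Hermitian form of exponent prime to
`q - 1` consists of isometries.
-/

set_option autoImplicit false

namespace Cfsg.Agent.Lib.Helper23.SUMax

open Cfsg Cfsg.Geo
open scoped Matrix Kronecker MatrixGroups

variable {F : Type*} [Field F] [Fintype F] {n q : ℕ}

omit [Fintype F] in
theorem hermForm_single_single (i : Fin n) :
    hermForm n F q (Pi.single i 1) (Pi.single i 1) = 1 := by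
  unfold hermForm
  rw [Finset.sum_eq_single i]
  · simp
  · intro j _ hj
    rw [Pi.single_eq_of_ne hj, zero_mul]
  · intro h; exact absurd (Finset.mem_univ i) h

omit [Fintype F] in
theorem sim_pow {g : GL (Fin n) F} {c : F}
    (hc : ∀ u v, hermForm n F q ((g : Matrix (Fin n) (Fin n) F) *ᵥ u)
      ((g : Matrix (Fin n) (Fin n) F) *ᵥ v) = c * hermForm n F q u v) (k : ℕ) :
    ∀ u v, hermForm n F q (((g ^ k : GL (Fin n) F) : Matrix (Fin n) (Fin n) F) *ᵥ u)
      (((g ^ k : GL (Fin n) F) : Matrix (Fin n) (Fin n) F) *ᵥ v) = c ^ k * hermForm n F q u v := by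
  induction k with
  | zero => intro u v; simp
  | succ k ih =>
    intro u v
    rw [pow_succ', Units.val_mul, ← Matrix.mulVec_mulVec, ← Matrix.mulVec_mulVec, hc, ih, pow_succ']
    ring

/-- K-SUMax-D6c. -/
theorem le_GU_of_pow_eq_one (hF : Fintype.card F = q ^ 2) (hn : 1 ≤ n) {r : ℕ} (R : Subgroup (GL (Fin n) F))
    (hsim : R ≤ similarityGroup (hermForm n F q)) (hexp : ∀ g ∈ R, g ^ r = 1) (hcop : Nat.Coprime r (q - 1)) :
    R ≤ GU n F q := by
  intro g hg
  obtain ⟨c, hc⟩ := hsim hg
  have hq : 0 < q := Cfsg.Agent.Lib.Helper19.q_pos hF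
  set i0 : Fin n := ⟨0, hn⟩
  -- `c ^ q = c`
  have h1 : (c : F) = hermForm n F q ((g : Matrix (Fin n) (Fin n) F) *ᵥ Pi.single i0 1)
      ((g : Matrix (Fin n) (Fin n) F) *ᵥ Pi.single i0 1) := by
    rw [hc, hermForm_single_single, mul_one]
  have h2 : (c : F) ^ q = c := by
    rw [h1, Cfsg.Agent.Lib.Helper19.hermForm_conj hF]
  have h3 : c ^ (q - 1) = 1 := by
    apply Units.ext
    rw [Units.val_pow_eq_pow_val, Units.val_one]
    have : (c : F) ^ (q - 1) * c = 1 * c := by
      rw [← pow_succ, Nat.sub_add_cancel hq, h2, one_mul]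
    exact mul_right_cancel₀ c.ne_zero this
  have h4 : c ^ r = 1 := by
    apply Units.ext
    rw [Units.val_pow_eq_pow_val, Units.val_one]
    have := sim_pow hc r (Pi.single i0 1) (Pi.single i0 1)
    rw [hexp g hg, Units.val_one, Matrix.one_mulVec, hermForm_single_single, mul_one] at this
    exact this.symm
  have h5 : c = 1 := by
    have := pow_gcd_eq_one.mpr ⟨h4, h3⟩
    rwa [Nat.Coprime.gcd_eq_one hcop, pow_one] at this
  intro u v
  have := hc u v
  rw [h5, Units.val_one, one_mul] at this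
  exact this

end Cfsg.Agent.Lib.Helper23.SUMax
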