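import Cfsg.Agent.Lib.Helper07.SchurRed

/-!
Keystone K-S2038-T (architect helper95): a finite stem extension of a group whose Sylow 3-subgroup is
`3^{1+2}`, inverted modulo its centre by an element centralising the centre, has no element of order 3
in its kernel.
-/

set_option autoImplicit false

namespace Cfsg.Agent.Lib.Helper23.SchurTwo

open scoped commutatorElement

section general
variable {Γ : Type*} [Group Γ]

theorem conj_pow_eq (x t b : Γ) (hbx : x * b = b * x) (h1 : x * t * x⁻¹ = b * t) (n : ℕ) :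
    x ^ n * t * (x ^ n)⁻¹ = b ^ n * t := by
  induction n with
  | zero => simp
  | succ n ih =>
    have hc : Commute x (b ^ n) := (show Commute x b from hbx).pow_right n
    calc x ^ (n + 1) * t * (x ^ (n + 1))⁻¹
        = x * (x ^ n * t * (x ^ n)⁻¹) * x⁻¹ := by rw [pow_succ']; group
      _ = x * (b ^ n * t) * x⁻¹ := by rw [ih]
      _ = (x * b ^ n) * t * x⁻¹ := by group
      _ = (b ^ n * x) * t * x⁻¹ := by rw [hc.eq]
      _ = b ^ n * (x * t * x⁻¹) := by group
      _ = b ^ n * (b * t) := by rw [h1]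
      _ = b ^ (n + 1) * t := by rw [pow_succ]; group

theorem conj_central {k : Γ} (hk : ∀ a : Γ, a * k = k * a) (a : Γ) : a * k * a⁻¹ = k := by
  rw [hk a, mul_inv_cancel_right]

/-- the key computation: the central defect `b` of the commutation of `x` and `t` is trivial -/
theorem defect_eq_one (x t g b c d : Γ) (i : ℕ)
    (hb : ∀ a : Γ, a * b = b * a) (hc : ∀ a : Γ, a * c = c * a) (hd : ∀ a : Γ, a * d = d * a)
    (h1 : x * t * x⁻¹ = b * t) (h2 : g * t * g⁻¹ = c * t)
    (h3 : g * x * g⁻¹ = d * (x⁻¹ * t ^ i)) (h4 : ∀ a : Γ, a * x ^ 3 = x ^ 3 * a) : b = 1 := by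
  -- b ^ 3 = 1
  have hA : b ^ 3 = 1 := by
    have h5 := conj_pow_eq x t b (hb x) h1 3
    have h6 : x ^ 3 * t * (x ^ 3)⁻¹ = t := by
      rw [← h4 t, mul_inv_cancel_right]
    rw [h6] at h5
    exact (mul_eq_right.mp h5.symm)
  -- x⁻¹ t x = b⁻¹ t
  have hB : x⁻¹ * t * x = b⁻¹ * t := by
    have e1 : x⁻¹ * b⁻¹ * x = b⁻¹ := by
      have := conj_central (k := b⁻¹) (fun a => by
        have h := hb a
        calc a * b⁻¹ = b⁻¹ * (b * a) * b⁻¹ := by group
          _ = b⁻¹ * (a * b) * b⁻¹ := by rw [h]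
          _ = b⁻¹ * a := by group) x⁻¹
      simpa using this
    calc x⁻¹ * t * x = x⁻¹ * (b⁻¹ * (b * t)) * x := by group
      _ = x⁻¹ * (b⁻¹ * (x * t * x⁻¹)) * x := by rw [h1]
      _ = (x⁻¹ * b⁻¹ * x) * t := by group
      _ = b⁻¹ * t := by rw [e1]
  -- x⁻¹ t x = b t, by conjugating with g
  have hC : x⁻¹ * t * x = b * t := by
    have e1 : g * (x * t * x⁻¹) * g⁻¹ = (g * x * g⁻¹) * (g * t * g⁻¹) * (g * x * g⁻¹)⁻¹ := by
      group
    rw [h1, h2, h3] at e1
    -- left: g (b t) g⁻¹ = b c t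
    have e2 : g * (b * t) * g⁻¹ = b * (c * t) := by
      calc g * (b * t) * g⁻¹ = (g * b) * (g⁻¹ * (g * t * g⁻¹) * g) * g⁻¹ := by group
        _ = (b * g) * (g⁻¹ * (g * t * g⁻¹) * g) * g⁻¹ := by rw [hb g]
        _ = b * (g * t * g⁻¹) := by group
        _ = b * (c * t) := by rw [h2]
    -- right: d w (c t) (d w)⁻¹ = c (x⁻¹ t x)
    have e3 : d * (x⁻¹ * t ^ i) * (c * t) * (d * (x⁻¹ * t ^ i))⁻¹ = c * (x⁻¹ * t * x) := by
      have hw : ∀ w : Γ, d * w * (c * t) * (d * w)⁻¹ = c * (w * t * w⁻¹) := by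
        intro w
        calc d * w * (c * t) * (d * w)⁻¹ = d * ((w * c) * t * w⁻¹) * d⁻¹ := by group
          _ = d * ((c * w) * t * w⁻¹) * d⁻¹ := by rw [hc w]
          _ = (d * (c * (w * t * w⁻¹))) * d⁻¹ := by group
          _ = ((c * (w * t * w⁻¹)) * d) * d⁻¹ := by rw [hd (c * (w * t * w⁻¹))]
          _ = c * (w * t * w⁻¹) := by group
      rw [hw]
      congr 1
      group
    rw [e2, e3] at e1
    -- b c t = c (x⁻¹ t x)
    have e4 : c * (b * t) = c * (x⁻¹ * t * x) := by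
      rw [← e1, ← mul_assoc, ← mul_assoc, hc b]
    exact (mul_left_cancel e4).symm
  have hD : b = b⁻¹ := by
    have := hC.symm.trans hB
    exact mul_right_cancel this
  have hE : b ^ 2 = 1 := by
    rw [pow_two]
    nth_rw 1 [hD]
    exact inv_mul_cancel b
  calc b = b ^ 3 * (b ^ 2)⁻¹ := by group
    _ = 1 := by rw [hA, hE]; simp

/-- commutators of elements of the closure of a set whose pairwise commutators lie in a subgroup
commuting with the set lie in that subgroup -/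
theorem commutator_mem_of_closure (S₀ : Set Γ) (N : Subgroup Γ)
    (hN : ∀ n ∈ N, ∀ s ∈ S₀, n * s = s * n)
    (hS : ∀ a ∈ S₀, ∀ b ∈ S₀, ⁅a, b⁆ ∈ N) :
    ∀ a ∈ Subgroup.closure S₀, ∀ b ∈ Subgroup.closure S₀, ⁅a, b⁆ ∈ N := by
  have hNc : ∀ n ∈ N, ∀ a ∈ Subgroup.closure S₀, a * n * a⁻¹ = n := by
    intro n hn a ha
    have hle : Subgroup.closure S₀ ≤ Subgroup.centralizer {n} := by
      rw [Subgroup.closure_le]
      intro s hs
      rw [SetLike.mem_coe, Subgroup.mem_centralizer_iff]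
      intro m hm
      rw [Set.mem_singleton_iff] at hm
      rw [hm]
      exact hN n hn s hs
    have h1 := hle ha
    rw [Subgroup.mem_centralizer_iff] at h1
    have h2 := h1 n rfl
    rw [← h2, mul_inv_cancel_right]
  intro a ha b hb
  refine Subgroup.closure_induction₂ (p := fun a b _ _ => ⁅a, b⁆ ∈ N)
    (fun x y hx hy => hS x hx y hy) ?_ ?_ ?_ ?_ ?_ ?_ ha hb
  · intro x _
    rw [commutatorElement_one_left]; exact N.one_mem
  · intro x _
    rw [commutatorElement_one_right]; exact N.one_mem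
  · intro x y z hx _ _ h1 h2
    have e : ⁅x * y, z⁆ = (x * ⁅y, z⁆ * x⁻¹) * ⁅x, z⁆ := by
      simp only [commutatorElement_def]; group
    rw [e, hNc _ h2 x hx]
    exact N.mul_mem h2 h1
  · intro y z x hy _ _ h1 h2
    have e : ⁅x, y * z⁆ = ⁅x, y⁆ * (y * ⁅x, z⁆ * y⁻¹) := by
      simp only [commutatorElement_def]; group
    rw [e, hNc _ h2 y hy]
    exact N.mul_mem h1 h2
  · intro x y hx _ h1
    have e : ⁅x⁻¹, y⁆ = x⁻¹ * ⁅x, y⁆⁻¹ * x⁻¹⁻¹ := by
      simp only [commutatorElement_def]; group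
    rw [e, hNc _ (N.inv_mem h1) x⁻¹ (Subgroup.inv_mem _ hx)]
    exact N.inv_mem h1
  · intro x y _ hy h1
    have e : ⁅x, y⁻¹⁆ = y⁻¹ * ⁅x, y⁆⁻¹ * y⁻¹⁻¹ := by
      simp only [commutatorElement_def]; group
    rw [e, hNc _ (N.inv_mem h1) y⁻¹ (Subgroup.inv_mem _ hy)]
    exact N.inv_mem h1

end general

/-- K-S2038-T. -/
theorem no_order_three_of_extraspecial {G Γ : Type*} [Group G] [Group Γ] [Finite Γ] (σ : Γ →* G)
    (hσ : Cfsg.IsStemExtension σ)
    (x y g : G) (hx3 : x ^ 3 = 1) (hy3 : y ^ 3 = 1)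
    (ht1 : x * y * x⁻¹ * y⁻¹ ≠ 1)
    (htx : (x * y * x⁻¹ * y⁻¹) * x = x * (x * y * x⁻¹ * y⁻¹))
    (hty : (x * y * x⁻¹ * y⁻¹) * y = y * (x * y * x⁻¹ * y⁻¹))
    (hgt : g * (x * y * x⁻¹ * y⁻¹) = (x * y * x⁻¹ * y⁻¹) * g)
    (hgx : ∃ i : ℕ, g * x * g⁻¹ = x⁻¹ * (x * y * x⁻¹ * y⁻¹) ^ i)
    (hgy : ∃ j : ℕ, g * y * g⁻¹ = y⁻¹ * (x * y * x⁻¹ * y⁻¹) ^ j)
    (hidx : ¬ 3 ∣ (Subgroup.closure {x, y}).index)
    (z : Γ) (hz : z ∈ σ.ker) (hz3 : orderOf z = 3) : False := by
  classical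
  obtain ⟨hsurj, hcen, hcomm⟩ := hσ
  obtain ⟨x', rfl⟩ := hsurj x
  obtain ⟨y', rfl⟩ := hsurj y
  obtain ⟨g', rfl⟩ := hsurj g
  obtain ⟨i, hgx⟩ := hgx
  obtain ⟨j, hgy⟩ := hgy
  -- central elements
  have hker : ∀ k : Γ, σ k = 1 → ∀ a : Γ, a * k = k * a := by
    intro k hk a
    have := hcen (MonoidHom.mem_ker.mpr hk)
    rw [Subgroup.mem_center_iff] at this
    exact this a
  set t' : Γ := x' * y' * x'⁻¹ * y'⁻¹ with ht'
  have hσt : σ t' = σ x' * σ y' * (σ x')⁻¹ * (σ y')⁻¹ := by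
    rw [ht']; simp only [map_mul, map_inv]
  set t : G := σ x' * σ y' * (σ x')⁻¹ * (σ y')⁻¹ with ht
  -- t ^ 3 = 1
  have ht3 : t ^ 3 = 1 := by
    have h1 : σ x' * σ y' * (σ x')⁻¹ = t * σ y' := by rw [ht]; group
    have h2 := conj_pow_eq (σ x') (σ y') t htx.symm h1 3
    rw [hx3] at h2
    simp only [one_mul, inv_one, mul_one] at h2
    exact (mul_eq_right.mp h2.symm)
  have hto : orderOf t = 3 := orderOf_eq_prime ht3 ht1
  -- the defects
  have hbx : x' * t' * x'⁻¹ = t' := by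
    have hb1 : σ (x' * t' * x'⁻¹ * t'⁻¹) = 1 := by
      simp only [map_mul, map_inv, hσt]
      rw [← htx]; group
    have hc1 : σ (g' * t' * g'⁻¹ * t'⁻¹) = 1 := by
      simp only [map_mul, map_inv, hσt]
      rw [hgt]; group
    have hd1 : σ (g' * x' * g'⁻¹ * (x'⁻¹ * t' ^ i)⁻¹) = 1 := by
      simp only [map_mul, map_inv, map_pow, hσt]
      rw [hgx]; group
    have hx4 : σ (x' ^ 3) = 1 := by rw [map_pow, hx3]
    have := defect_eq_one x' t' g' (x' * t' * x'⁻¹ * t'⁻¹) (g' * t' * g'⁻¹ * t'⁻¹)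
      (g' * x' * g'⁻¹ * (x'⁻¹ * t' ^ i)⁻¹) i (hker _ hb1) (hker _ hc1) (hker _ hd1)
      (by group) (by group) (by group) (hker _ hx4)
    calc x' * t' * x'⁻¹ = (x' * t' * x'⁻¹ * t'⁻¹) * t' := by group
      _ = t' := by rw [this, one_mul]
  have hby : y' * t' * y'⁻¹ = t' := by
    have hb1 : σ (y' * t' * y'⁻¹ * t'⁻¹) = 1 := by
      simp only [map_mul, map_inv, hσt]
      rw [← hty]; group
    have hc1 : σ (g' * t' * g'⁻¹ * t'⁻¹) = 1 := by
      simp only [map_mul, map_inv, hσt]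
      rw [hgt]; group
    have hd1 : σ (g' * y' * g'⁻¹ * (y'⁻¹ * t' ^ j)⁻¹) = 1 := by
      simp only [map_mul, map_inv, map_pow, hσt]
      rw [hgy]; group
    have hy4 : σ (y' ^ 3) = 1 := by rw [map_pow, hy3]
    have := defect_eq_one y' t' g' (y' * t' * y'⁻¹ * t'⁻¹) (g' * t' * g'⁻¹ * t'⁻¹)
      (g' * y' * g'⁻¹ * (y'⁻¹ * t' ^ j)⁻¹) j (hker _ hb1) (hker _ hc1) (hker _ hd1)
      (by group) (by group) (by group) (hker _ hy4)
    calc y' * t' * y'⁻¹ = (y' * t' * y'⁻¹ * t'⁻¹) * t' := by group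
      _ = t' := by rw [this, one_mul]
  have hcx : Commute t' x' := by
    show t' * x' = x' * t'
    calc t' * x' = (x' * t' * x'⁻¹) * x' := by rw [hbx]
      _ = x' * t' := by group
  have hcy : Commute t' y' := by
    show t' * y' = y' * t'
    calc t' * y' = (y' * t' * y'⁻¹) * y' := by rw [hby]
      _ = y' * t' := by group
  -- t' ^ 3 = 1
  have ht'3 : t' ^ 3 = 1 := by
    have h1 : x' * y' * x'⁻¹ = t' * y' := by rw [ht']; group
    have h2 := conj_pow_eq x' y' t' hcx.eq.symm h1 3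
    have hx4 : σ (x' ^ 3) = 1 := by rw [map_pow, hx3]
    have h3 : x' ^ 3 * y' * (x' ^ 3)⁻¹ = y' := by
      rw [← hker _ hx4 y', mul_inv_cancel_right]
    rw [h3] at h2
    exact (mul_eq_right.mp h2.symm)
  -- the subgroup M
  set U : Subgroup G := Subgroup.closure {σ x', σ y'} with hU
  have hzM : z ∈ U.comap σ := by
    rw [Subgroup.mem_comap, MonoidHom.mem_ker.mp hz]; exact U.one_mem
  have hidx' : (U.comap σ).index = U.index := Subgroup.index_comap_of_surjective U hsurj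
  have hcop : ((U.comap σ).index).Coprime (orderOf z) := by
    rw [hidx', hz3, Nat.coprime_comm, Nat.Prime.coprime_iff_not_dvd Nat.prime_three]
    exact hidx
  have h1 := Cfsg.Agent.Lib.Helper07.mem_commutator_of_center_of_coprime_index (U.comap σ) z
    (hcen hz) (hcomm hz) hzM hcop
  -- generation of M
  set S₀ : Set Γ := {x', y'} ∪ (σ.ker : Set Γ) with hS₀
  have hMle : U.comap σ ≤ Subgroup.closure S₀ := by
    intro a ha
    rw [Subgroup.mem_comap] at ha
    have hmap : U = (Subgroup.closure {x', y'}).map σ := by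
      rw [MonoidHom.map_closure, Set.image_pair]
    rw [hmap] at ha
    obtain ⟨w, hw, hwa⟩ := ha
    have hk : w⁻¹ * a ∈ σ.ker := by
      rw [MonoidHom.mem_ker, map_mul, map_inv, hwa, inv_mul_cancel]
    have hw' : w ∈ Subgroup.closure S₀ :=
      Subgroup.closure_mono Set.subset_union_left hw
    have hk' : w⁻¹ * a ∈ Subgroup.closure S₀ :=
      Subgroup.subset_closure (Set.mem_union_right _ hk)
    have : a = w * (w⁻¹ * a) := by group
    rw [this]
    exact Subgroup.mul_mem _ hw' hk'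
  -- zpowers t' commutes with the generators
  have hN : ∀ n ∈ Subgroup.zpowers t', ∀ s ∈ S₀, n * s = s * n := by
    intro n hn s hs
    obtain ⟨k, rfl⟩ := Subgroup.mem_zpowers_iff.mp hn
    rcases hs with hs | hs
    · rcases hs with rfl | hs
      · exact (hcx.zpow_left k).eq
      · rw [Set.mem_singleton_iff] at hs
        rw [hs]
        exact (hcy.zpow_left k).eq
    · exact hker s (MonoidHom.mem_ker.mp hs) (t' ^ k)
  have hS : ∀ a ∈ S₀, ∀ b ∈ S₀, ⁅a, b⁆ ∈ Subgroup.zpowers t' := by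
    intro a ha b hb
    rcases hb with hb | hb
    · rcases ha with ha | ha
      · rcases ha with rfl | ha
        · rcases hb with rfl | hb
          · rw [commutatorElement_self]; exact Subgroup.one_mem _
          · rw [Set.mem_singleton_iff] at hb
            rw [hb, commutatorElement_def]
            exact Subgroup.mem_zpowers t'
        · rw [Set.mem_singleton_iff] at ha
          rcases hb with rfl | hb
          · rw [ha, ← commutatorElement_inv, commutatorElement_def]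
            exact Subgroup.inv_mem _ (Subgroup.mem_zpowers t')
          · rw [Set.mem_singleton_iff] at hb
            rw [ha, hb, commutatorElement_self]; exact Subgroup.one_mem _
      · -- a central
        have hc := hker a (MonoidHom.mem_ker.mp ha)
        have : ⁅a, b⁆ = 1 := by
          rw [commutatorElement_def, ← hc b, mul_inv_cancel_right, mul_inv_cancel]
        rw [this]; exact Subgroup.one_mem _
    · have hc := hker b (MonoidHom.mem_ker.mp hb)
      have : ⁅a, b⁆ = 1 := by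
        rw [commutatorElement_def, hc a, mul_inv_cancel_right, mul_inv_cancel]
      rw [this]; exact Subgroup.one_mem _
  have hcl := commutator_mem_of_closure S₀ (Subgroup.zpowers t') hN hS
  -- the commutator subgroup of M is inside zpowers t'
  have hle : commutator (U.comap σ) ≤ (Subgroup.zpowers t').subgroupOf (U.comap σ) := by
    rw [commutator_def, Subgroup.commutator_le]
    intro a _ b _
    rw [Subgroup.mem_subgroupOf]
    exact hcl (a : Γ) (hMle a.2) (b : Γ) (hMle b.2)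
  have h2 := hle h1
  rw [Subgroup.mem_subgroupOf] at h2
  obtain ⟨k, hk⟩ := Subgroup.mem_zpowers_iff.mp h2
  have hk' : (z : Γ) = t' ^ k := hk.symm
  have h3 : t ^ k = 1 := by
    have := congrArg σ hk'
    rw [MonoidHom.mem_ker.mp hz, map_zpow, hσt] at this
    exact this.symm
  have h4 : ((orderOf t : ℕ) : ℤ) ∣ k := orderOf_dvd_iff_zpow_eq_one.mpr h3
  rw [hto] at h4
  obtain ⟨k', rfl⟩ := h4
  have h5 : z = 1 := by
    rw [hk', zpow_mul]
    have : t' ^ ((3 : ℕ) : ℤ) = 1 := by rw [zpow_natCast, ht'3]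
    rw [this, one_zpow]
  rw [h5, orderOf_one] at hz3
  exact absurd hz3 (by norm_num)

end Cfsg.Agent.Lib.Helper23.SchurTwo
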