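import Mathlib
import Cfsg.Prelude.Def_GeometricClasses
import Cfsg.Agent.Lib.Helper61.AschDefs
import Cfsg.Agent.Lib.Helper43.SpAschDefs
import Cfsg.Agent.Lib.Helper43.SpAschDefs2
import Cfsg.Agent.Lib.Helper18.AschUR

/-!
# K-SpAsch-S1 (keystone 566202): a reducible subgroup of the similarity group of a symplectic form
stabilises a totally singular subspace, a nondegenerate subspace of small dimension, or a
nondegenerate decomposition into two halves.

Toolkit: `toBilin f hf` (the Mathlib bilinear form of a two-argument form), `perp f hf W`, `mem_perp`,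
`finrank_perp`, `inv_perp`.  The invariance API `Inv` is the one of `Cfsg.Agent.Lib.Helper18.AschU`.
-/

set_option autoImplicit false
set_option linter.unusedSectionVars false

namespace Cfsg.Agent.Lib.Helper23.SpAsch

open Cfsg Cfsg.Geo Cfsg.Agent.Lib.Helper61.Asch Cfsg.Agent.Lib.Helper43.SpAsch
open Cfsg.Agent.Lib.Helper18.AschU
open scoped Matrix Kronecker MatrixGroups

variable {F : Type*} [Field F] [Fintype F] {n : ℕ}

local notation "V" => (Fin n → F)
local notation "Mat" => Matrix (Fin n) (Fin n) F

/-- the Mathlib bilinear form attached to a bilinear two-argument form -/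
noncomputable def toBilin (f : V → V → F) (hf : IsBilinearForm f) : LinearMap.BilinForm F V :=
  LinearMap.mk₂ F f hf.add_left (fun c m k => by rw [hf.smul_left, smul_eq_mul]) hf.add_right
    (fun c m k => by rw [hf.smul_right, smul_eq_mul])

theorem toBilin_apply (f : V → V → F) (hf : IsBilinearForm f) (u v : V) :
    toBilin f hf u v = f u v := rfl

theorem toBilin_nondegenerate {f : V → V → F} (hf : IsBilinearForm f) (hnd : IsNondegenerateForm f) :
    (toBilin f hf).Nondegenerate := by
  constructor
  · intro x hx
    by_contra hx0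
    obtain ⟨y, hy⟩ := (hnd x hx0).2
    exact hy (hx y)
  · intro y hy
    by_contra hy0
    obtain ⟨x, hx⟩ := (hnd y hy0).1
    exact hx (hy x)

/-- the orthogonal complement `{v | ∀ w ∈ W, f w v = 0}` -/
noncomputable def perp (f : V → V → F) (hf : IsBilinearForm f) (W : Submodule F V) : Submodule F V :=
  (toBilin f hf).orthogonal W

theorem mem_perp {f : V → V → F} (hf : IsBilinearForm f) (W : Submodule F V) (v : V) :
    v ∈ perp f hf W ↔ ∀ w ∈ W, f w v = 0 := by
  unfold perp
  rw [LinearMap.BilinForm.mem_orthogonal_iff]
  rfl

theorem finrank_perp {f : V → V → F} (hf : IsBilinearForm f) (hnd : IsNondegenerateForm f)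
    (W : Submodule F V) : Module.finrank F (perp f hf W) = n - Module.finrank F W := by
  unfold perp
  rw [LinearMap.BilinForm.finrank_orthogonal (toBilin_nondegenerate hf hnd), Module.finrank_fin_fun]

theorem inv_perp {f : V → V → F} (hf : IsBilinearForm f) {K : Subgroup (GL (Fin n) F)}
    (hKΔ : K ≤ similarityGroup f) {W : Submodule F V} (hW : Inv K W) : Inv K (perp f hf W) := by
  intro g hg v hv
  rw [mem_perp] at hv ⊢
  intro w hw
  obtain ⟨c, hc⟩ := hKΔ hg
  have h1 := hc (((g⁻¹ : GL (Fin n) F) : Mat) *ᵥ w) v
  rw [mulVec_inv_mulVec] at h1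
  rw [h1, hv _ (hW g⁻¹ (K.inv_mem hg) w hw), mul_zero]

theorem symp_eq_zero_comm {f : V → V → F} (hf : IsSymplecticForm f) (u v : V) :
    f u v = 0 ↔ f v u = 0 := by
  constructor
  · intro h; rw [hf.skew, h, neg_zero]
  · intro h; rw [hf.skew, h, neg_zero]

/-- **K-SpAsch-S1**. -/
theorem sgeom_of_reducible {f : V → V → F} (hf : IsSymplecticForm f) (K : Subgroup (GL (Fin n) F))
    (hKΔ : K ≤ similarityGroup f) (hK : ¬ ActsIrreducibly (matrixSet K)) : SGeom f K := by
  have hb := hf.bilinear
  unfold ActsIrreducibly at hK
  push Not at hK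
  obtain ⟨W, hWinv, hW0, hW1⟩ := hK
  have hW : Inv K W := inv_of_not_irreducible K W hWinv
  have hP : Inv K (perp f hb W) := inv_perp hb hKΔ hW
  have hdP := finrank_perp hb hf.nondegenerate W
  have hdW : Module.finrank F W < n := by
    have := Submodule.finrank_lt hW1
    rwa [Module.finrank_fin_fun] at this
  have hdW0 : 0 < Module.finrank F W := by
    rw [Module.finrank_pos_iff, Submodule.nontrivial_iff_ne_bot]
    exact hW0
  by_cases hR : W ⊓ perp f hb W = ⊥
  · -- nondegenerate case
    have hndW : IsNondegenerateOn f W := by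
      intro w hw hw0
      have hnot : w ∉ perp f hb W := by
        intro hwp
        have : w ∈ W ⊓ perp f hb W := ⟨hw, hwp⟩
        rw [hR] at this
        exact hw0 ((Submodule.mem_bot F).mp this)
      rw [mem_perp] at hnot
      push Not at hnot
      obtain ⟨x, hx, hxw⟩ := hnot
      exact ⟨⟨x, hx, hxw⟩, ⟨x, hx, fun h0 => hxw ((symp_eq_zero_comm hf _ _).mp h0)⟩⟩
    have hsup : W ⊔ perp f hb W = ⊤ := by
      apply Submodule.eq_top_of_finrank_eq
      have h := Submodule.finrank_sup_add_finrank_inf_eq W (perp f hb W)
      rw [hR, finrank_bot, add_zero, hdP] at h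
      rw [h, Module.finrank_fin_fun]
      omega
    have hndP : IsNondegenerateOn f (perp f hb W) := by
      intro v hv hv0
      obtain ⟨y, hy⟩ := (hf.nondegenerate v hv0).1
      have hytop : y ∈ W ⊔ perp f hb W := by rw [hsup]; exact Submodule.mem_top
      obtain ⟨w, hw, x, hx, rfl⟩ := Submodule.mem_sup.mp hytop
      rw [hb.add_left, (mem_perp hb W v).mp hv w hw, zero_add] at hy
      exact ⟨⟨x, hx, hy⟩, ⟨x, hx, fun h0 => hy ((symp_eq_zero_comm hf _ _).mp h0)⟩⟩
    rcases lt_trichotomy (2 * Module.finrank F W) n with hlt | heq | hgt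
    · exact .nd W hW0 hndW (by rw [Fintype.card_fin]; exact hlt) hW.le_stab
    · -- decomposition
      let D : Fin 2 → Submodule F V := ![W, perp f hb W]
      have hD : IsNondegenerateMDecomposition f (Module.finrank F W) D := by
        refine ⟨⟨le_refl 2, hdW0, ?_, ?_, ?_⟩, ?_, ?_⟩
        · intro i
          fin_cases i
          · rfl
          · show Module.finrank F (perp f hb W) = _
            rw [hdP]
            omega
        · rw [iSupIndep_pair (i := (0 : Fin 2)) (j := 1) (by decide) (by decide)]
          show Disjoint W (perp f hb W)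
          rw [disjoint_iff]
          exact hR
        · apply le_antisymm le_top
          rw [← hsup]
          exact sup_le (le_iSup D 0) (le_iSup D 1)
        · intro i
          fin_cases i
          · exact hndW
          · exact hndP
        · intro i j hij
          fin_cases i <;> fin_cases j
          · exact absurd rfl hij
          · intro u hu v hv
            exact (mem_perp hb W v).mp hv u hu
          · intro u hu v hv
            exact (symp_eq_zero_comm hf _ _).mp ((mem_perp hb W u).mp hu v hv)
          · exact absurd rfl hij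
      have hle : K ≤ decompositionStabilizer D := by
        intro g hg
        refine ⟨1, fun i => ?_⟩
        fin_cases i
        · exact hW.map_eq hg
        · exact hP.map_eq hg
      exact .dec (Module.finrank F W) D hD hle
    · have hP0 : perp f hb W ≠ ⊥ := by
        intro h0
        rw [h0, finrank_bot] at hdP
        omega
      exact .nd (perp f hb W) hP0 hndP (by rw [Fintype.card_fin]; omega) hP.le_stab
  · -- totally singular radical
    have hRinv : Inv K (W ⊓ perp f hb W) := hW.inf hP
    have hts : IsTotallySingularFor f (W ⊓ perp f hb W) := by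
      intro u hu v hv
      exact (mem_perp hb W v).mp hv.2 u hu.1
    exact .ts (W ⊓ perp f hb W) hR hts hRinv.le_stab

end Cfsg.Agent.Lib.Helper23.SpAsch
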