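import Mathlib
import Cfsg.Prelude.Def_GeometricClasses
import Cfsg.Prelude.Def_ClassicalGeometry
import Cfsg.Agent.Lib.Helper79.SpUDefs
import Cfsg.Agent.Lib.Helper18.Symp

/-!
# K-SpU-K0F (597603): the standard subalgebra `K0 d δ = F[θ₀]`, `θ₀² = δ` a non-square, is a quadratic field
subalgebra, closed under adjoints for the symplectic form and not self-adjoint
-/

set_option autoImplicit false
set_option linter.unusedSectionVars false
set_option linter.unusedVariables false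

namespace Cfsg.Agent.Lib.Helper23.SpU

open Cfsg Cfsg.Geo Cfsg.Agent.Lib.Helper79.SpU
open scoped Matrix

variable {F : Type*} [Field F]

/-- the action of `a + b θ₀` in coordinates -/
theorem K0_mulVec_inl (d : ℕ) (δ a b : F) (u : Fin d ⊕ Fin d → F) (i : Fin d) :
    ((a • (1 : Matrix (Fin d ⊕ Fin d) (Fin d ⊕ Fin d) F) + b • theta d δ) *ᵥ u) (Sum.inl i) =
      a * u (Sum.inl i) + b * δ * u (Sum.inr i) := by
  rw [Matrix.add_mulVec, Matrix.smul_mulVec, Matrix.smul_mulVec, Matrix.one_mulVec]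
  unfold theta
  rw [Matrix.fromBlocks_mulVec]
  simp only [Pi.add_apply, Pi.smul_apply, smul_eq_mul, Sum.elim_inl, Matrix.zero_mulVec,
    Matrix.smul_mulVec, Matrix.one_mulVec, Function.comp_apply, zero_add]
  ring

theorem K0_mulVec_inr (d : ℕ) (δ a b : F) (u : Fin d ⊕ Fin d → F) (i : Fin d) :
    ((a • (1 : Matrix (Fin d ⊕ Fin d) (Fin d ⊕ Fin d) F) + b • theta d δ) *ᵥ u) (Sum.inr i) =
      a * u (Sum.inr i) + b * u (Sum.inl i) := by
  rw [Matrix.add_mulVec, Matrix.smul_mulVec, Matrix.smul_mulVec, Matrix.one_mulVec]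
  unfold theta
  rw [Matrix.fromBlocks_mulVec]
  simp only [Pi.add_apply, Pi.smul_apply, smul_eq_mul, Sum.elim_inr, Matrix.zero_mulVec,
    Matrix.one_mulVec, Function.comp_apply, add_zero]

/-- the symplectic form against `a + b θ₀` -/
theorem sympForm_K0_left (d : ℕ) (δ a b : F) (u v : Fin d ⊕ Fin d → F) :
    sympForm d F ((a • (1 : Matrix (Fin d ⊕ Fin d) (Fin d ⊕ Fin d) F) + b • theta d δ) *ᵥ u) v =
      ∑ i : Fin d, ((a * u (Sum.inr i) + b * u (Sum.inl i)) * v (Sum.inl i) -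
        (a * u (Sum.inl i) + b * δ * u (Sum.inr i)) * v (Sum.inr i)) := by
  rw [Cfsg.Agent.Lib.Helper18.sympForm_eq]
  apply Finset.sum_congr rfl
  intro i _
  rw [K0_mulVec_inl, K0_mulVec_inr]

theorem sympForm_K0_right (d : ℕ) (δ a b : F) (u v : Fin d ⊕ Fin d → F) :
    sympForm d F u ((a • (1 : Matrix (Fin d ⊕ Fin d) (Fin d ⊕ Fin d) F) + b • theta d δ) *ᵥ v) =
      ∑ i : Fin d, (u (Sum.inr i) * (a * v (Sum.inl i) + b * δ * v (Sum.inr i)) -
        u (Sum.inl i) * (a * v (Sum.inr i) + b * v (Sum.inl i))) := by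
  rw [Cfsg.Agent.Lib.Helper18.sympForm_eq]
  apply Finset.sum_congr rfl
  intro i _
  rw [K0_mulVec_inl, K0_mulVec_inr]

/-- `1` and `θ₀` are linearly independent -/
theorem K0_coeff_eq_zero (d : ℕ) (hd : 1 ≤ d) (δ a b : F)
    (h : a • (1 : Matrix (Fin d ⊕ Fin d) (Fin d ⊕ Fin d) F) + b • theta d δ = 0) : a = 0 ∧ b = 0 := by
  classical
  set i0 : Fin d := ⟨0, hd⟩
  have h1 := congrFun (congrArg (fun M : Matrix (Fin d ⊕ Fin d) (Fin d ⊕ Fin d) F =>
    M *ᵥ (Pi.single (Sum.inl i0) 1)) h) (Sum.inl i0)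
  have h2 := congrFun (congrArg (fun M : Matrix (Fin d ⊕ Fin d) (Fin d ⊕ Fin d) F =>
    M *ᵥ (Pi.single (Sum.inl i0) 1)) h) (Sum.inr i0)
  simp only [K0_mulVec_inl, K0_mulVec_inr, Matrix.zero_mulVec, Pi.zero_apply, Pi.single_eq_same,
    mul_one] at h1 h2
  rw [Pi.single_eq_of_ne (by simp), mul_zero, add_zero] at h1
  rw [Pi.single_eq_of_ne (by simp), mul_zero, zero_add] at h2
  exact ⟨h1, h2⟩

/-- **K-SpU-K0F.** -/
theorem isUType_K0 (h2 : (2 : F) ≠ 0) (d : ℕ) (hd : 1 ≤ d) (δ : F) (hδ : ¬ IsSquare δ) :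
    IsUType d (K0 d δ) := by
  classical
  set θ := theta d δ with hθ
  refine ⟨⟨?_, ?_, ?_⟩, ?_, ?_⟩
  · -- commutative
    intro x hx y hy
    obtain ⟨a, b, rfl⟩ := (mem_K0_iff d δ x).mp hx
    obtain ⟨a', b', rfl⟩ := (mem_K0_iff d δ y).mp hy
    have c11 : Commute (a • (1 : Matrix (Fin d ⊕ Fin d) (Fin d ⊕ Fin d) F))
        (a' • (1 : Matrix (Fin d ⊕ Fin d) (Fin d ⊕ Fin d) F)) :=
      ((Commute.one_left _).smul_left a).smul_right a'
    have c1θ : Commute (a • (1 : Matrix (Fin d ⊕ Fin d) (Fin d ⊕ Fin d) F)) (b' • θ) :=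
      ((Commute.one_left _).smul_left a).smul_right b'
    have cθ1 : Commute (b • θ) (a' • (1 : Matrix (Fin d ⊕ Fin d) (Fin d ⊕ Fin d) F)) :=
      ((Commute.one_right _).smul_left b).smul_right a'
    have cθθ : Commute (b • θ) (b' • θ) := ((Commute.refl θ).smul_left b).smul_right b'
    exact ((c11.add_right c1θ).add_left (cθ1.add_right cθθ)).eq
  · -- inverses
    intro x hx hx0
    obtain ⟨a, b, rfl⟩ := (mem_K0_iff d δ x).mp hx
    have hN : a ^ 2 - δ * b ^ 2 ≠ 0 := by
      intro hN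
      by_cases hb : b = 0
      · subst hb
        have ha : a = 0 := by
          have : a ^ 2 = 0 := by linear_combination hN
          exact pow_eq_zero_iff (two_ne_zero) |>.mp this
        apply hx0
        rw [ha, zero_smul, zero_smul, add_zero]
      · apply hδ
        refine ⟨a / b, ?_⟩
        field_simp
        linear_combination -hN
    refine ⟨(a ^ 2 - δ * b ^ 2)⁻¹ • (a • (1 : Matrix (Fin d ⊕ Fin d) (Fin d ⊕ Fin d) F) + (-b) • θ),
      ?_, ?_⟩
    · exact (K0 d δ).smul_mem ((mem_K0_iff d δ _).mpr ⟨a, -b, rfl⟩) _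
    · rw [Matrix.mul_smul]
      have hmul : (a • (1 : Matrix (Fin d ⊕ Fin d) (Fin d ⊕ Fin d) F) + b • θ) *
          (a • (1 : Matrix (Fin d ⊕ Fin d) (Fin d ⊕ Fin d) F) + (-b) • θ) =
          (a ^ 2 - δ * b ^ 2) • (1 : Matrix (Fin d ⊕ Fin d) (Fin d ⊕ Fin d) F) := by
        rw [add_mul, mul_add, mul_add, smul_mul_smul_comm, smul_mul_smul_comm, smul_mul_smul_comm,
          smul_mul_smul_comm, theta_mul_self, mul_one, one_mul, mul_one, smul_smul]
        have : (a * -b) • θ + (b * a) • θ = 0 := by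
          rw [← add_smul]
          have : a * -b + b * a = 0 := by ring
          rw [this, zero_smul]
        rw [add_assoc, ← add_assoc ((a * -b) • θ), this, zero_add, ← add_smul]
        congr 1
        ring
      rw [hmul, smul_smul, inv_mul_cancel₀ hN, one_smul]
  · -- dimension
    let φ : (F × F) →ₗ[F] Matrix (Fin d ⊕ Fin d) (Fin d ⊕ Fin d) F :=
      { toFun := fun p => p.1 • (1 : Matrix (Fin d ⊕ Fin d) (Fin d ⊕ Fin d) F) + p.2 • θ
        map_add' := by
          intro p p'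
          simp only [Prod.fst_add, Prod.snd_add, add_smul]
          abel
        map_smul' := by
          intro c p
          simp only [Prod.smul_fst, Prod.smul_snd, smul_eq_mul, RingHom.id_apply, mul_smul, smul_add] }
    have hφinj : Function.Injective φ := by
      rw [← LinearMap.ker_eq_bot, LinearMap.ker_eq_bot']
      intro p hp
      obtain ⟨h1, h2⟩ := K0_coeff_eq_zero d hd δ p.1 p.2 hp
      exact Prod.ext h1 h2
    have hrange : Subalgebra.toSubmodule (K0 d δ) = LinearMap.range φ := by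
      ext x
      rw [Subalgebra.mem_toSubmodule, mem_K0_iff, LinearMap.mem_range]
      constructor
      · rintro ⟨a, b, rfl⟩
        exact ⟨(a, b), rfl⟩
      · rintro ⟨p, rfl⟩
        exact ⟨p.1, p.2, rfl⟩
    rw [← Subalgebra.finrank_toSubmodule, hrange, LinearMap.finrank_range_of_inj hφinj,
      Module.finrank_prod, Module.finrank_self]
  · -- closed under adjoints
    intro k hk
    obtain ⟨a, b, rfl⟩ := (mem_K0_iff d δ k).mp hk
    refine ⟨a • (1 : Matrix (Fin d ⊕ Fin d) (Fin d ⊕ Fin d) F) + (-b) • θ,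
      (mem_K0_iff d δ _).mpr ⟨a, -b, rfl⟩, fun u v => ?_⟩
    rw [sympForm_K0_left, sympForm_K0_right]
    apply Finset.sum_congr rfl
    intro i _
    ring
  · -- not self-adjoint
    intro hsa
    set i0 : Fin d := ⟨0, hd⟩
    have hk : (0 : F) • (1 : Matrix (Fin d ⊕ Fin d) (Fin d ⊕ Fin d) F) + (1 : F) • θ ∈ K0 d δ :=
      (mem_K0_iff d δ _).mpr ⟨0, 1, rfl⟩
    have h := hsa _ hk (Pi.single (Sum.inl i0) 1) (Pi.single (Sum.inl i0) 1)
    rw [sympForm_K0_left, sympForm_K0_right, Finset.sum_eq_single i0, Finset.sum_eq_single i0] at h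
    · rw [Pi.single_eq_same, Pi.single_eq_of_ne (by simp : (Sum.inr i0 : Fin d ⊕ Fin d) ≠ Sum.inl i0)]
        at h
      apply h2
      linear_combination h
    · intro j _ hj
      have h1 : (Sum.inl j : Fin d ⊕ Fin d) ≠ Sum.inl i0 := fun h => hj (Sum.inl_injective h)
      rw [Pi.single_eq_of_ne h1, Pi.single_eq_of_ne (by simp : (Sum.inr j : Fin d ⊕ Fin d) ≠ Sum.inl i0)]
      ring
    · intro h
      exact absurd (Finset.mem_univ _) h
    · intro j _ hj
      have h1 : (Sum.inl j : Fin d ⊕ Fin d) ≠ Sum.inl i0 := fun h => hj (Sum.inl_injective h)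
      rw [Pi.single_eq_of_ne h1, Pi.single_eq_of_ne (by simp : (Sum.inr j : Fin d ⊕ Fin d) ≠ Sum.inl i0)]
      ring
    · intro h
      exact absurd (Finset.mem_univ _) h

end Cfsg.Agent.Lib.Helper23.SpU
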