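import Cfsg.Agent.Lib.Helper64.StBDefs

/-!
# K-S2311-A0 (keystone 2311000): `len n⁻¹ = len n` in a (B,N)-pair and the right-handed versions of
`len_S_mul_ne` / `claimA`.
-/

set_option autoImplicit false

namespace Cfsg.Agent.Lib.Helper23.StB

open Cfsg Cfsg.Agent.Lib.Helper08 Cfsg.Agent.Lib.Helper64.StB

variable {G : Type*} [Group G] (P : Cfsg.BNPair G)

/-- inversion is compatible with `Eqv` on `N` -/
theorem Eqv_inv {n m : G} (hn : n ∈ P.N) (hm : m ∈ P.N) (h : Eqv P n m) : Eqv P n⁻¹ m⁻¹ := by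
  have htB : (n⁻¹ * m)⁻¹ ∈ P.B := P.B.inv_mem h
  have htN : (n⁻¹ * m)⁻¹ ∈ P.N := P.N.inv_mem (P.N.mul_mem (P.N.inv_mem hn) hm)
  have := conj_mem_B P hn htB htN
  have e : n * (n⁻¹ * m)⁻¹ * n⁻¹ = (n⁻¹)⁻¹ * m⁻¹ := by group
  rw [e] at this
  exact this

/-- the reversed word represents the inverse -/
theorem Eqv_reverse_prod : ∀ l : List G, (∀ s ∈ l, s ∈ P.S) → Eqv P l.reverse.prod (l.prod)⁻¹ := by
  intro l
  induction l with
  | nil => intro _; simp [Eqv_refl]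
  | cons s l ih =>
    intro hl
    have hs : s ∈ P.S := hl s (List.mem_cons_self ..)
    have hl' : ∀ a ∈ l, a ∈ P.S := fun a ha => hl a (List.mem_cons_of_mem _ ha)
    have hsN := P.subset hs
    have hlN := prod_mem_N P hl'
    have hrevN : l.reverse.prod ∈ P.N := prod_mem_N P (fun a ha => hl' a (List.mem_reverse.1 ha))
    rw [List.reverse_cons, List.prod_append, List.prod_singleton, List.prod_cons, mul_inv_rev]
    have h1 : Eqv P (l.reverse.prod * s) ((l.prod)⁻¹ * s) :=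
      Eqv_mul_right P hrevN (P.N.inv_mem hlN) hsN (ih hl')
    have h2 : Eqv P ((l.prod)⁻¹ * s) ((l.prod)⁻¹ * s⁻¹) :=
      Eqv_mul_left P _ (Eqv_symm P (Eqv_inv_S P hs))
    exact Eqv_trans P h1 h2

theorem len_inv_le {n : G} (hn : n ∈ P.N) : len P n⁻¹ ≤ len P n := by
  obtain ⟨l, hl, hw⟩ := exists_word_len P hn
  have hlN := prod_mem_N P hw.1
  have h1 : IsWord P l.reverse n⁻¹ := by
    refine ⟨fun a ha => hw.1 a (List.mem_reverse.1 ha), ?_⟩
    exact Eqv_trans P (Eqv_reverse_prod P l hw.1) (Eqv_inv P hlN hn hw.2)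
  have := len_le P h1
  rwa [List.length_reverse, hl] at this

/-- K-A0. -/
theorem len_inv {n : G} (hn : n ∈ P.N) : len P n⁻¹ = len P n := by
  apply le_antisymm (len_inv_le P hn)
  have := len_inv_le P (P.N.inv_mem hn)
  rwa [inv_inv] at this

/-- `len (n * t) = len (t * n⁻¹)` -/
theorem len_mul_S_eq {t n : G} (ht : t ∈ P.S) (hn : n ∈ P.N) :
    len P (n * t) = len P (t * n⁻¹) := by
  have htN := P.subset ht
  rw [← len_inv P (P.N.mul_mem hn htN), mul_inv_rev]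
  exact len_congr P (Eqv_inv_mul P ht (P.N.inv_mem hn))

/-- K-A0'. -/
theorem len_mul_S_ne {t n : G} (ht : t ∈ P.S) (hn : n ∈ P.N) : len P (n * t) ≠ len P n := by
  rw [len_mul_S_eq P ht hn, ← len_inv P hn]
  exact len_S_mul_ne P ht (P.N.inv_mem hn)

theorem claimA_right {t n : G} (ht : t ∈ P.S) (hn : n ∈ P.N) (hlt : len P n < len P (n * t))
    {b : G} (hb : b ∈ P.B) : DC P (n * t) (n * b * t) := by
  have htN := P.subset ht
  have hninv := P.N.inv_mem hn
  have hlt' : len P n⁻¹ < len P (t * n⁻¹) := by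
    rw [len_inv P hn, ← len_mul_S_eq P ht hn]; exact hlt
  have h1 := claimA P ht hninv hlt' (P.B.inv_mem hb)
  have h2 := DC_inv P h1
  have e1 : (t * n⁻¹)⁻¹ = n * t⁻¹ := by group
  have e2 : (t * b⁻¹ * n⁻¹)⁻¹ = n * b * t⁻¹ := by group
  rw [e1, e2] at h2
  -- replace `t⁻¹` by `t`
  have h3 : DC P (n * t) (n * b * t⁻¹) :=
    (Eqv_dc_iff P (Eqv_mul_left P n (Eqv_inv_S P ht))).1 h2
  have h4 := DC_mul_right P (sq_mem_B P ht) h3
  have e3 : n * b * t⁻¹ * (t * t) = n * b * t := by group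
  rwa [e3] at h4

end Cfsg.Agent.Lib.Helper23.StB
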