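import Cfsg.Agent.Lib.Helper64.StBDefs

/-!
# K-S2311-A2 (keystone 2311002): uniqueness of the `(J,K)`-reduced element of a double coset
`W_J d W_K` in a (B,N)-pair.
-/

set_option autoImplicit false

namespace Cfsg.Agent.Lib.Helper23.StB

open Cfsg Cfsg.Agent.Lib.Helper08 Cfsg.Agent.Lib.Helper64.StB

variable {G : Type*} [Group G] (P : Cfsg.BNPair G)

theorem closure_le_N {J : Set G} (hJ : J ⊆ P.S) : Subgroup.closure J ≤ P.N :=
  (Subgroup.closure_mono hJ).trans (closure_S_le_N P)

/-- `Eqv` is compatible with triple products in `N` -/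
theorem Eqv_mul3 {a a' d d' b b' : G} (ha : a ∈ P.N) (ha' : a' ∈ P.N) (hd : d ∈ P.N) (hd' : d' ∈ P.N)
    (_hb : b ∈ P.N) (hb' : b' ∈ P.N) (h1 : Eqv P a a') (h2 : Eqv P d d') (h3 : Eqv P b b') :
    Eqv P (a * d * b) (a' * d' * b') := by
  have e1 : Eqv P (a * d * b) (a * d * b') := Eqv_mul_left P (a * d) h3
  have e2 : Eqv P (a * d * b') (a * d' * b') :=
    Eqv_mul_right P (P.N.mul_mem ha hd) (P.N.mul_mem ha hd') hb' (Eqv_mul_left P a h2)
  have e3 : Eqv P (a * d' * b') (a' * d' * b') := by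
    rw [mul_assoc, mul_assoc]
    exact Eqv_mul_right P ha ha' (P.N.mul_mem hd' hb') h1
  exact Eqv_trans P e1 (Eqv_trans P e2 e3)

/-- the double coset relation is symmetric -/
theorem dc_symm {J K : Set G} (hJ : J ⊆ P.S) (hK : K ⊆ P.S) {d d' : G} (hd : d ∈ P.N)
    (hd' : d' ∈ P.N)
    (h : ∃ a ∈ Subgroup.closure J, ∃ b ∈ Subgroup.closure K, Eqv P d' (a * d * b)) :
    ∃ a ∈ Subgroup.closure J, ∃ b ∈ Subgroup.closure K, Eqv P d (a * d' * b) := by
  obtain ⟨a, ha, b, hb, hab⟩ := h
  have haN := closure_le_N P hJ ha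
  have hbN := closure_le_N P hK hb
  refine ⟨a⁻¹, Subgroup.inv_mem _ ha, b⁻¹, Subgroup.inv_mem _ hb, ?_⟩
  -- `t = d'⁻¹ a d b ∈ B ⊓ N`
  have htB : d'⁻¹ * (a * d * b) ∈ P.B := hab
  have htN : d'⁻¹ * (a * d * b) ∈ P.N :=
    P.N.mul_mem (P.N.inv_mem hd') (P.N.mul_mem (P.N.mul_mem haN hd) hbN)
  have hc := conj_mem_B P hbN htB htN
  have e : d = a⁻¹ * d' * b⁻¹ * (b * (d'⁻¹ * (a * d * b)) * b⁻¹) := by group
  apply Eqv_symm
  have := Eqv_mul_B P (n := a⁻¹ * d' * b⁻¹) hc
  rwa [← e] at this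

/-- the key step: a reduced element of the double coset of `d` is represented by a subword of any
reduced word of `d` -/
theorem exists_subword {J K : Set G} (hJ : J ⊆ P.S) (hK : K ⊆ P.S) {d d' : G} (hd : d ∈ P.N)
    (hd' : RedJK P J K d')
    (h : ∃ a ∈ Subgroup.closure J, ∃ b ∈ Subgroup.closure K, Eqv P d' (a * d * b))
    {δ : List G} (hδ : IsWord P δ d) :
    ∃ δ' : List G, δ'.Sublist δ ∧ Reduced P δ' ∧ Eqv P d' δ'.prod := by
  obtain ⟨a, ha, b, hb, hab⟩ := h
  obtain ⟨hd'N, hredL, hredR⟩ := hd'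
  have haN := closure_le_N P hJ ha
  have hbN := closure_le_N P hK hb
  obtain ⟨α, hαJ, hαa⟩ := exists_word_of_mem_closure P hJ ha
  obtain ⟨β, hβK, hβb⟩ := exists_word_of_mem_closure P hK hb
  have hαS : ∀ s ∈ α, s ∈ P.S := fun s hs => hJ (hαJ s hs)
  have hβS : ∀ s ∈ β, s ∈ P.S := fun s hs => hK (hβK s hs)
  have hall : ∀ s ∈ α ++ δ ++ β, s ∈ P.S := by
    intro s hs
    rcases List.mem_append.1 hs with hs | hs
    · rcases List.mem_append.1 hs with hs | hs
      · exact hαS s hs
      · exact hδ.1 s hs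
    · exact hβS s hs
  obtain ⟨l', hsub, hred, heqv⟩ := exists_reduced_sublist P (α ++ δ ++ β) hall
  -- `d' ≡ l'.prod`
  have hprod : Eqv P (α ++ δ ++ β).prod (a * d * b) := by
    rw [List.prod_append, List.prod_append]
    exact Eqv_mul3 P (prod_mem_N P hαS) haN (prod_mem_N P hδ.1) hd (prod_mem_N P hβS) hbN hαa hδ.2 hβb
  have hd'l : Eqv P d' l'.prod := Eqv_trans P hab (Eqv_trans P (Eqv_symm P hprod) heqv)
  have hlen : len P d' = l'.length := by rw [len_congr P hd'l, hred.2]
  -- split the sublist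
  obtain ⟨l12, β', hl', hsub12, hsubβ⟩ := List.sublist_append_iff.1 hsub
  obtain ⟨α', δ', hl12, hsubα, hsubδ⟩ := List.sublist_append_iff.1 hsub12
  subst hl12
  -- `α' = []`
  have hα' : α' = [] := by
    rcases α' with _ | ⟨s, α''⟩
    · rfl
    · exfalso
      have hsJ : s ∈ J := hαJ s (hsubα.subset (List.mem_cons_self ..))
      have hsS := hJ hsJ
      have hl'cons : l' = s :: (α'' ++ δ' ++ β') := by rw [hl']; simp
      have hrestS : ∀ x ∈ α'' ++ δ' ++ β', x ∈ P.S := by
        intro x hx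
        apply hred.1
        rw [hl'cons]
        exact List.mem_cons_of_mem _ hx
      have hrestN := prod_mem_N P hrestS
      have h1 : Eqv P (s * d') (s * (s * (α'' ++ δ' ++ β').prod)) := by
        apply Eqv_mul_left
        rw [← List.prod_cons, ← hl'cons]
        exact hd'l
      have h2 := Eqv_trans P h1 (Eqv_sq_mul P hsS hrestN)
      have h3 : len P (s * d') ≤ (α'' ++ δ' ++ β').length := by
        rw [len_congr P h2]
        exact len_le P ⟨hrestS, Eqv_refl P _⟩
      have h4 := hredL s hsJ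
      have h5 : l'.length = (α'' ++ δ' ++ β').length + 1 := by rw [hl'cons]; simp
      omega
  subst hα'
  -- `β' = []`
  have hβ' : β' = [] := by
    rcases List.eq_nil_or_concat β' with hnil | ⟨β'', t, hβ''⟩
    · exact hnil
    · exfalso
      have htK : t ∈ K := hβK t (hsubβ.subset (by rw [hβ'']; simp))
      have htS := hK htK
      have htN := P.subset htS
      have hl'snoc : l' = ([] ++ δ' ++ β'') ++ [t] := by rw [hl', hβ'']; simp
      have hinitS : ∀ x ∈ [] ++ δ' ++ β'', x ∈ P.S := by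
        intro x hx
        apply hred.1
        rw [hl'snoc]
        exact List.mem_append_left _ hx
      have hinitN := prod_mem_N P hinitS
      have h0 : Eqv P d' (([] ++ δ' ++ β'').prod * t) := by
        have := hd'l
        rw [hl'snoc, List.prod_append, List.prod_singleton] at this
        exact this
      have h1 : Eqv P (d' * t) (([] ++ δ' ++ β'').prod * t * t) :=
        Eqv_mul_right P hd'N (P.N.mul_mem hinitN htN) htN h0
      have h2 : Eqv P (([] ++ δ' ++ β'').prod * t * t) ([] ++ δ' ++ β'').prod := by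
        apply Eqv_symm
        have gen : ∀ x y : G, x⁻¹ * (x * y * y) = y * y := by intro x y; group
        rw [Eqv, gen]
        exact sq_mem_B P htS
      have h3 : len P (d' * t) ≤ ([] ++ δ' ++ β'').length := by
        rw [len_congr P (Eqv_trans P h1 h2)]
        exact len_le P ⟨hinitS, Eqv_refl P _⟩
      have h4 := hredR t htK
      have h5 : l'.length = ([] ++ δ' ++ β'').length + 1 := by rw [hl'snoc]; simp; omega
      omega
  subst hβ'
  have hl'δ : l' = δ' := by rw [hl']; simp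
  subst hl'δ
  exact ⟨l', hsubδ, hred, hd'l⟩

/-- K-A2 (uniqueness of the `(J,K)`-reduced element of a double coset `W_J d W_K`). -/
theorem red_unique {J K : Set G} (hJ : J ⊆ P.S) (hK : K ⊆ P.S) {d d' : G}
    (hd : RedJK P J K d) (hd' : RedJK P J K d')
    (h : ∃ a ∈ Subgroup.closure J, ∃ b ∈ Subgroup.closure K, Eqv P d' (a * d * b)) :
    Eqv P d d' := by
  have hdN := hd.1
  have hd'N := hd'.1
  obtain ⟨δ, hδlen, hδ⟩ := exists_word_len P hdN
  obtain ⟨ε, hεlen, hε⟩ := exists_word_len P hd'N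
  obtain ⟨δ', hsub, hred, heqv⟩ := exists_subword P hJ hK hdN hd' h hδ
  obtain ⟨ε', hsub', hred', heqv'⟩ := exists_subword P hJ hK hd'N hd (dc_symm P hJ hK hdN hd'N h) hε
  have h1 : len P d' = δ'.length := by rw [len_congr P heqv, hred.2]
  have h2 : len P d = ε'.length := by rw [len_congr P heqv', hred'.2]
  have h3 := hsub.length_le
  have h4 := hsub'.length_le
  have h5 : δ' = δ := hsub.eq_of_length (by omega)
  rw [h5] at heqv
  exact Eqv_symm P (Eqv_trans P heqv hδ.2)

end Cfsg.Agent.Lib.Helper23.StB
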