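import Mathlib
import Cfsg.Agent.Lib.Helper69.StNDefs

/-!
# Pack K-StN (S2401), leaf G1: `bruhat_step`
-/

set_option autoImplicit false

namespace Cfsg.Agent.Lib.Helper23.StN

open Cfsg.Agent.Lib.Helper69.StN

variable {n : ℕ} {K : Type*} [Field K] {S : Type*} [Group S] {X : Fin n → Fin n → K → S}

/-- moving a root element across a monomial element -/
theorem g1_move {m : S} {σ : Equiv.Perm (Fin n)} {d : Fin n → K} (hm : Acts X m σ d)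
    {p q : Fin n} (hpq : p ≠ q) (s : K) :
    ∃ s' : K, X p q s * m = m * X (σ⁻¹ p) (σ⁻¹ q) s' := by
  have hkl : σ⁻¹ p ≠ σ⁻¹ q := fun e => hpq (σ⁻¹.injective e)
  refine ⟨(d (σ⁻¹ p))⁻¹ * s * d (σ⁻¹ q), ?_⟩
  have e := hm.2 (σ⁻¹ p) (σ⁻¹ q) hkl ((d (σ⁻¹ p))⁻¹ * s * d (σ⁻¹ q))
  have hp : σ (σ⁻¹ p) = p := by simp
  have hq : σ (σ⁻¹ q) = q := by simp
  rw [hp, hq] at e
  have e2 : d (σ⁻¹ p) * ((d (σ⁻¹ p))⁻¹ * s * d (σ⁻¹ q)) * (d (σ⁻¹ q))⁻¹ = s := by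
    have h1 := hm.1 (σ⁻¹ p)
    have h2 := hm.1 (σ⁻¹ q)
    field_simp
  rw [e2] at e
  rw [← e]
  group

/-- the case `c = 0` -/
theorem g1_zero (hX : IsSt X) (hN : HasActsN X) {a b : Fin n} (hab : a < b)
    {m : S} (hm : m ∈ Nmon X) (t : K) :
    ∃ u ∈ Upos X, ∃ m' ∈ Nmon X, ∃ u' ∈ Upos X, X b a t * m = u * m' * u' := by
  obtain ⟨σ, d, hA⟩ := hN m hm
  have hne : a ≠ b := hab.ne
  have hne' : σ⁻¹ a ≠ σ⁻¹ b := fun e => hne (σ⁻¹.injective e)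
  rcases lt_or_gt_of_ne hne' with hlt | hgt
  · by_cases ht : t = 0
    · refine ⟨1, (Upos X).one_mem, m, hm, 1, (Upos X).one_mem, ?_⟩
      rw [ht, hX.zero hne.symm]; group
    · obtain ⟨s', hs'⟩ := g1_move hA hne t⁻¹
      refine ⟨X a b t⁻¹, X_mem_Upos X hab _, w X a b (-t⁻¹) * m,
        (Nmon X).mul_mem (w_mem_Nmon X hne (neg_ne_zero.mpr (inv_ne_zero ht))) hm,
        X (σ⁻¹ a) (σ⁻¹ b) s', X_mem_Upos X hlt _, ?_⟩
      rw [hX.neg_root_eq hne t]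
      calc X a b t⁻¹ * w X a b (-t⁻¹) * X a b t⁻¹ * m
          = X a b t⁻¹ * w X a b (-t⁻¹) * (X a b t⁻¹ * m) := by group
        _ = X a b t⁻¹ * w X a b (-t⁻¹) * (m * X (σ⁻¹ a) (σ⁻¹ b) s') := by rw [hs']
        _ = X a b t⁻¹ * (w X a b (-t⁻¹) * m) * X (σ⁻¹ a) (σ⁻¹ b) s' := by group
  · obtain ⟨s', hs'⟩ := g1_move hA hne.symm t
    refine ⟨1, (Upos X).one_mem, m, hm, X (σ⁻¹ b) (σ⁻¹ a) s', X_mem_Upos X hgt _, ?_⟩
    rw [hs']; group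

/-- K-StN-G1 -/
theorem bruhat_step (hX : IsSt X) (hN : HasActsN X) {a b : Fin n} (hab : b.val = a.val + 1)
    {m : S} (hm : m ∈ Nmon X) (t c : K) :
    ∃ u ∈ Upos X, ∃ m' ∈ Nmon X, ∃ u' ∈ Upos X, X b a t * X a b c * m = u * m' * u' := by
  have hlt : a < b := by
    rw [Fin.lt_def]; omega
  have hne : a ≠ b := hlt.ne
  obtain ⟨σ, d, hA⟩ := hN m hm
  have hne' : σ⁻¹ a ≠ σ⁻¹ b := fun e => hne (σ⁻¹.injective e)
  rcases lt_or_gt_of_ne hne' with hlt' | hgt'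
  · by_cases ht : t = 0
    · refine ⟨X a b c, X_mem_Upos X hlt _, m, hm, 1, (Upos X).one_mem, ?_⟩
      rw [ht, hX.zero hne.symm]; group
    · obtain ⟨s', hs'⟩ := g1_move hA hne (t⁻¹ + c)
      refine ⟨X a b t⁻¹, X_mem_Upos X hlt _, w X a b (-t⁻¹) * m,
        (Nmon X).mul_mem (w_mem_Nmon X hne (neg_ne_zero.mpr (inv_ne_zero ht))) hm,
        X (σ⁻¹ a) (σ⁻¹ b) s', X_mem_Upos X hlt' _, ?_⟩
      rw [hX.neg_root_eq hne t]
      calc X a b t⁻¹ * w X a b (-t⁻¹) * X a b t⁻¹ * X a b c * m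
          = X a b t⁻¹ * w X a b (-t⁻¹) * ((X a b t⁻¹ * X a b c) * m) := by group
        _ = X a b t⁻¹ * w X a b (-t⁻¹) * (m * X (σ⁻¹ a) (σ⁻¹ b) s') := by
            rw [hX.add a b hne, hs']
        _ = X a b t⁻¹ * (w X a b (-t⁻¹) * m) * X (σ⁻¹ a) (σ⁻¹ b) s' := by group
  · by_cases hc : c = 0
    · obtain ⟨s', hs'⟩ := g1_move hA hne.symm t
      refine ⟨1, (Upos X).one_mem, m, hm, X (σ⁻¹ b) (σ⁻¹ a) s', X_mem_Upos X hgt' _, ?_⟩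
      rw [hc, hX.zero hne, mul_one, hs']; group
    · obtain ⟨s', hs'⟩ := g1_move hA hne.symm c⁻¹
      have hm2 : w X b a (-c⁻¹) * m ∈ Nmon X :=
        (Nmon X).mul_mem (w_mem_Nmon X hne.symm (neg_ne_zero.mpr (inv_ne_zero hc))) hm
      obtain ⟨u, hu, m', hm', u', hu', he⟩ := g1_zero hX hN hlt hm2 (t + c⁻¹)
      refine ⟨u, hu, m', hm', u' * X (σ⁻¹ b) (σ⁻¹ a) s',
        (Upos X).mul_mem hu' (X_mem_Upos X hgt' _), ?_⟩
      rw [hX.neg_root_eq hne.symm c]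
      calc X b a t * (X b a c⁻¹ * w X b a (-c⁻¹) * X b a c⁻¹) * m
          = (X b a t * X b a c⁻¹) * w X b a (-c⁻¹) * (X b a c⁻¹ * m) := by group
        _ = X b a (t + c⁻¹) * w X b a (-c⁻¹) * (m * X (σ⁻¹ b) (σ⁻¹ a) s') := by
            rw [hX.add b a hne.symm, hs']
        _ = (X b a (t + c⁻¹) * (w X b a (-c⁻¹) * m)) * X (σ⁻¹ b) (σ⁻¹ a) s' := by group
        _ = u * m' * u' * X (σ⁻¹ b) (σ⁻¹ a) s' := by rw [he]
        _ = u * m' * (u' * X (σ⁻¹ b) (σ⁻¹ a) s') := by group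

end Cfsg.Agent.Lib.Helper23.StN
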