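import Cfsg.Agent.Lib.Helper49.StSpDefs

/-!
# K-StSp leaf C8 (S2545): `|B : T|` is a power of `p`

`B` = upper triangular symplectic matrices, `T` = diagonal ones.  The diagonal map
`B →* (Fin m ⊕ Fin m → F)` is a monoid hom whose kernel `U` (unitriangular) is a `p`-group and a
complement of `T` in `B`.
-/

set_option autoImplicit false
set_option linter.unusedSectionVars false
set_option linter.unusedVariables false

namespace Cfsg.Agent.Lib.Helper23.StSp

open Cfsg Cfsg.Agent.Lib.Helper49.StSp Matrix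
open scoped Pointwise

variable {m : ℕ} {F : Type*} [Field F]

theorem c8_pos_lt (a : Fin m ⊕ Fin m) : pos m a < 2 * m := by
  rcases a with i | i
  · have := i.2; simp only [pos]; omega
  · have := i.2; simp only [pos]; omega

/-- diagonal entries are multiplicative on `B` -/
theorem c8_diag_mul (g h : SpG m F) (hg : g ∈ Bsub m F) (hh : h ∈ Bsub m F)
    (a : Fin m ⊕ Fin m) :
    ((g * h : SpG m F).1 : Matrix (Fin m ⊕ Fin m) (Fin m ⊕ Fin m) F) a a =
      (g.1 : Matrix (Fin m ⊕ Fin m) (Fin m ⊕ Fin m) F) a a *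
        (h.1 : Matrix (Fin m ⊕ Fin m) (Fin m ⊕ Fin m) F) a a := by
  have e : ((g * h : SpG m F).1 : Matrix (Fin m ⊕ Fin m) (Fin m ⊕ Fin m) F) = g.1 * h.1 := rfl
  rw [e, Matrix.mul_apply, Finset.sum_eq_single a]
  · intro x _ hx
    rcases lt_or_gt_of_ne (fun e => hx (pos_injective m e)) with h1 | h1
    · rw [(mem_Bsub_iff g).1 hg a x h1, zero_mul]
    · rw [(mem_Bsub_iff h).1 hh x a h1, mul_zero]
  · intro h0; exact absurd (Finset.mem_univ a) h0

/-- the symplectic condition on the diagonal of an element of `B` -/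
theorem c8_diag_inl_inr (g : SpG m F) (hg : g ∈ Bsub m F) (i : Fin m) :
    (g.1 : Matrix (Fin m ⊕ Fin m) (Fin m ⊕ Fin m) F) (Sum.inl i) (Sum.inl i) *
      (g.1 : Matrix (Fin m ⊕ Fin m) (Fin m ⊕ Fin m) F) (Sum.inr i) (Sum.inr i) = 1 := by
  have h0 : Matrix.fromBlocks (g.1 : Matrix (Fin m ⊕ Fin m) (Fin m ⊕ Fin m) F).toBlocks₁₁
      (g.1 : Matrix (Fin m ⊕ Fin m) (Fin m ⊕ Fin m) F).toBlocks₁₂
      (g.1 : Matrix (Fin m ⊕ Fin m) (Fin m ⊕ Fin m) F).toBlocks₂₁
      (g.1 : Matrix (Fin m ⊕ Fin m) (Fin m ⊕ Fin m) F).toBlocks₂₂ ∈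
        Matrix.symplecticGroup (Fin m) F := by
    rw [Matrix.fromBlocks_toBlocks]; exact g.2
  have h1 := (SymplecticGroup.fromBlocks_mem_iff.1 h0).2.2
  have h2 := congrFun (congrFun h1 i) i
  rw [Matrix.sub_apply, Matrix.mul_apply, Matrix.mul_apply, Matrix.one_apply_eq] at h2
  have s1 : ∑ k, ((g.1 : Matrix (Fin m ⊕ Fin m) (Fin m ⊕ Fin m) F).toBlocks₁₁)ᵀ i k *
      (g.1 : Matrix (Fin m ⊕ Fin m) (Fin m ⊕ Fin m) F).toBlocks₂₂ k i =
      (g.1 : Matrix (Fin m ⊕ Fin m) (Fin m ⊕ Fin m) F) (Sum.inl i) (Sum.inl i) *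
        (g.1 : Matrix (Fin m ⊕ Fin m) (Fin m ⊕ Fin m) F) (Sum.inr i) (Sum.inr i) := by
    rw [Finset.sum_eq_single i]
    · rfl
    · intro k _ hk
      simp only [Matrix.transpose_apply, Matrix.toBlocks₁₁, Matrix.toBlocks₂₂, Matrix.of_apply]
      rcases lt_or_gt_of_ne hk with h | h
      · have hk2 := k.2
        have hi2 := i.2
        have hlt : k.val < i.val := h
        rw [(mem_Bsub_iff g).1 hg (Sum.inr k) (Sum.inr i) (by simp only [pos]; omega), mul_zero]
      · have hlt : i.val < k.val := h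
        rw [(mem_Bsub_iff g).1 hg (Sum.inl k) (Sum.inl i) (by simp only [pos]; omega), zero_mul]
    · intro h0; exact absurd (Finset.mem_univ i) h0
  have s2 : ∑ k, ((g.1 : Matrix (Fin m ⊕ Fin m) (Fin m ⊕ Fin m) F).toBlocks₂₁)ᵀ i k *
      (g.1 : Matrix (Fin m ⊕ Fin m) (Fin m ⊕ Fin m) F).toBlocks₁₂ k i = 0 := by
    refine Finset.sum_eq_zero fun k _ => ?_
    simp only [Matrix.transpose_apply, Matrix.toBlocks₂₁, Matrix.of_apply]
    have hk2 := k.2
    have hi2 := i.2
    rw [(mem_Bsub_iff g).1 hg (Sum.inr k) (Sum.inl i) (by simp only [pos]; omega), zero_mul]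
  rw [s1, s2, sub_zero] at h2
  exact h2

/-- a diagonal matrix with `d (inl i) * d (inr i) = 1` is symplectic -/
theorem c8_diagMat_mem (d : Fin m ⊕ Fin m → F) (hd : ∀ i, d (Sum.inl i) * d (Sum.inr i) = 1) :
    (Matrix.diagonal d : Matrix (Fin m ⊕ Fin m) (Fin m ⊕ Fin m) F) ∈
      Matrix.symplecticGroup (Fin m) F := by
  have e : (Matrix.diagonal d : Matrix (Fin m ⊕ Fin m) (Fin m ⊕ Fin m) F) =
      Matrix.fromBlocks (Matrix.diagonal (fun i => d (Sum.inl i))) 0 0
        (Matrix.diagonal (fun i => d (Sum.inr i))) := by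
    rw [Matrix.fromBlocks_diagonal]
    congr 1
    funext a
    cases a <;> rfl
  rw [e, SymplecticGroup.fromBlocks_mem_iff]
  refine ⟨by simp, by simp, ?_⟩
  rw [Matrix.transpose_zero, Matrix.zero_mul, sub_zero, Matrix.diagonal_transpose,
    Matrix.diagonal_mul_diagonal, ← Matrix.diagonal_one]
  exact congrArg _ (funext hd)

/-- the diagonal map on `B` -/
def c8_dhom (m : ℕ) (F : Type*) [Field F] : ↥(Bsub m F) →* (Fin m ⊕ Fin m → F) where
  toFun b := fun a => (b.1.1 : Matrix (Fin m ⊕ Fin m) (Fin m ⊕ Fin m) F) a a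
  map_one' := by
    funext a
    show (1 : Matrix (Fin m ⊕ Fin m) (Fin m ⊕ Fin m) F) a a = 1
    exact Matrix.one_apply_eq a
  map_mul' b c := by
    funext a
    exact c8_diag_mul b.1 c.1 b.2 c.2 a

theorem c8_dhom_apply (b : ↥(Bsub m F)) (a : Fin m ⊕ Fin m) :
    c8_dhom m F b a = (b.1.1 : Matrix (Fin m ⊕ Fin m) (Fin m ⊕ Fin m) F) a a := rfl

/-- a strictly upper triangular matrix: powers move further above the diagonal -/
theorem c8_strict_pow (N : Matrix (Fin m ⊕ Fin m) (Fin m ⊕ Fin m) F)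
    (hN : ∀ a b, pos m b ≤ pos m a → N a b = 0) (k : ℕ) :
    ∀ a b, pos m b < pos m a + k → (N ^ k) a b = 0 := by
  induction k with
  | zero =>
    intro a b h
    rw [pow_zero, Matrix.one_apply_ne]
    rintro rfl
    omega
  | succ k ih =>
    intro a b h
    rw [pow_succ, Matrix.mul_apply]
    refine Finset.sum_eq_zero fun x _ => ?_
    by_cases hx : pos m x < pos m a + k
    · rw [ih a x hx, zero_mul]
    · rw [hN x b (by omega), mul_zero]

theorem c8_strict_nilp (N : Matrix (Fin m ⊕ Fin m) (Fin m ⊕ Fin m) F)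
    (hN : ∀ a b, pos m b ≤ pos m a → N a b = 0) : N ^ (2 * m) = 0 := by
  ext a b
  rw [Matrix.zero_apply]
  exact c8_strict_pow N hN (2 * m) a b (lt_of_lt_of_le (c8_pos_lt b) (Nat.le_add_left _ _))

/-- unitriangular matrices have `p`-power order -/
theorem c8_unitri_pow (p : ℕ) [Fact p.Prime] [CharP F p]
    (u : Matrix (Fin m ⊕ Fin m) (Fin m ⊕ Fin m) F)
    (hu : ∀ a b, pos m b < pos m a → u a b = 0) (hd : ∀ a, u a a = 1) :
    u ^ p ^ (2 * m) = 1 := by
  rcases Nat.eq_zero_or_pos m with hm | hm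
  · subst hm
    exact Subsingleton.elim _ _
  · have : Nonempty (Fin m ⊕ Fin m) := ⟨Sum.inl ⟨0, hm⟩⟩
    have hN : ∀ a b, pos m b ≤ pos m a → (u - 1) a b = 0 := by
      intro a b hab
      rcases lt_or_eq_of_le hab with h | h
      · rw [Matrix.sub_apply, hu a b h, Matrix.one_apply_ne, sub_zero]
        rintro rfl
        exact lt_irrefl _ h
      · have : b = a := pos_injective m h
        subst this
        rw [Matrix.sub_apply, hd, Matrix.one_apply_eq, sub_self]
    have h0 : (u - 1) ^ p ^ (2 * m) = 0 := by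
      have hle : 2 * m ≤ p ^ (2 * m) :=
        le_of_lt (Nat.lt_pow_self (Fact.out : p.Prime).one_lt)
      obtain ⟨c, hc⟩ := Nat.exists_eq_add_of_le hle
      rw [hc, pow_add, c8_strict_nilp _ hN, zero_mul]
    rw [sub_pow_char_pow_of_commute (p := p) (h := Commute.one_right u), one_pow, sub_eq_zero] at h0
    exact h0

theorem relIndex_T_B [Fintype F] (p : ℕ) [Fact p.Prime] [CharP F p] :
    ∃ a : ℕ, (Tsub m F).relIndex (Bsub m F) = p ^ a := by
  classical
  have : Finite (SpG m F) := Finite.of_injective Subtype.val Subtype.val_injective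
  -- kernel of the diagonal map
  set K : Subgroup ↥(Bsub m F) := (c8_dhom m F).ker with hK
  set T' : Subgroup ↥(Bsub m F) := (Tsub m F).subgroupOf (Bsub m F) with hT'
  have hdisj : Disjoint K T' := by
    rw [Subgroup.disjoint_def]
    intro x hxK hxT
    have h1 : ∀ a, (x.1.1 : Matrix (Fin m ⊕ Fin m) (Fin m ⊕ Fin m) F) a a = 1 := by
      intro a
      have := congrFun ((MonoidHom.mem_ker).1 hxK) a
      exact this
    have h2 := (mem_Tsub_iff x.1).1 (Subgroup.mem_subgroupOf.1 hxT)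
    apply Subtype.ext
    apply Subtype.ext
    show (x.1.1 : Matrix (Fin m ⊕ Fin m) (Fin m ⊕ Fin m) F) = 1
    ext a b
    by_cases hab : a = b
    · subst hab
      rw [h1 a, Matrix.one_apply_eq]
    · rw [h2 a b hab, Matrix.one_apply_ne hab]
  have hmul : (K : Set ↥(Bsub m F)) * (T' : Set ↥(Bsub m F)) = Set.univ := by
    rw [Set.eq_univ_iff_forall]
    intro b
    -- the diagonal part of `b`
    have hdm : (Matrix.diagonal (fun a => (b.1.1 : Matrix (Fin m ⊕ Fin m) (Fin m ⊕ Fin m) F) a a) :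
        Matrix (Fin m ⊕ Fin m) (Fin m ⊕ Fin m) F) ∈ Matrix.symplecticGroup (Fin m) F :=
      c8_diagMat_mem _ (fun i => c8_diag_inl_inr b.1 b.2 i)
    let t0 : SpG m F := ⟨_, hdm⟩
    have ht0T : t0 ∈ Tsub m F := by
      rw [mem_Tsub_iff]
      intro a c hac
      exact Matrix.diagonal_apply_ne _ hac
    have ht0B : t0 ∈ Bsub m F := (inf_le_left : Tsub m F ≤ Bsub m F) ht0T
    let t : ↥(Bsub m F) := ⟨t0, ht0B⟩
    have htT' : t ∈ T' := Subgroup.mem_subgroupOf.2 ht0T
    have hdt : c8_dhom m F t = c8_dhom m F b := by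
      funext a
      show (Matrix.diagonal (fun a => (b.1.1 : Matrix (Fin m ⊕ Fin m) (Fin m ⊕ Fin m) F) a a) :
        Matrix (Fin m ⊕ Fin m) (Fin m ⊕ Fin m) F) a a = _
      rw [Matrix.diagonal_apply_eq]
      rfl
    have hbK : b * t⁻¹ ∈ K := by
      rw [hK, MonoidHom.mem_ker, map_mul, ← hdt, ← map_mul, mul_inv_cancel, map_one]
    exact ⟨b * t⁻¹, hbK, t, htT', by group⟩
  have hcomp : Subgroup.IsComplement' K T' :=
    Subgroup.isComplement'_of_disjoint_and_mul_eq_univ hdisj hmul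
  have hidx : (Tsub m F).relIndex (Bsub m F) = Nat.card K := hcomp.index_eq_card
  have hp : IsPGroup p K := by
    intro k
    refine ⟨2 * m, ?_⟩
    have hu := c8_unitri_pow p (k.1.1.1 : Matrix (Fin m ⊕ Fin m) (Fin m ⊕ Fin m) F)
      ((mem_Bsub_iff k.1.1).1 k.1.2)
      (fun a => congrFun ((MonoidHom.mem_ker).1 k.2) a)
    apply Subtype.ext
    apply Subtype.ext
    apply Subtype.ext
    exact hu
  obtain ⟨a, ha⟩ := (IsPGroup.iff_card).1 hp
  exact ⟨a, hidx.trans ha⟩

end Cfsg.Agent.Lib.Helper23.StSp
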