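import Cfsg.Agent.S1018
import Cfsg.Agent.Lib.Helper23.SylowInter
import Cfsg.Agent.Lib.Helper23.Counting
import Cfsg.Agent.Lib.Helper23.Orbits

namespace Cfsg.Agent.Lib.Helper23

open MulAction

/-- In a non-commutative simple group every proper subgroup has index at least any prime divisor
of the order. -/
theorem prime_le_index {G : Type*} [Group G] [Finite G] [IsSimpleGroup G]
    (hG : ¬ IsMulCommutative G) (p : ℕ) (hp : p.Prime) (hpG : p ∣ Nat.card G) (H : Subgroup G)
    (hH : H ≠ ⊤) : p ≤ H.index :=
  (hp.dvd_factorial).mp (hpG.trans (card_dvd_factorial_index hG H hH))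

/-- Sylow `p`-subgroup of order `p`, normalizer of order `p * q`, not centralizing: every element
of the normalizer outside `P` has order `q` and does not centralize `P`. -/
theorem orderOf_eq_of_mem_normalizer_notMem {G : Type*} [Group G] [Finite G] (p q : ℕ)
    [Fact p.Prime] (hq : q.Prime) (P : Sylow p G) (hP : Nat.card ↥(P : Subgroup G) = p)
    (hN : Nat.card ↥(Subgroup.normalizer ((P : Subgroup G) : Set G)) = p * q)
    (hNC : ¬ Subgroup.normalizer ((P : Subgroup G) : Set G) ≤
      Subgroup.centralizer ((P : Subgroup G) : Set G))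
    (g : G) (hgN : g ∈ Subgroup.normalizer ((P : Subgroup G) : Set G))
    (hgP : g ∉ (P : Subgroup G)) :
    orderOf g = q ∧ g ∉ Subgroup.centralizer ((P : Subgroup G) : Set G) := by
  have hp : p.Prime := Fact.out
  have hcomm : ∀ a ∈ (P : Subgroup G), ∀ b ∈ (P : Subgroup G), a * b = b * a := by
    intro a ha b hb
    have hc : IsCyclic ↥(P : Subgroup G) := isCyclic_of_prime_card (p := p) hP
    have := (IsCyclic.isMulCommutative (α := ↥(P : Subgroup G))).is_comm.comm ⟨a, ha⟩ ⟨b, hb⟩
    exact congrArg Subtype.val this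
  have hPC : (P : Subgroup G) ≤ Subgroup.centralizer ((P : Subgroup G) : Set G) := by
    intro a ha
    rw [Subgroup.mem_centralizer_iff]
    intro b hb
    exact hcomm b hb a ha
  have hnotC : g ∉ Subgroup.centralizer ((P : Subgroup G) : Set G) := by
    intro hgC
    apply hNC
    set K := Subgroup.centralizer ((P : Subgroup G) : Set G) ⊓
      Subgroup.normalizer ((P : Subgroup G) : Set G) with hK
    have hPK : (P : Subgroup G) ≤ K := le_inf hPC Subgroup.le_normalizer
    have hgK : g ∈ K := ⟨hgC, hgN⟩
    have h1 : Nat.card ↥(P : Subgroup G) ∣ Nat.card ↥K := Subgroup.card_dvd_of_le hPK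
    have h2 : Nat.card ↥K ∣ p * q := hN ▸ Subgroup.card_dvd_of_le inf_le_right
    rw [hP] at h1
    obtain ⟨k', hk'⟩ := h1
    rw [hk'] at h2
    have h3 : k' ∣ q := Nat.dvd_of_mul_dvd_mul_left hp.pos h2
    rcases (Nat.dvd_prime hq).mp h3 with h4 | h4
    · exfalso
      rw [h4, mul_one] at hk'
      have : (P : Subgroup G) = K := Subgroup.eq_of_le_of_card_ge hPK (by rw [hk', hP])
      exact hgP (this ▸ hgK)
    · rw [h4] at hk'
      have : K = Subgroup.normalizer ((P : Subgroup G) : Set G) :=
        Subgroup.eq_of_le_of_card_ge inf_le_right (by rw [hk', hN])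
      rw [← this]
      exact inf_le_left
  refine ⟨?_, hnotC⟩
  have hord : orderOf g ∣ p * q := by
    rw [← hN]
    exact Subgroup.orderOf_dvd_natCard _ hgN
  rcases dvd_prime_mul_prime hp hq hord with h | h | h | h
  · exfalso
    rw [orderOf_eq_one_iff] at h
    exact hgP (h ▸ Subgroup.one_mem _)
  · exfalso
    apply hgP
    apply mem_sylow_of_mem_normalizer P g _ hgN
    exact IsPGroup.of_card (n := 1) (by rw [Nat.card_zpowers, h, pow_one])
  · exact h
  · exfalso
    apply hnotC
    have h1 : orderOf (g ^ q) = p := by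
      rw [orderOf_pow' g hq.ne_zero, h, Nat.gcd_eq_right (Dvd.intro_left p rfl)]
      exact Nat.mul_div_cancel _ hq.pos
    have h2 : g ^ q ∈ (P : Subgroup G) := by
      apply mem_sylow_of_mem_normalizer P (g ^ q) _ (Subgroup.pow_mem _ hgN q)
      exact IsPGroup.of_card (n := 1) (by rw [Nat.card_zpowers, h1, pow_one])
    have h3 : g ^ q ≠ 1 := by
      intro h3
      rw [h3, orderOf_one] at h1
      exact hp.one_lt.ne h1
    have hgen := zpowers_eq_of_mem_of_card_eq_prime p P hP h2 h3
    rw [Subgroup.mem_centralizer_iff]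
    intro b hb
    have hb' : b ∈ Subgroup.zpowers (g ^ q) := by rw [hgen]; exact hb
    obtain ⟨k, rfl⟩ := Subgroup.mem_zpowers_iff.mp hb'
    have hc : Commute (g ^ q) g := (Commute.refl g).pow_left q
    exact (hc.zpow_left k).eq

/-- The number `k` of orbits of a Sylow subgroup `P` of order `p` on the cosets of its normalizer
satisfies `1 + p * (k - 1) ≤ n_p`. -/
theorem one_add_mul_card_orbits_le {G : Type*} [Group G] [Finite G] (p : ℕ) [Fact p.Prime]
    (P : Sylow p G) (hP : Nat.card ↥(P : Subgroup G) = p) :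
    1 + p * (Nat.card (orbitRel.Quotient ↥(P : Subgroup G)
      (G ⧸ Subgroup.normalizer ((P : Subgroup G) : Set G))) - 1) ≤ Nat.card (Sylow p G) := by
  classical
  have hp : p.Prime := Fact.out
  set X := G ⧸ Subgroup.normalizer ((P : Subgroup G) : Set G) with hX
  have hcardX : Nat.card X = Nat.card (Sylow p G) := by
    rw [card_sylow_eq_index_normalizer' p P]; rfl
  have : Fintype (orbitRel.Quotient ↥(P : Subgroup G) X) := Fintype.ofFinite _
  rw [← hcardX, Nat.card_congr (selfEquivSigmaOrbits' ↥(P : Subgroup G) X), Nat.card_sigma]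
  set c₀ : X := ((1 : G) : X) with hc₀
  set ω₀ : orbitRel.Quotient ↥(P : Subgroup G) X := Quotient.mk'' c₀ with hω₀
  -- a generator of P
  obtain ⟨y, hyP, hy1⟩ : ∃ y ∈ (P : Subgroup G), y ≠ 1 := by
    have hne : (P : Subgroup G) ≠ ⊥ := by
      intro hb
      rw [hb] at hP
      simp at hP
      exact hp.one_lt.ne hP
    obtain ⟨⟨a, ha1⟩, ha⟩ := Subgroup.ne_bot_iff_exists_ne_one.mp hne
    exact ⟨a, ha1, fun h => ha (Subtype.ext h)⟩
  have hyo : orderOf y = p := orderOf_eq_of_mem_of_card_eq_prime p P hP hyP hy1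
  have hfix := (Cfsg.Agent.S1018.result p P hP).1 y hyo
  have hc₀fix : c₀ ∈ fixedBy X y := by
    show y • c₀ = c₀
    rw [hc₀, MulAction.Quotient.smul_mk, smul_eq_mul, mul_one, QuotientGroup.eq, mul_one]
    exact Subgroup.inv_mem _ (Subgroup.le_normalizer hyP)
  have hlarge : ∀ ω : orbitRel.Quotient ↥(P : Subgroup G) X, ω ≠ ω₀ →
      p ≤ Nat.card ↥(orbitRel.Quotient.orbit ω) := by
    intro ω hω
    induction ω using Quotient.inductionOn' with
    | h c =>
      rw [orbitRel.Quotient.orbit_mk]
      obtain ⟨k, hk⟩ := P.2.card_orbit (α := X) c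
      rw [hk]
      rcases Nat.eq_zero_or_pos k with hk0 | hk0
      · exfalso
        apply hω
        rw [hk0, pow_zero] at hk
        -- c is fixed by y
        have hcfix : c ∈ fixedBy X y := by
          show y • c = c
          have h1 : (⟨y, hyP⟩ : ↥(P : Subgroup G)) • c ∈ orbit ↥(P : Subgroup G) c :=
            mem_orbit c _
          have h2 : c ∈ orbit ↥(P : Subgroup G) c := mem_orbit_self c
          have hsub : Subsingleton ↥(orbit ↥(P : Subgroup G) c) :=
            (Nat.card_eq_one_iff_unique.mp hk).1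
          have := congrArg Subtype.val (hsub.elim ⟨_, h1⟩ ⟨_, h2⟩)
          exact this
        have hsub : Subsingleton ↥(fixedBy X y) := (Nat.card_eq_one_iff_unique.mp hfix).1
        have := congrArg Subtype.val (hsub.elim ⟨c, hcfix⟩ ⟨c₀, hc₀fix⟩)
        rw [hω₀]
        exact congrArg _ this
      · calc p = p ^ 1 := (pow_one p).symm
          _ ≤ p ^ k := Nat.pow_le_pow_right hp.pos hk0
  calc 1 + p * (Nat.card (orbitRel.Quotient ↥(P : Subgroup G) X) - 1)
      = ∑ ω : orbitRel.Quotient ↥(P : Subgroup G) X, (if ω = ω₀ then 1 else p) := by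
        rw [Finset.sum_ite, Finset.sum_const, Finset.sum_const, Finset.filter_eq',
          if_pos (Finset.mem_univ _), Finset.card_singleton, Finset.filter_ne',
          Finset.card_erase_of_mem (Finset.mem_univ _), Finset.card_univ,
          Nat.card_eq_fintype_card]
        simp [mul_comm]
    _ ≤ ∑ ω : orbitRel.Quotient ↥(P : Subgroup G) X, Nat.card ↥(orbitRel.Quotient.orbit ω) := by
        apply Finset.sum_le_sum
        intro ω _
        split_ifs with h
        · rw [h, hω₀, orbitRel.Quotient.orbit_mk]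
          have : Nonempty ↥(orbit ↥(P : Subgroup G) c₀) := ⟨⟨c₀, mem_orbit_self c₀⟩⟩
          exact Nat.card_pos
        · exact hlarge ω h

end Cfsg.Agent.Lib.Helper23
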