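import Mathlib
import Cfsg.Agent.Lib.Helper40.T1904Defs

/-!
# K-S1904-3: existence of a maximal A-invariant normal abelian subgroup above the centre
-/

set_option autoImplicit false

namespace Cfsg.Agent.Lib.Helper23.T1904

open Cfsg.Agent.Lib.Helper40.T1904

universe u_1

variable {X : Type u_1} [Group X]

theorem exists_maxInv [Finite X] (A : Subgroup (MulAut X)) :
    ∃ B : Subgroup X, MaxInv A B ∧ Subgroup.center X ≤ B := by
  classical
  let S : Set (Subgroup X) :=
    {N | N.Normal ∧ Ab N ∧ Inv A N ∧ Subgroup.center X ≤ N}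
  have hfin : S.Finite := Set.toFinite S
  have hne : S.Nonempty := by
    refine ⟨Subgroup.center X, inferInstance, ?_, ?_, le_refl _⟩
    · intro a ha b _
      exact (Subgroup.mem_center_iff.mp ha b).symm
    · intro φ _ n hn
      rw [Subgroup.mem_center_iff] at hn ⊢
      intro g
      have h1 := hn (φ.symm g)
      have h2 := congrArg φ h1
      simpa using h2
  obtain ⟨B, hB⟩ := hfin.exists_maximal hne
  obtain ⟨⟨hBn, hBa, hBi, hBz⟩, hmax⟩ := hB
  refine ⟨B, ⟨hBn, hBa, hBi, ?_⟩, hBz⟩
  intro N hNn hNa hNi hBN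
  have hNS : N ∈ S := ⟨hNn, hNa, hNi, hBz.trans hBN⟩
  exact le_antisymm (hmax hNS hBN) hBN

end Cfsg.Agent.Lib.Helper23.T1904
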