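import Mathlib
import Cfsg.Agent.Lib.Helper40.T1904Defs
import Cfsg.Agent.Lib.Helper33.PGroupBasic

/-!
# K-S1904-10: in case beta with `B` of exponent `> 2`, `B` is self-centralizing
-/

set_option autoImplicit false
set_option linter.style.haveILetI false

namespace Cfsg.Agent.Lib.Helper23.T1904

open Cfsg.Agent.Lib.Helper40.T1904
open scoped commutatorElement

universe u_1

variable {X : Type u_1} [Group X]

/-- four distinct elements exhaust a type with at most four elements -/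
theorem mem_of_four {α : Type*} [Finite α] (h4 : Nat.card α ≤ 4) (a b c d : α)
    (hab : a ≠ b) (hac : a ≠ c) (had : a ≠ d) (hbc : b ≠ c) (hbd : b ≠ d) (hcd : c ≠ d) (x : α) :
    x = a ∨ x = b ∨ x = c ∨ x = d := by
  classical
  have : Fintype α := Fintype.ofFinite α
  have hT : ({a, b, c, d} : Finset α).card = 4 := by
    rw [Finset.card_insert_of_notMem, Finset.card_insert_of_notMem, Finset.card_insert_of_notMem,
      Finset.card_singleton]
    · simp only [Finset.mem_singleton]; exact hcd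
    · simp only [Finset.mem_insert, Finset.mem_singleton, not_or]; exact ⟨hbc, hbd⟩
    · simp only [Finset.mem_insert, Finset.mem_singleton, not_or]; exact ⟨hab, hac, had⟩
  have hTuniv : ({a, b, c, d} : Finset α) = Finset.univ := by
    apply Finset.eq_univ_of_card
    rw [hT]
    apply le_antisymm
    · rw [← hT]; exact Finset.card_le_univ _
    · rw [← Nat.card_eq_fintype_card]; exact h4
  have hx : x ∈ ({a, b, c, d} : Finset α) := by rw [hTuniv]; exact Finset.mem_univ _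
  simpa only [Finset.mem_insert, Finset.mem_singleton] using hx

/-- In case beta the elements of square one of a normal abelian `N ≥ B` are `1, t, φ t, t * φ t`. -/
theorem four_of_invol [Finite X] {A : Subgroup (MulAut X)} (h : Ctx X A) (B : Subgroup X)
    (hBa : Ab B) (hBi : Inv A B) (hfpf : Fpf A B)
    (N : Subgroup X) (hNn : N.Normal) (hNa : Ab N) (hBN : B ≤ N)
    (t : X) (htB : t ∈ B) (ht2 : t * t = 1) (ht1 : t ≠ 1) :
    ∃ φ ∈ A, φ t ≠ t ∧ ∀ v ∈ N, v * v = 1 → v = 1 ∨ v = t ∨ v = φ t ∨ v = t * φ t := by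
  have hex : ∃ φ ∈ A, φ t ≠ t := by
    by_contra hno
    push Not at hno
    exact ht1 (hfpf t htB hno)
  obtain ⟨φ, hφ, hφt⟩ := hex
  refine ⟨φ, hφ, hφt, ?_⟩
  have hφB : φ t ∈ B := hBi φ hφ t htB
  have hφ2 : φ t * φ t = 1 := by rw [← map_mul, ht2, map_one]
  have hφ1 : φ t ≠ 1 := fun hh => ht1 ((map_eq_one_iff φ φ.injective).mp hh)
  have hcomm : t * φ t = φ t * t := hBa t htB _ hφB
  have hp2 : (t * φ t) * (t * φ t) = 1 := by
    calc (t * φ t) * (t * φ t) = t * (φ t * t) * φ t := by group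
      _ = t * (t * φ t) * φ t := by rw [hcomm]
      _ = (t * t) * (φ t * φ t) := by group
      _ = 1 := by rw [ht2, hφ2, one_mul]
  let S := {x : X // x ∈ N ∧ x * x = 1}
  let e1 : S := ⟨1, N.one_mem, by simp⟩
  let e2 : S := ⟨t, hBN htB, ht2⟩
  let e3 : S := ⟨φ t, hBN hφB, hφ2⟩
  let e4 : S := ⟨t * φ t, hBN (B.mul_mem htB hφB), hp2⟩
  have d12 : e1 ≠ e2 := fun hh => ht1 (congrArg Subtype.val hh).symm
  have d13 : e1 ≠ e3 := fun hh => hφ1 (congrArg Subtype.val hh).symm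
  have d14 : e1 ≠ e4 := by
    intro hh
    have h1 : (1 : X) = t * φ t := congrArg Subtype.val hh
    apply hφt
    have : t * φ t = t * t := by rw [ht2, ← h1]
    exact mul_left_cancel this
  have d23 : e2 ≠ e3 := fun hh => hφt (congrArg Subtype.val hh).symm
  have d24 : e2 ≠ e4 := by
    intro hh
    have h1 : t = t * φ t := congrArg Subtype.val hh
    apply hφ1
    have : t * φ t = t * 1 := by rw [mul_one, ← h1]
    exact mul_left_cancel this
  have d34 : e3 ≠ e4 := by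
    intro hh
    have h1 : φ t = t * φ t := congrArg Subtype.val hh
    apply ht1
    have : t * φ t = 1 * φ t := by rw [one_mul, ← h1]
    exact mul_right_cancel this
  intro v hvN hv2
  have := mem_of_four (h.hR N hNn hNa) e1 e2 e3 e4 d12 d13 d14 d23 d24 d34 ⟨v, hvN, hv2⟩
  rcases this with h5 | h5 | h5 | h5
  · left; exact congrArg Subtype.val h5
  · right; left; exact congrArg Subtype.val h5
  · right; right; left; exact congrArg Subtype.val h5
  · right; right; right; exact congrArg Subtype.val h5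

/-- a nontrivial element of a 2-group has a power which is an involution -/
theorem exists_pow_invol [Finite X] (hX : IsPGroup 2 X) (y : X) (hy : y ≠ 1) :
    ∃ j : ℕ, y ^ j ≠ 1 ∧ y ^ j * y ^ j = 1 := by
  obtain ⟨k, hk⟩ := (IsPGroup.iff_orderOf.mp hX) y
  have hk0 : k ≠ 0 := by
    intro hk0
    rw [hk0, pow_zero, orderOf_eq_one_iff] at hk
    exact hy hk
  obtain ⟨k', rfl⟩ := Nat.exists_eq_succ_of_ne_zero hk0
  refine ⟨2 ^ k', ?_, ?_⟩
  · apply pow_ne_one_of_lt_orderOf (by positivity)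
    rw [hk, pow_succ]
    have : 0 < 2 ^ k' := by positivity
    omega
  · rw [← pow_add, ← two_mul, ← pow_succ', ← hk, pow_orderOf_eq_one]

/-- In case beta with `B` of exponent `> 2`, every element of square one of `B` is a square in `B`. -/
theorem invol_is_square [Finite X] {A : Subgroup (MulAut X)} (h : Ctx X A) (B : Subgroup X)
    (hBn : B.Normal) (hBa : Ab B) (hBi : Inv A B) (hfpf : Fpf A B) (hexp : ∃ b ∈ B, b * b ≠ 1)
    (v : X) (hvB : v ∈ B) (hv2 : v * v = 1) : ∃ d ∈ B, d * d = v := by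
  obtain ⟨b0, hb0B, hb0⟩ := hexp
  obtain ⟨j, hj1, hj2⟩ := exists_pow_invol h.h2 (b0 * b0) hb0
  have hsqpow : ∀ n : ℕ, (b0 * b0) ^ n = b0 ^ n * b0 ^ n := by
    intro n
    rw [← pow_two, ← pow_mul, mul_comm, pow_mul, pow_two]
  set t := (b0 * b0) ^ j with ht
  have htB : t ∈ B := B.pow_mem (B.mul_mem hb0B hb0B) j
  obtain ⟨φ, hφ, hφt, hall⟩ := four_of_invol h B hBa hBi hfpf B hBn hBa (le_refl B) t htB hj2 hj1
  have htsq : t = b0 ^ j * b0 ^ j := hsqpow j
  have hbjB : b0 ^ j ∈ B := B.pow_mem hb0B j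
  rcases hall v hvB hv2 with hv | hv | hv | hv
  · exact ⟨1, B.one_mem, by rw [hv, mul_one]⟩
  · exact ⟨b0 ^ j, hbjB, by rw [hv, htsq]⟩
  · refine ⟨φ (b0 ^ j), hBi φ hφ _ hbjB, ?_⟩
    rw [hv, htsq, map_mul]
  · refine ⟨b0 ^ j * φ (b0 ^ j), B.mul_mem hbjB (hBi φ hφ _ hbjB), ?_⟩
    have hc : φ (b0 ^ j) * b0 ^ j = b0 ^ j * φ (b0 ^ j) := hBa _ (hBi φ hφ _ hbjB) _ hbjB
    rw [hv, htsq, map_mul]
    calc b0 ^ j * φ (b0 ^ j) * (b0 ^ j * φ (b0 ^ j))
        = b0 ^ j * (φ (b0 ^ j) * b0 ^ j) * φ (b0 ^ j) := by group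
      _ = b0 ^ j * (b0 ^ j * φ (b0 ^ j)) * φ (b0 ^ j) := by rw [hc]
      _ = b0 ^ j * b0 ^ j * (φ (b0 ^ j) * φ (b0 ^ j)) := by group

/-- the squaring endomorphism of the abelian group `B` -/
noncomputable def sqHom (B : Subgroup X) (hBa : Ab B) : ↥B →* ↥B :=
  MonoidHom.mk' (fun b => b * b) (by
    intro a b
    apply Subtype.ext
    have hc : (b : X) * (a : X) = (a : X) * (b : X) := hBa _ b.2 _ a.2
    show ((a : X) * (b : X)) * ((a : X) * (b : X)) = ((a : X) * (a : X)) * ((b : X) * (b : X))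
    calc ((a : X) * (b : X)) * ((a : X) * (b : X)) = (a : X) * ((b : X) * (a : X)) * (b : X) := by group
      _ = (a : X) * ((a : X) * (b : X)) * (b : X) := by rw [hc]
      _ = ((a : X) * (a : X)) * ((b : X) * (b : X)) := by group)

theorem sqHom_apply (B : Subgroup X) (hBa : Ab B) (b : ↥B) : sqHom B hBa b = b * b := rfl

theorem normal_of_ab (B : Subgroup X) (hBa : Ab B) (N : Subgroup ↥B) : N.Normal := by
  refine ⟨fun n hn g => ?_⟩
  have : g * n * g⁻¹ = n := by
    apply Subtype.ext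
    show (g : X) * (n : X) * (g : X)⁻¹ = (n : X)
    rw [hBa _ g.2 _ n.2, mul_assoc, mul_inv_cancel, mul_one]
  rw [this]; exact hn

theorem card_quot_sq_le [Finite X] (B : Subgroup X) (hBa : Ab B)
    (h4 : Nat.card {t : X // t ∈ B ∧ t * t = 1} ≤ 4) :
    (sqHom B hBa).range.index ≤ 4 := by
  have h1 : Nat.card (sqHom B hBa).ker * (sqHom B hBa).ker.index = Nat.card ↥B :=
    Subgroup.card_mul_index _
  have h2 : Nat.card (sqHom B hBa).range * (sqHom B hBa).range.index = Nat.card ↥B :=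
    Subgroup.card_mul_index _
  have h3 : (sqHom B hBa).ker.index = Nat.card (sqHom B hBa).range := Subgroup.index_ker _
  have hpos : 0 < Nat.card (sqHom B hBa).range := Nat.card_pos
  have h5 : (sqHom B hBa).range.index = Nat.card (sqHom B hBa).ker := by
    have : Nat.card (sqHom B hBa).range * (sqHom B hBa).range.index =
        Nat.card (sqHom B hBa).range * Nat.card (sqHom B hBa).ker := by
      rw [h2, ← h1, h3, mul_comm]
    exact Nat.eq_of_mul_eq_mul_left hpos this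
  rw [h5]
  refine le_trans ?_ h4
  have hf : ∀ b : (sqHom B hBa).ker, ((b : ↥B) : X) ∈ B ∧ ((b : ↥B) : X) * ((b : ↥B) : X) = 1 := by
    intro b
    refine ⟨(b : ↥B).2, ?_⟩
    have hb : sqHom B hBa (b : ↥B) = 1 := MonoidHom.mem_ker.mp b.2
    rw [sqHom_apply] at hb
    exact congrArg Subtype.val hb
  let f : (sqHom B hBa).ker → {t : X // t ∈ B ∧ t * t = 1} := fun b => ⟨((b : ↥B) : X), hf b⟩
  apply Nat.card_le_card_of_injective f
  intro a b hab
  apply Subtype.ext
  apply Subtype.ext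
  have := congrArg Subtype.val hab
  exact this

/-- existence of an element of `C_X(B)` outside `B` of order two modulo `B` and central modulo `B` -/
theorem exists_k [Finite X] (hX : IsPGroup 2 X) (B : Subgroup X) [hBn : B.Normal] (x0 : X)
    (hx0c : ∀ b ∈ B, x0 * b = b * x0) (hx0B : x0 ∉ B) :
    ∃ k : X, (∀ b ∈ B, k * b = b * k) ∧ k ∉ B ∧ k * k ∈ B ∧ ∀ x : X, ⁅k, x⁆ ∈ B := by
  haveI : Fact (Nat.Prime 2) := ⟨Nat.prime_two⟩
  let C : Subgroup X := Subgroup.centralizer (B : Set X)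
  have hCn : C.Normal := inferInstance
  let N : Subgroup (X ⧸ B) := C.map (QuotientGroup.mk' B)
  haveI hNn : N.Normal := Subgroup.Normal.map hCn _ (QuotientGroup.mk'_surjective B)
  have hx0C : x0 ∈ C := by
    rw [Subgroup.mem_centralizer_iff]
    intro b hb
    exact (hx0c b hb).symm
  have hN : N ≠ ⊥ := by
    intro hbot
    have h1 : (QuotientGroup.mk' B x0) ∈ N := Subgroup.mem_map_of_mem _ hx0C
    rw [hbot, Subgroup.mem_bot, QuotientGroup.mk'_apply, QuotientGroup.eq_one_iff] at h1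
    exact hx0B h1
  have hQ : IsPGroup 2 (X ⧸ B) := hX.to_quotient B
  obtain ⟨z, hzN, hzc, hz1⟩ := Cfsg.Agent.Lib.Helper33.exists_mem_center_of_normal hQ N hN
  obtain ⟨j, hj1, hj2⟩ := exists_pow_invol hQ z hz1
  have hzjN : z ^ j ∈ N := N.pow_mem hzN j
  have hzjc : z ^ j ∈ Subgroup.center (X ⧸ B) := (Subgroup.center (X ⧸ B)).pow_mem hzc j
  obtain ⟨k, hkC, hkz⟩ := Subgroup.mem_map.mp hzjN
  rw [QuotientGroup.mk'_apply] at hkz
  refine ⟨k, ?_, ?_, ?_, ?_⟩
  · intro b hb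
    rw [Subgroup.mem_centralizer_iff] at hkC
    exact (hkC b hb).symm
  · intro hkB
    apply hj1
    rw [← hkz, QuotientGroup.eq_one_iff]
    exact hkB
  · rw [← QuotientGroup.eq_one_iff, QuotientGroup.mk_mul, hkz]
    exact hj2
  · intro x
    rw [← QuotientGroup.eq_one_iff, commutatorElement_def, QuotientGroup.mk_mul, QuotientGroup.mk_mul,
      QuotientGroup.mk_mul, QuotientGroup.mk_inv, QuotientGroup.mk_inv, hkz]
    rw [Subgroup.mem_center_iff] at hzjc
    rw [← hzjc (QuotientGroup.mk x)]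
    group

/-- membership predicate of the subgroup `K` (preimage of `Ω₁(Z(X/B)) ∩ C_X(B)/B`) -/
def InK (B : Subgroup X) (k : X) : Prop :=
  (∀ b ∈ B, k * b = b * k) ∧ k * k ∈ B ∧ ∀ x : X, ⁅k, x⁆ ∈ B

theorem inK_of_mem (B : Subgroup X) [hBn : B.Normal] (hBa : Ab B) (b : X) (hb : b ∈ B) : InK B b := by
  refine ⟨fun b' hb' => hBa b hb b' hb', B.mul_mem hb hb, fun x => ?_⟩
  rw [commutatorElement_def]
  have : b * x * b⁻¹ * x⁻¹ = b * (x * b⁻¹ * x⁻¹) := by group
  rw [this]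
  exact B.mul_mem hb (hBn.conj_mem _ (B.inv_mem hb) x)

theorem InK.mul {B : Subgroup X} [hBn : B.Normal] {k l : X} (hk : InK B k) (hl : InK B l) :
    InK B (k * l) := by
  refine ⟨fun b hb => ?_, ?_, fun x => ?_⟩
  · calc k * l * b = k * (l * b) := by group
      _ = k * (b * l) := by rw [hl.1 b hb]
      _ = (k * b) * l := by group
      _ = (b * k) * l := by rw [hk.1 b hb]
      _ = b * (k * l) := by group
  · have h1 : ⁅l, k⁻¹⁆ ∈ B := hl.2.2 k⁻¹
    have h2 : k * l * (k * l) = (k * k) * (⁅l, k⁻¹⁆)⁻¹ * (l * l) := by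
      rw [commutatorElement_def]; group
    rw [h2]
    exact B.mul_mem (B.mul_mem hk.2.1 (B.inv_mem h1)) hl.2.1
  · have h1 : ⁅k * l, x⁆ = k * ⁅l, x⁆ * k⁻¹ * ⁅k, x⁆ := by
      rw [commutatorElement_def, commutatorElement_def, commutatorElement_def]; group
    rw [h1]
    exact B.mul_mem (hBn.conj_mem _ (hl.2.2 x) k) (hk.2.2 x)

theorem InK.inv {B : Subgroup X} [hBn : B.Normal] {k : X} (hk : InK B k) : InK B k⁻¹ := by
  refine ⟨fun b hb => ?_, ?_, fun x => ?_⟩
  · have := hk.1 b hb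
    calc k⁻¹ * b = k⁻¹ * (b * k) * k⁻¹ := by group
      _ = k⁻¹ * (k * b) * k⁻¹ := by rw [this]
      _ = b * k⁻¹ := by group
  · have : k⁻¹ * k⁻¹ = (k * k)⁻¹ := by group
    rw [this]; exact B.inv_mem hk.2.1
  · have h1 : ⁅k⁻¹, x⁆ = k⁻¹ * (⁅k, x⁆)⁻¹ * k⁻¹⁻¹ := by
      rw [commutatorElement_def, commutatorElement_def]; group
    rw [h1]
    exact hBn.conj_mem _ (B.inv_mem (hk.2.2 x)) k⁻¹

theorem InK.conj {B : Subgroup X} [hBn : B.Normal] {k : X} (hk : InK B k) (g : X) :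
    InK B (g * k * g⁻¹) := by
  refine ⟨fun b hb => ?_, ?_, fun x => ?_⟩
  · have hb' : g⁻¹ * b * g⁻¹⁻¹ ∈ B := hBn.conj_mem b hb g⁻¹
    have := hk.1 _ hb'
    calc g * k * g⁻¹ * b = g * (k * (g⁻¹ * b * g⁻¹⁻¹)) * g⁻¹ := by group
      _ = g * ((g⁻¹ * b * g⁻¹⁻¹) * k) * g⁻¹ := by rw [this]
      _ = b * (g * k * g⁻¹) := by group
  · have : g * k * g⁻¹ * (g * k * g⁻¹) = g * (k * k) * g⁻¹ := by group
    rw [this]; exact hBn.conj_mem _ hk.2.1 g
  · have h1 : ⁅g * k * g⁻¹, x⁆ = g * ⁅k, g⁻¹ * x * g⁆ * g⁻¹ := by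
      rw [commutatorElement_def, commutatorElement_def]; group
    rw [h1]
    exact hBn.conj_mem _ (hk.2.2 _) g

theorem InK.aut {B : Subgroup X} {A : Subgroup (MulAut X)} (hBi : Inv A B) {k : X} (hk : InK B k)
    (φ : MulAut X) (hφ : φ ∈ A) : InK B (φ k) := by
  refine ⟨fun b hb => ?_, ?_, fun x => ?_⟩
  · have hb' : φ⁻¹ b ∈ B := hBi φ⁻¹ (A.inv_mem hφ) b hb
    have hbb : φ (φ⁻¹ b) = b := by
      rw [← MulAut.mul_apply, mul_inv_cancel, MulAut.one_apply]
    have := hk.1 _ hb'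
    calc φ k * b = φ k * φ (φ⁻¹ b) := by rw [hbb]
      _ = φ (k * φ⁻¹ b) := by rw [map_mul]
      _ = φ (φ⁻¹ b * k) := by rw [this]
      _ = b * φ k := by rw [map_mul, hbb]
  · rw [← map_mul]; exact hBi φ hφ _ hk.2.1
  · have hxx : φ (φ⁻¹ x) = x := by
      rw [← MulAut.mul_apply, mul_inv_cancel, MulAut.one_apply]
    have h1 : ⁅φ k, x⁆ = φ ⁅k, φ⁻¹ x⁆ := by
      rw [map_commutatorElement, hxx]
    rw [h1]
    exact hBi φ hφ _ (hk.2.2 _)

/-- the subgroup `K` -/
def Ksub (B : Subgroup X) [hBn : B.Normal] : Subgroup X where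
  carrier := {k | InK B k}
  mul_mem' := fun hk hl => InK.mul hk hl
  one_mem' := by
    refine ⟨fun b _ => by rw [one_mul, mul_one], by rw [one_mul]; exact B.one_mem, fun x => ?_⟩
    rw [commutatorElement_def]
    have : (1 : X) * x * 1⁻¹ * x⁻¹ = 1 := by group
    rw [this]; exact B.one_mem
  inv_mem' := fun hk => InK.inv hk

theorem mem_Ksub (B : Subgroup X) [hBn : B.Normal] (k : X) : k ∈ Ksub B ↔ InK B k := Iff.rfl

/-- class two identities in `K` -/
theorem pair_facts {B : Subgroup X} {k l : X} (hk : InK B k) (hl : InK B l) :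
    ⁅k, l⁆ ∈ B ∧ ⁅k, l⁆ * ⁅k, l⁆ = 1 ∧ (k * l) * (k * l) = ⁅k, l⁆ * ((k * k) * (l * l)) := by
  have hcB : ⁅k, l⁆ ∈ B := hk.2.2 l
  obtain ⟨c, hc⟩ : ∃ c, c = ⁅k, l⁆ := ⟨_, rfl⟩
  rw [← hc] at hcB ⊢
  have hkc : k * c = c * k := hk.1 c hcB
  have hlc : l * c = c * l := hl.1 c hcB
  have E1 : k * l = c * l * k := by rw [hc, commutatorElement_def]; group
  have hcc : c * c = 1 := by
    have hkkl : l * (k * k) = (k * k) * l := hl.1 _ hk.2.1
    have h1 : (k * k) * l = c * c * ((k * k) * l) := by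
      calc (k * k) * l = k * (k * l) := by group
        _ = k * (c * l * k) := by rw [← E1]
        _ = (k * c) * l * k := by group
        _ = (c * k) * l * k := by rw [hkc]
        _ = c * (k * l) * k := by group
        _ = c * (c * l * k) * k := by rw [← E1]
        _ = c * c * (l * (k * k)) := by group
        _ = c * c * ((k * k) * l) := by rw [hkkl]
    have h2 : 1 * ((k * k) * l) = c * c * ((k * k) * l) := by rw [one_mul]; exact h1
    exact (mul_right_cancel h2).symm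
  refine ⟨hcB, hcc, ?_⟩
  have hcinv : c⁻¹ = c := by
    rw [inv_eq_iff_mul_eq_one]; exact hcc
  have E2 : l * k = c⁻¹ * (k * l) := by rw [hc, commutatorElement_def]; group
  calc (k * l) * (k * l) = k * (l * k) * l := by group
    _ = k * (c⁻¹ * (k * l)) * l := by rw [E2]
    _ = k * (c * (k * l)) * l := by rw [hcinv]
    _ = (k * c) * k * l * l := by group
    _ = (c * k) * k * l * l := by rw [hkc]
    _ = c * ((k * k) * (l * l)) := by group

theorem comm_mul_left {B : Subgroup X} {k k' l : X} (hk : InK B k) (hk' : InK B k') :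
    ⁅k * k', l⁆ = ⁅k', l⁆ * ⁅k, l⁆ := by
  have hcB : ⁅k', l⁆ ∈ B := hk'.2.2 l
  obtain ⟨c, hc⟩ : ∃ c, c = ⁅k', l⁆ := ⟨_, rfl⟩
  rw [← hc] at hcB ⊢
  have hkc : k * c = c * k := hk.1 c hcB
  have h1 : ⁅k * k', l⁆ = (k * c) * l * k⁻¹ * l⁻¹ := by
    rw [hc, commutatorElement_def, commutatorElement_def]; group
  rw [h1, hkc, commutatorElement_def]; group

theorem comm_of_mem {B : Subgroup X} {b l : X} (hb : b ∈ B) (hl : InK B l) : ⁅b, l⁆ = 1 := by
  rw [commutatorElement_def]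
  have := hl.1 b hb
  calc b * l * b⁻¹ * l⁻¹ = (b * l) * b⁻¹ * l⁻¹ := by group
    _ = (l * b) * b⁻¹ * l⁻¹ := by rw [this]
    _ = 1 := by group

/-- adjoining to `B` an involution `t` of `K` gives a normal abelian subgroup -/
theorem ext_by_invol (B : Subgroup X) [hBn : B.Normal] (hBa : Ab B) (t : X) (ht : InK B t)
    (ht2 : t * t = 1) : ∃ N : Subgroup X, N.Normal ∧ Ab N ∧ B ≤ N ∧ t ∈ N := by
  have htinv : t⁻¹ = t := inv_eq_iff_mul_eq_one.mpr ht2
  have htb : ∀ b ∈ B, t * b = b * t := ht.1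
  let N : Subgroup X :=
    { carrier := {n | ∃ b ∈ B, b = n ∨ b * t = n}
      mul_mem' := by
        rintro n n' ⟨b, hb, rfl | rfl⟩ ⟨b', hb', rfl | rfl⟩
        · exact ⟨b * b', B.mul_mem hb hb', Or.inl rfl⟩
        · exact ⟨b * b', B.mul_mem hb hb', Or.inr (by group)⟩
        · refine ⟨b * b', B.mul_mem hb hb', Or.inr (Eq.symm ?_)⟩
          calc b * t * b' = b * (t * b') := by group
            _ = b * (b' * t) := by rw [htb b' hb']
            _ = b * b' * t := by group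
        · refine ⟨b * b', B.mul_mem hb hb', Or.inl (Eq.symm ?_)⟩
          calc b * t * (b' * t) = b * (t * b') * t := by group
            _ = b * (b' * t) * t := by rw [htb b' hb']
            _ = b * b' * (t * t) := by group
            _ = b * b' := by rw [ht2, mul_one]
      one_mem' := ⟨1, B.one_mem, Or.inl rfl⟩
      inv_mem' := by
        rintro n ⟨b, hb, rfl | rfl⟩
        · exact ⟨b⁻¹, B.inv_mem hb, Or.inl rfl⟩
        · refine ⟨b⁻¹, B.inv_mem hb, Or.inr (Eq.symm ?_)⟩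
          calc (b * t)⁻¹ = t⁻¹ * b⁻¹ := by group
            _ = t * b⁻¹ := by rw [htinv]
            _ = b⁻¹ * t := htb _ (B.inv_mem hb) }
  refine ⟨N, ?_, ?_, ?_, ?_⟩
  · refine ⟨?_⟩
    rintro n ⟨b, hb, rfl | rfl⟩ g
    · exact ⟨g * b * g⁻¹, hBn.conj_mem b hb g, Or.inl rfl⟩
    · refine ⟨g * b * g⁻¹ * (⁅t, g⁆)⁻¹,
        B.mul_mem (hBn.conj_mem b hb g) (B.inv_mem (ht.2.2 g)), Or.inr ?_⟩
      rw [commutatorElement_def]; group
  · rintro n ⟨b, hb, rfl | rfl⟩ n' ⟨b', hb', rfl | rfl⟩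
    · exact hBa b hb b' hb'
    · calc b * (b' * t) = (b * b') * t := by group
        _ = (b' * b) * t := by rw [hBa b hb b' hb']
        _ = b' * (b * t) := by group
        _ = b' * (t * b) := by rw [htb b hb]
        _ = b' * t * b := by group
    · calc b * t * b' = b * (t * b') := by group
        _ = b * (b' * t) := by rw [htb b' hb']
        _ = (b * b') * t := by group
        _ = (b' * b) * t := by rw [hBa b hb b' hb']
        _ = b' * (b * t) := by group
    · calc b * t * (b' * t) = b * (t * b') * t := by group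
        _ = b * (b' * t) * t := by rw [htb b' hb']
        _ = (b * b') * t * t := by group
        _ = (b' * b) * t * t := by rw [hBa b hb b' hb']
        _ = b' * (b * t) * t := by group
        _ = b' * (t * b) * t := by rw [htb b hb]
        _ = b' * t * (b * t) := by group
  · intro b hb; exact ⟨b, hb, Or.inl rfl⟩
  · exact ⟨1, B.one_mem, Or.inr (by group)⟩

/-- an element of `K` whose square is a square in `B` lies in `B` -/
theorem mem_of_sq_eq [Finite X] {A : Subgroup (MulAut X)} (h : Ctx X A) (B : Subgroup X)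
    [hBn : B.Normal] (hBa : Ab B) (hBi : Inv A B) (hfpf : Fpf A B) (hexp : ∃ b ∈ B, b * b ≠ 1)
    (m : X) (hm : InK B m) (d : X) (hd : d ∈ B) (hdm : d * d = m * m) : m ∈ B := by
  by_contra hmB
  have hdK : InK B d⁻¹ := inK_of_mem B hBa _ (B.inv_mem hd)
  have htK : InK B (m * d⁻¹) := InK.mul hm hdK
  have hmd : m * d⁻¹ = d⁻¹ * m := hm.1 _ (B.inv_mem hd)
  have ht2 : (m * d⁻¹) * (m * d⁻¹) = 1 := by
    calc (m * d⁻¹) * (m * d⁻¹) = m * (d⁻¹ * m) * d⁻¹ := by group
      _ = m * (m * d⁻¹) * d⁻¹ := by rw [hmd]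
      _ = (m * m) * d⁻¹ * d⁻¹ := by group
      _ = (d * d) * d⁻¹ * d⁻¹ := by rw [hdm]
      _ = 1 := by group
  have htB : m * d⁻¹ ∉ B := by
    intro hh
    apply hmB
    have : m = (m * d⁻¹) * d := by group
    rw [this]; exact B.mul_mem hh hd
  obtain ⟨N, hNn, hNa, hBN, htN⟩ := ext_by_invol B hBa _ htK ht2
  obtain ⟨b0, hb0B, hb0⟩ := hexp
  have hb01 : b0 ≠ 1 := by
    intro hh; apply hb0; rw [hh, one_mul]
  obtain ⟨j, hj1, hj2⟩ := exists_pow_invol h.h2 b0 hb01
  have hvB : b0 ^ j ∈ B := B.pow_mem hb0B j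
  obtain ⟨φ, hφ, -, hall⟩ := four_of_invol h B hBa hBi hfpf N hNn hNa hBN (b0 ^ j) hvB hj2 hj1
  have hφB : φ (b0 ^ j) ∈ B := hBi φ hφ _ hvB
  rcases hall _ htN ht2 with hv | hv | hv | hv
  · apply htB; rw [hv]; exact B.one_mem
  · apply htB; rw [hv]; exact hvB
  · apply htB; rw [hv]; exact hφB
  · apply htB; rw [hv]; exact B.mul_mem hvB hφB

/-- K10.  In case beta with `B` of exponent `> 2`, `B` is self-centralizing. -/
theorem beta_selfcent [Finite X] {A : Subgroup (MulAut X)} (h : Ctx X A) (B : Subgroup X)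
    (hB : MaxInv A B) (hfpf : Fpf A B) (hexp : ∃ b ∈ B, b * b ≠ 1)
    (hinv : 4 ≤ Nat.card {t : X // t ∈ Subgroup.center X ∧ t * t = 1} →
      ∀ M : Subgroup X, Ab M → ∀ t : X, t * t = 1 → (∀ x : X, x * t * x⁻¹ ∈ M) → t ∈ Subgroup.center X) :
    ∀ x : X, (∀ b ∈ B, x * b = b * x) → x ∈ B := by
  classical
  have _hinv := hinv
  obtain ⟨hBn, hBa, hBi, hBmax⟩ := hB
  haveI := hBn
  intro x0 hx0c
  by_contra hx0B
  obtain ⟨k0, hk0c, hk0B, hk0sq, hk0comm⟩ := exists_k h.h2 B x0 hx0c hx0B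
  have hk0K : InK B k0 := ⟨hk0c, hk0sq, hk0comm⟩
  have hKn : (Ksub B).Normal := ⟨fun k hk g => InK.conj hk g⟩
  have hKi : Inv A (Ksub B) := fun φ hφ k hk => InK.aut hBi hk φ hφ
  have hBK : B ≤ Ksub B := fun b hb => inK_of_mem B hBa b hb
  have hnab : ¬ Ab (Ksub B) := by
    intro hab
    have := hBmax (Ksub B) hKn hab hKi hBK
    apply hk0B
    rw [← this]; exact hk0K
  unfold Cfsg.Agent.Lib.Helper40.T1904.Ab at hnab
  push Not at hnab
  obtain ⟨k, hk, l, hl, hkl⟩ := hnab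
  have hk' : InK B k := hk
  have hl' : InK B l := hl
  obtain ⟨hcB, hcc, -⟩ := pair_facts hk' hl'
  obtain ⟨c, hc⟩ : ∃ c, c = ⁅k, l⁆ := ⟨_, rfl⟩
  rw [← hc] at hcB hcc
  have hc1 : c ≠ 1 := by
    intro hh
    rw [hc, commutatorElement_eq_one_iff_mul_comm] at hh
    exact hkl hh
  have hcinv : c⁻¹ = c := inv_eq_iff_mul_eq_one.mpr hcc
  -- the quotient `B / B²` and the squaring map on `K`
  haveI hRn : (sqHom B hBa).range.Normal := normal_of_ab B hBa _
  have hQ4 : Nat.card (↥B ⧸ (sqHom B hBa).range) ≤ 4 := card_quot_sq_le B hBa (h.hR B hBn hBa)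
  let qf : ↥(Ksub B) → ↥B ⧸ (sqHom B hBa).range := fun m =>
    QuotientGroup.mk ⟨(m : X) * (m : X), m.2.2.1⟩
  have hq_mul : ∀ m n : ↥(Ksub B), qf (m * n) = qf m * qf n := by
    intro m n
    obtain ⟨hcB', hcc', hsq⟩ := pair_facts m.2 n.2
    obtain ⟨c', hc'⟩ : ∃ c', c' = ⁅(m : X), (n : X)⁆ := ⟨_, rfl⟩
    rw [← hc'] at hcB' hcc' hsq
    have hcinv2 : c'⁻¹ * c'⁻¹ = 1 := by
      rw [← mul_inv_rev, hcc', inv_one]
    obtain ⟨d, hdB, hdd⟩ := invol_is_square h B hBn hBa hBi hfpf hexp _ (B.inv_mem hcB') hcinv2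
    have hY : c' * (((m : X) * (m : X)) * ((n : X) * (n : X))) =
        (((m : X) * (m : X)) * ((n : X) * (n : X))) * c' :=
      hBa _ hcB' _ (B.mul_mem m.2.2.1 n.2.2.1)
    show (QuotientGroup.mk _ : ↥B ⧸ (sqHom B hBa).range) = QuotientGroup.mk _ * QuotientGroup.mk _
    rw [← QuotientGroup.mk_mul, QuotientGroup.eq]
    refine ⟨⟨d, hdB⟩, ?_⟩
    apply Subtype.ext
    show d * d = (((m : X) * (n : X)) * ((m : X) * (n : X)))⁻¹ *
      (((m : X) * (m : X)) * ((n : X) * (n : X)))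
    rw [hdd, hsq, hY]; group
  let q : ↥(Ksub B) →* ↥B ⧸ (sqHom B hBa).range := MonoidHom.mk' qf hq_mul
  have hq_ker : ∀ m : ↥(Ksub B), q m = 1 → (m : X) ∈ B := by
    intro m hm
    have hm' : (QuotientGroup.mk ⟨(m : X) * (m : X), m.2.2.1⟩ : ↥B ⧸ (sqHom B hBa).range) = 1 := hm
    rw [QuotientGroup.eq_one_iff] at hm'
    obtain ⟨d, hd⟩ := hm'
    have hd' : (d : X) * (d : X) = (m : X) * (m : X) := congrArg Subtype.val hd
    exact mem_of_sq_eq h B hBa hBi hfpf hexp _ m.2 _ d.2 hd'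
  -- four distinct values
  let kK : ↥(Ksub B) := ⟨k, hk⟩
  let lK : ↥(Ksub B) := ⟨l, hl⟩
  have hqk : q kK ≠ 1 := by
    intro hh
    have hkB : k ∈ B := hq_ker kK hh
    exact hkl (hl'.1 k hkB).symm
  have hql : q lK ≠ 1 := by
    intro hh
    have hlB : l ∈ B := hq_ker lK hh
    exact hkl (hk'.1 l hlB)
  have hqkl : q kK ≠ q lK := by
    intro hh
    have h1 : q (kK⁻¹ * lK) = 1 := by rw [map_mul, map_inv, hh, inv_mul_cancel]
    have hbB : k⁻¹ * l ∈ B := hq_ker _ h1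
    have h2 := hk'.1 _ hbB
    apply hkl
    calc k * l = k * (k * (k⁻¹ * l)) := by group
      _ = k * ((k⁻¹ * l) * k) := by rw [h2]
      _ = l * k := by group
  have hqkl' : q kK * q lK ≠ 1 := by
    intro hh
    have h1 : q (kK * lK) = 1 := by rw [map_mul, hh]
    have hbB : k * l ∈ B := hq_ker _ h1
    have h2 := hk'.1 _ hbB
    apply hkl
    have h3 : k * (k * l) = k * (l * k) := by rw [h2]; group
    exact mul_left_cancel h3
  have hdecomp : ∀ m : X, InK B m →
      m ∈ B ∨ k⁻¹ * m ∈ B ∨ l⁻¹ * m ∈ B ∨ (k * l)⁻¹ * m ∈ B := by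
    intro m hm
    let mK : ↥(Ksub B) := ⟨m, hm⟩
    have := mem_of_four hQ4 1 (q kK) (q lK) (q kK * q lK) hqk.symm hql.symm hqkl'.symm hqkl
      (by
        intro hh
        apply hql
        have : q kK * 1 = q kK * q lK := by rw [mul_one]; exact hh
        exact (mul_left_cancel this).symm)
      (by
        intro hh
        apply hqk
        have : 1 * q lK = q kK * q lK := by rw [one_mul]; exact hh
        exact (mul_right_cancel this).symm)
      (q mK)
    rcases this with h5 | h5 | h5 | h5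
    · left; exact hq_ker mK h5
    · right; left
      have h1 : q (kK⁻¹ * mK) = 1 := by rw [map_mul, map_inv, h5, inv_mul_cancel]
      exact hq_ker _ h1
    · right; right; left
      have h1 : q (lK⁻¹ * mK) = 1 := by rw [map_mul, map_inv, h5, inv_mul_cancel]
      exact hq_ker _ h1
    · right; right; right
      have h1 : q ((kK * lK)⁻¹ * mK) = 1 := by
        rw [map_mul, map_inv, map_mul, h5, inv_mul_cancel]
      exact hq_ker _ h1
  -- closure lemma
  have hclos : ∀ n : X, InK B n → (⁅k, n⁆ = 1 ∨ ⁅k, n⁆ = c) → (⁅l, n⁆ = 1 ∨ ⁅l, n⁆ = c) →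
      ∀ m : X, InK B m → (⁅m, n⁆ = 1 ∨ ⁅m, n⁆ = c) := by
    intro n hn hkn hln m hm
    have hprod : ⁅k * l, n⁆ = 1 ∨ ⁅k * l, n⁆ = c := by
      rw [comm_mul_left hk' hl']
      rcases hkn with h1 | h1 <;> rcases hln with h2 | h2 <;> rw [h1, h2] <;> simp [hcc]
    rcases hdecomp m hm with hb | hb | hb | hb
    · left; exact comm_of_mem hb hn
    · have : m = k * (k⁻¹ * m) := by group
      rw [this, comm_mul_left hk' (inK_of_mem B hBa _ hb), comm_of_mem hb hn, one_mul]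
      exact hkn
    · have : m = l * (l⁻¹ * m) := by group
      rw [this, comm_mul_left hl' (inK_of_mem B hBa _ hb), comm_of_mem hb hn, one_mul]
      exact hln
    · have : m = (k * l) * ((k * l)⁻¹ * m) := by group
      rw [this, comm_mul_left (InK.mul hk' hl') (inK_of_mem B hBa _ hb), comm_of_mem hb hn, one_mul]
      exact hprod
  have hinvc : ∀ y : X, (y = 1 ∨ y = c) → (y⁻¹ = 1 ∨ y⁻¹ = c) := by
    rintro y (rfl | rfl)
    · left; exact inv_one
    · right; exact hcinv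
  have hlk : ⁅l, k⁆ = c := by rw [← commutatorElement_inv, ← hc, hcinv]
  have hallk : ∀ m : X, InK B m → (⁅m, k⁆ = 1 ∨ ⁅m, k⁆ = c) :=
    hclos k hk' (Or.inl (commutatorElement_self k)) (Or.inr hlk)
  have halll : ∀ m : X, InK B m → (⁅m, l⁆ = 1 ∨ ⁅m, l⁆ = c) :=
    hclos l hl' (Or.inr hc.symm) (Or.inl (commutatorElement_self l))
  have hall : ∀ m n : X, InK B m → InK B n → (⁅m, n⁆ = 1 ∨ ⁅m, n⁆ = c) := by
    intro m n hm hn
    apply hclos n hn _ _ m hm
    · rw [← commutatorElement_inv]; exact hinvc _ (hallk n hn)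
    · rw [← commutatorElement_inv]; exact hinvc _ (halll n hn)
  -- the final contradiction
  have hex : ∃ φ ∈ A, φ c ≠ c := by
    by_contra hno
    push Not at hno
    exact hc1 (hfpf c hcB hno)
  obtain ⟨φ, hφ, hφc⟩ := hex
  have h1 : ⁅φ k, φ l⁆ = φ c := by rw [hc, map_commutatorElement]
  rcases hall _ _ (InK.aut hBi hk' φ hφ) (InK.aut hBi hl' φ hφ) with h2 | h2
  · rw [h1] at h2
    exact hc1 ((map_eq_one_iff φ φ.injective).mp h2)
  · rw [h1] at h2
    exact hφc h2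

end Cfsg.Agent.Lib.Helper23.T1904
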